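import Cfsg.Agent.S2904
import Mathlib.RepresentationTheory.Basic
import Mathlib.Algebra.Field.ZMod
import Mathlib.RingTheory.Adjoin.Basic
import Mathlib.FieldTheory.Finite.Basic
import Mathlib.LinearAlgebra.FiniteDimensional.Basic
import Mathlib.Tactic.NormNum.GCD

/-!
# The dimension of a space moved by a power of an element of odd order
-/

set_option autoImplicit false
set_option linter.style.haveILetI false

namespace Cfsg.Agent.SEModule

open Module

/-- A divisor of `2 ^ n - 1`, not the whole, holding its common divisors with the smaller `2 ^ d - 1`. -/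
theorem exists_divisor {n : ℕ} (hn : 2 ≤ n) :
    ∃ M, M ∣ 2 ^ n - 1 ∧ ¬ (2 ^ n - 1) ∣ M ∧
      ∀ d, 0 < d → d < n → Nat.gcd (2 ^ n - 1) (2 ^ d - 1) ∣ M := by
  by_cases h6 : n = 6
  · subst h6
    refine ⟨21, by norm_num, by norm_num, fun d hd hd' => ?_⟩
    interval_cases d <;> norm_num
  obtain ⟨p, hp, hpd, hmin⟩ := Cfsg.Agent.S2904.result 2 n (by norm_num) (by omega) (fun h => h6 h.2)
    (by
      rintro ⟨-, m, hm⟩
      rcases m with _ | _ | m
      · simp at hm
      · simp at hm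
      · rw [pow_succ, pow_succ] at hm; omega)
  have hpos : 0 < 2 ^ n - 1 := Nat.sub_pos_of_lt (Nat.one_lt_two_pow (by omega))
  refine ⟨(2 ^ n - 1) / p, Nat.div_dvd_of_dvd hpd, fun h => ?_, fun d hd hd' => ?_⟩
  · exact absurd (Nat.le_of_dvd (Nat.div_pos (Nat.le_of_dvd hpos hpd) hp.pos) h)
      (not_le.2 (Nat.div_lt_self hpos hp.one_lt))
  · have hcop : Nat.Coprime (Nat.gcd (2 ^ n - 1) (2 ^ d - 1)) p :=
      (hp.coprime_iff_not_dvd.2 fun h => hmin d hd hd' (h.trans (Nat.gcd_dvd_right _ _))).symm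
    rw [Nat.dvd_div_iff_mul_dvd hpd]
    exact hcop.symm.mul_dvd_of_dvd_of_dvd hpd (Nat.gcd_dvd_left _ _)

variable {V : Type*} [AddCommGroup V] [Module (ZMod 2) V] [Module.Finite (ZMod 2) V]

/-- An invariant non-zero space in which no non-zero vector is fixed by the `M`-th power. -/
theorem le_finrank_of_fpf {g : End (ZMod 2) V} {N M n : ℕ} (hN : 0 < N) (hg : g ^ N = 1)
    (hM : ∀ d, 0 < d → d < n → Nat.gcd N (2 ^ d - 1) ∣ M) {A : Submodule (ZMod 2) V}
    (hA : A ≠ ⊥) (hgA : A.map g ≤ A) (hfpf : ∀ w ∈ A, (g ^ M) w = w → w = 0) :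
    n ≤ finrank (ZMod 2) A := by
  classical
  haveI : Finite V := Module.finite_of_finite (ZMod 2)
  haveI : Finite (Submodule (ZMod 2) V) :=
    Finite.of_injective ((↑) : Submodule (ZMod 2) V → Set V) SetLike.coe_injective
  -- a minimal invariant subspace
  obtain ⟨L, ⟨hLA, hL0, hgL⟩, hmin⟩ :=
    (Set.toFinite ({S : Submodule (ZMod 2) V | S ≤ A ∧ S ≠ ⊥ ∧ S.map g ≤ S})).exists_minimal
      ⟨A, le_rfl, hA, hgA⟩
  refine le_trans ?_ (Submodule.finrank_mono hLA)
  by_contra hlt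
  push Not at hlt
  set f : End (ZMod 2) L := LinearMap.restrict g (fun x hx => hgL ⟨x, hx, rfl⟩) with hf
  have hfapp : ∀ i (x : L), ((f ^ i) x : V) = (g ^ i) (x : V) := by
    intro i
    induction i with
    | zero => intro x; rfl
    | succ i ih => intro x; rw [pow_succ', pow_succ', Module.End.mul_apply, Module.End.mul_apply, ← ih x]; rfl
  let R := Algebra.adjoin (ZMod 2) {f}
  letI : CommRing R := Algebra.adjoinCommRingOfComm (ZMod 2) (fun a ha b hb => by
    rw [Set.mem_singleton_iff.1 ha, Set.mem_singleton_iff.1 hb])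
  have hcomm : ∀ r : R, (r : End (ZMod 2) L) * f = f * r := fun r =>
    (Algebra.commute_of_mem_adjoin_of_forall_mem_commute r.2 (fun b hb => by
      rw [Set.mem_singleton_iff.1 hb]; exact Commute.refl f)).symm.eq
  have hinj : ∀ r : R, r ≠ 0 → ∀ x : L, (r : End (ZMod 2) L) x = 0 → x = 0 := by
    intro r hr x hx
    by_contra hx0
    refine hr (Subtype.ext (LinearMap.ext fun y => ?_))
    have hy : (y : V) ∈ (LinearMap.ker (r : End (ZMod 2) L)).map L.subtype := by
      refine hmin ⟨(Submodule.map_subtype_le _ _).trans hLA, ?_, ?_⟩ (Submodule.map_subtype_le _ _) y.2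
      · exact (Submodule.ne_bot_iff _).2 ⟨x, ⟨x, hx, rfl⟩, fun e => hx0 (Subtype.ext e)⟩
      · rintro _ ⟨_, ⟨z, hz, rfl⟩, rfl⟩
        refine ⟨f z, ?_, rfl⟩
        show (r : End (ZMod 2) L) (f z) = 0
        rw [← Module.End.mul_apply, hcomm, Module.End.mul_apply, LinearMap.mem_ker.1 hz, map_zero]
    obtain ⟨z, hz, hzy⟩ := hy
    have : z = y := Subtype.ext hzy
    rw [← this]
    exact hz
  haveI : Nontrivial L := Submodule.nontrivial_iff_ne_bot.2 hL0
  obtain ⟨w, hw⟩ := exists_ne (0 : L)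
  haveI : NoZeroDivisors R := ⟨fun {a b} hab => by
    by_contra h
    push Not at h
    have h1 : (a : End (ZMod 2) L) ((b : End (ZMod 2) L) w) = 0 := by
      rw [← Module.End.mul_apply]
      exact congrArg (fun r : R => (r : End (ZMod 2) L) w) hab
    exact hw (hinj b h.2 w (hinj a h.1 _ h1))⟩
  haveI : Nontrivial R := ⟨⟨1, 0, fun h => hw (congrArg (fun r : R => (r : End (ZMod 2) L) w) h)⟩⟩
  haveI : IsDomain R := NoZeroDivisors.to_isDomain R
  haveI : Finite (End (ZMod 2) L) := Module.finite_of_finite (ZMod 2)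
  haveI : Finite R := Subtype.finite
  haveI : Fintype R := Fintype.ofFinite R
  have hcard : Fintype.card R = 2 ^ finrank (ZMod 2) L := by
    have hev : Function.Bijective (fun r : R => (r : End (ZMod 2) L) w) := by
      refine ⟨fun a b h => ?_, fun y => ?_⟩
      · by_contra hne
        exact hw (hinj (a - b) (sub_ne_zero.2 hne) w (by simp [sub_eq_zero, h]))
      · have hy : (y : V) ∈ LinearMap.range (L.subtype ∘ₗ (LinearMap.applyₗ w ∘ₗ (Subalgebra.toSubmodule R).subtype)) := by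
          refine hmin ⟨?_, ?_, ?_⟩ ?_ y.2
          · rintro _ ⟨r, rfl⟩; exact hLA (Subtype.mem _)
          · exact (Submodule.ne_bot_iff _).2 ⟨w, ⟨⟨1, one_mem R⟩, rfl⟩, fun e => hw (Subtype.ext e)⟩
          · rintro _ ⟨_, ⟨r, rfl⟩, rfl⟩
            exact ⟨⟨f * r.1, R.mul_mem (Algebra.subset_adjoin (Set.mem_singleton f)) r.2⟩, rfl⟩
          · rintro _ ⟨r, rfl⟩; exact Subtype.mem _
        obtain ⟨r, hr⟩ := hy
        exact ⟨⟨r.1, r.2⟩, Subtype.ext hr⟩
    rw [← Nat.card_eq_fintype_card, Nat.card_eq_of_bijective _ hev, Module.natCard_eq_pow_finrank (K := ZMod 2),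
      Nat.card_zmod]
  letI : Field R := Fintype.fieldOfDomain R
  let φ : R := ⟨f, Algebra.subset_adjoin (Set.mem_singleton f)⟩
  have hφN : φ ^ N = 1 := Subtype.ext (LinearMap.ext fun x => Subtype.ext (by
    show ((f ^ N) x : V) = (x : V)
    rw [hfapp, hg]; rfl))
  have hφ0 : φ ≠ 0 := fun h => by
    rw [h, zero_pow hN.ne'] at hφN; exact zero_ne_one hφN
  have hφc : φ ^ (2 ^ finrank (ZMod 2) L - 1) = 1 := by
    rw [← hcard]; exact FiniteField.pow_card_sub_one_eq_one φ hφ0
  have hφg := pow_gcd_eq_one.2 ⟨hφN, hφc⟩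
  obtain ⟨q, hq⟩ := hM _ (Nat.pos_of_ne_zero fun h => hL0 (Submodule.finrank_eq_zero.1 h)) hlt
  have hφM : φ ^ M = 1 := by rw [hq, pow_mul, hφg, one_pow]
  refine hw (Subtype.ext (hfpf _ (hLA w.2) ?_))
  rw [← hfapp]
  exact congrArg (fun r : R => ((r : End (ZMod 2) L) w : V)) hφM

end Cfsg.Agent.SEModule
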