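import Mathlib.RepresentationTheory.Basic
import Mathlib.Algebra.Field.ZMod
import Mathlib.LinearAlgebra.FiniteDimensional.Basic
import Mathlib.LinearAlgebra.Dimension.RankNullity
import Mathlib.GroupTheory.OrderOfElement
import Mathlib.GroupTheory.PGroup
import Mathlib.Algebra.Group.Subgroup.Pointwise
import Mathlib.Algebra.BigOperators.Group.Finset.Basic
import Mathlib.Tactic.Group
import Mathlib.Tactic.Ring

/-!
# Ranks of `ρ g - 1` over the field with two elements
-/

set_option autoImplicit false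
set_option linter.style.haveILetI false

namespace Cfsg.Agent.SEModule

open Module

variable {V : Type*} [AddCommGroup V] [Module (ZMod 2) V]

theorem vec_add_self (v : V) : v + v = 0 := by
  rw [← two_smul (ZMod 2) v, show (2 : ZMod 2) = 0 from rfl, zero_smul]

theorem vec_sub (v w : V) : v - w = v + w := by
  rw [sub_eq_add_neg, neg_eq_of_add_eq_zero_left (vec_add_self w)]

theorem odd_nsmul {m : ℕ} (hm : Odd m) (v : V) : m • v = v := by
  obtain ⟨k, rfl⟩ := hm
  rw [succ_nsmul, two_mul, add_nsmul, vec_add_self, zero_add]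

/-- The dimension of the image of a subspace. -/
noncomputable def rkOn (f : End (ZMod 2) V) (A : Submodule (ZMod 2) V) : ℕ := finrank (ZMod 2) (A.map f)

theorem rkOn_top (f : End (ZMod 2) V) : rkOn f ⊤ = finrank (ZMod 2) (LinearMap.range f) := by
  rw [rkOn, Submodule.map_top]

variable [Module.Finite (ZMod 2) V]

theorem rkOn_mono (f : End (ZMod 2) V) {A B : Submodule (ZMod 2) V} (h : A ≤ B) : rkOn f A ≤ rkOn f B :=
  Submodule.finrank_mono (Submodule.map_mono h)

theorem rk_mul_le (f g : End (ZMod 2) V) :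
    finrank (ZMod 2) (LinearMap.range (f * g - 1)) ≤
      finrank (ZMod 2) (LinearMap.range (f - 1)) + finrank (ZMod 2) (LinearMap.range (g - 1)) := by
  have hle : LinearMap.range (f * g - 1) ≤ LinearMap.range (f - 1) ⊔ (LinearMap.range (g - 1)).map f := by
    rintro _ ⟨v, rfl⟩
    refine Submodule.mem_sup.2 ⟨(f - 1) v, ⟨v, rfl⟩, f ((g - 1) v), ⟨_, ⟨v, rfl⟩, rfl⟩, ?_⟩
    simp only [LinearMap.sub_apply, Module.End.one_apply, Module.End.mul_apply, map_sub]
    abel
  exact ((Submodule.finrank_mono hle).trans (Submodule.finrank_add_le_finrank_add_finrank _ _)).trans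
    (Nat.add_le_add_left (Submodule.finrank_map_le f _) _)

theorem rk_mul_left_le (f g : End (ZMod 2) V) :
    finrank (ZMod 2) (LinearMap.range (f * g)) ≤ finrank (ZMod 2) (LinearMap.range g) := by
  rw [Module.End.mul_eq_comp, LinearMap.range_comp]
  exact Submodule.finrank_map_le f _

theorem rk_mul_right_le (f g : End (ZMod 2) V) :
    finrank (ZMod 2) (LinearMap.range (f * g)) ≤ finrank (ZMod 2) (LinearMap.range f) :=
  Submodule.finrank_mono (LinearMap.range_comp_le_range g f)

variable {G : Type*} [Group G] (ρ : Representation (ZMod 2) G V)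

theorem rk_conj (g x : G) :
    finrank (ZMod 2) (LinearMap.range (ρ (g * x * g⁻¹) - 1)) = finrank (ZMod 2) (LinearMap.range (ρ x - 1)) := by
  have key : ∀ g x : G, finrank (ZMod 2) (LinearMap.range (ρ (g * x * g⁻¹) - 1)) ≤
      finrank (ZMod 2) (LinearMap.range (ρ x - 1)) := by
    intro g x
    have e : ρ (g * x * g⁻¹) - 1 = ρ g * ((ρ x - 1) * ρ g⁻¹) := by
      rw [sub_mul, mul_sub, one_mul, ← map_mul, ← map_mul, ← map_mul, mul_inv_cancel, map_one, mul_assoc]
    rw [e]
    exact (rk_mul_left_le _ _).trans (rk_mul_right_le _ _)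
  refine le_antisymm (key g x) ?_
  have h := key g⁻¹ (g * x * g⁻¹)
  rwa [show g⁻¹ * (g * x * g⁻¹) * g⁻¹⁻¹ = x by group] at h

/-- An element of odd order inverted by an involution moves at most twice as much as the involution. -/
theorem rk_inverted {t y : G} (ht : t * t = 1) (hy : t * y * t = y⁻¹) (hodd : Odd (orderOf y)) :
    finrank (ZMod 2) (LinearMap.range (ρ y - 1)) ≤ 2 * finrank (ZMod 2) (LinearMap.range (ρ t - 1)) := by
  obtain ⟨m, hm⟩ := hodd
  set u := y ^ (m + 1) with hu
  have huu : u * u = y := by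
    rw [hu, ← pow_add, show m + 1 + (m + 1) = 2 * m + 1 + 1 by ring, pow_succ, ← hm, pow_orderOf_eq_one,
      one_mul]
  have hti : t⁻¹ = t := inv_eq_of_mul_eq_one_right ht
  have htu : t * u * t = u⁻¹ := by
    have h : (t * y * t⁻¹) ^ (m + 1) = t * y ^ (m + 1) * t⁻¹ := conj_pow
    rw [hti, hy, inv_pow] at h
    exact h.symm
  have e : u⁻¹ * t * u⁻¹⁻¹ = t * y := by
    rw [inv_inv, ← htu, ← huu]
    calc t * u * t * t * u = t * u * (t * t) * u := by group
      _ = t * (u * u) := by rw [ht, mul_one, mul_assoc]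
  calc finrank (ZMod 2) (LinearMap.range (ρ y - 1))
      = finrank (ZMod 2) (LinearMap.range (ρ t * ρ (t * y) - 1)) := by
        rw [← map_mul, ← mul_assoc, ht, one_mul]
    _ ≤ finrank (ZMod 2) (LinearMap.range (ρ t - 1)) + finrank (ZMod 2) (LinearMap.range (ρ (t * y) - 1)) :=
        rk_mul_le _ _
    _ = _ := by rw [← e, rk_conj, two_mul]

omit [Module.Finite (ZMod 2) V] in
/-- The average over the powers of an element of odd order. -/
theorem isCompl_of_odd {g : End (ZMod 2) V} {N : ℕ} (hN : Odd N) (hg : g ^ N = 1) :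
    IsCompl (LinearMap.ker (g - 1)) (LinearMap.range (g - 1)) := by
  set e : End (ZMod 2) V := ∑ i ∈ Finset.range N, g ^ i with he
  have he1 : ∀ v, g v = v → e v = v := by
    intro v hv
    have hp : ∀ i, (g ^ i) v = v := fun i => by
      induction i with
      | zero => rw [pow_zero, Module.End.one_apply]
      | succ i ih => rw [pow_succ, Module.End.mul_apply, hv, ih]
    rw [he, LinearMap.sum_apply, Finset.sum_congr rfl fun i _ => hp i, Finset.sum_const, Finset.card_range,
      odd_nsmul hN]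
  have he2 : e * (g - 1) = 0 := by
    rw [he, geom_sum_mul, hg, sub_self]
  have he3 : (g - 1) * e = 0 := by
    rw [he, mul_geom_sum, hg, sub_self]
  refine ⟨disjoint_iff.2 ((Submodule.eq_bot_iff _).2 ?_), codisjoint_iff.2 (eq_top_iff.2 fun v _ => ?_)⟩
  · rintro v ⟨hv, w, rfl⟩
    have h1 : g ((g - 1) w) = (g - 1) w := by
      have h := LinearMap.mem_ker.1 hv
      rwa [LinearMap.sub_apply, Module.End.one_apply, sub_eq_zero] at h
    rw [← he1 _ h1, ← Module.End.mul_apply, he2, LinearMap.zero_apply]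
  · refine Submodule.mem_sup.2 ⟨e v, LinearMap.mem_ker.2 ?_, v - e v, ?_, add_sub_cancel _ _⟩
    · rw [← Module.End.mul_apply, he3, LinearMap.zero_apply]
    · have hd : ∀ i, v - (g ^ i) v ∈ LinearMap.range (g - 1) := fun i => by
        induction i with
        | zero => simp
        | succ i ih =>
          have h1 : (g - 1) (-((g ^ i) v)) ∈ LinearMap.range (g - 1) := ⟨_, rfl⟩
          convert add_mem ih h1 using 1
          rw [pow_succ', Module.End.mul_apply, LinearMap.sub_apply, Module.End.one_apply, map_neg]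
          abel
      have h2 : (∑ i ∈ Finset.range N, (v - (g ^ i) v)) = v - e v := by
        rw [Finset.sum_sub_distrib, Finset.sum_const, Finset.card_range, odd_nsmul hN, he,
          LinearMap.sum_apply]
      rw [← h2]
      exact Submodule.sum_mem _ fun i _ => hd i

/-- Images of two disjoint invariant subspaces add up. -/
theorem rkOn_add_le (f : End (ZMod 2) V) {A B C : Submodule (ZMod 2) V} (hd : Disjoint A B)
    (hA : A.map f ≤ A) (hB : B.map f ≤ B) (hC : A ⊔ B ≤ C) : rkOn f A + rkOn f B ≤ rkOn f C := by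
  have h1 : A.map f ⊔ B.map f ≤ C.map f := by rw [← Submodule.map_sup]; exact Submodule.map_mono hC
  have h2 := Submodule.finrank_sup_add_finrank_inf_eq (A.map f) (B.map f)
  rw [disjoint_iff.1 (hd.mono hA hB), finrank_bot, add_zero] at h2
  unfold rkOn
  rw [← h2]
  exact Submodule.finrank_mono h1

/-- An elementary abelian r-group of order at least `r ^ n` inverted by an element of square one: that
element has rank at least `n`. -/
theorem rkOn_of_inverted [Finite G] {r : ℕ} [hr : Fact r.Prime] (hr2 : r ≠ 2) :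
    ∀ (d n : ℕ) (U : Subgroup G) (a : G) (A : Submodule (ZMod 2) V), finrank (ZMod 2) A ≤ d → a * a = 1 →
      (∀ u ∈ U, ∀ v ∈ U, u * v = v * u) → (∀ u ∈ U, u ^ r = 1) → (∀ u ∈ U, a * u * a = u⁻¹) →
      (∀ u ∈ U, A.map (ρ u) ≤ A) → A.map (ρ a) ≤ A →
      (∀ u ∈ U, (∀ w ∈ A, ρ u w = w) → u = 1) → r ^ n ≤ Nat.card U → n ≤ rkOn (ρ a - 1) A := by
  have hrodd : Odd r := hr.out.odd_of_ne_two hr2
  intro d
  induction d with
  | zero =>
    intro n U a A hd _ _ _ _ _ _ hfaith hcard
    have hA : A = ⊥ := Submodule.finrank_eq_zero.1 (Nat.le_zero.1 hd)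
    have hU : U = ⊥ := (Subgroup.eq_bot_iff_forall _).2 fun u hu => hfaith u hu fun w hw => by
      rw [hA, Submodule.mem_bot] at hw
      rw [hw, map_zero]
    rw [hU, Subgroup.card_bot] at hcard
    have : n = 0 := by
      by_contra h
      exact absurd hcard (not_le.2 (Nat.one_lt_pow h hr.out.one_lt))
    omega
  | succ d ih =>
    intro n U a A hd ha hcomm hexp hinv hUA haA hfaith hcard
    have hai : a⁻¹ = a := inv_eq_of_mul_eq_one_right ha
    have hsub : ∀ {g : End (ZMod 2) V}, A.map g ≤ A → A.map (g - 1) ≤ A := fun {g} hg => by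
      rintro _ ⟨w, hw, rfl⟩
      exact sub_mem (hg ⟨w, hw, rfl⟩) hw
    rcases Nat.eq_zero_or_pos n with rfl | hn
    · exact Nat.zero_le _
    -- `a` moves `A`
    have hmove : 0 < rkOn (ρ a - 1) A := by
      by_contra h
      have h0 : A.map (ρ a - 1) = ⊥ := Submodule.finrank_eq_zero.1 (Nat.eq_zero_of_not_pos h)
      have hfix : ∀ w ∈ A, ρ a w = w := fun w hw => by
        have h1 : (ρ a - 1) w ∈ A.map (ρ a - 1) := Submodule.mem_map_of_mem hw
        rwa [h0, Submodule.mem_bot, LinearMap.sub_apply, Module.End.one_apply, sub_eq_zero] at h1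
      have hU : U = ⊥ := (Subgroup.eq_bot_iff_forall _).2 fun u hu => hfaith u hu fun w hw => by
        have h1 : ρ u⁻¹ w = ρ u w := by
          rw [← hinv u hu, map_mul, map_mul, Module.End.mul_apply, Module.End.mul_apply, hfix w hw,
            hfix _ (hUA u hu ⟨w, hw, rfl⟩)]
        have h2 : ρ (u * u) w = w := by
          rw [map_mul, Module.End.mul_apply, ← h1, ← Module.End.mul_apply, ← map_mul, mul_inv_cancel,
            map_one, Module.End.one_apply]
        obtain ⟨m, hm⟩ := hrodd
        have h3 : u = (u * u) ^ (m + 1) := by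
          rw [← pow_two, ← pow_mul, show 2 * (m + 1) = r + 1 by omega, pow_succ, hexp u hu, one_mul]
        rw [h3]
        generalize u * u = z at h2 ⊢
        induction m + 1 with
        | zero => rw [pow_zero, map_one, Module.End.one_apply]
        | succ i ih' => rw [pow_succ, map_mul, Module.End.mul_apply, h2, ih']
      rw [hU, Subgroup.card_bot] at hcard
      exact absurd hcard (not_le.2 (Nat.one_lt_pow hn.ne' hr.out.one_lt))
    rcases Nat.lt_or_ge n 2 with hn2 | hn2
    · omega
    -- a non-trivial element of `U` with a fixed vector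
    obtain ⟨u, hu, hu1, w, hwA, hw0, hwu⟩ : ∃ u ∈ U, u ≠ 1 ∧ ∃ w ∈ A, w ≠ 0 ∧ ρ u w = w := by
      have hbig : r < Nat.card U := lt_of_lt_of_le (by
        calc r = r ^ 1 := (pow_one r).symm
          _ < r ^ n := Nat.pow_lt_pow_right hr.out.one_lt hn2) hcard
      obtain ⟨g, hg, hg1⟩ : ∃ g ∈ U, g ≠ 1 := by
        by_contra h
        push Not at h
        rw [(Subgroup.eq_bot_iff_forall U).2 h, Subgroup.card_bot] at hbig
        exact absurd hbig (not_lt.2 hr.out.one_le)
      obtain ⟨h, hh, hhg⟩ : ∃ h ∈ U, h ∉ Subgroup.zpowers g := by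
        by_contra hno
        push Not at hno
        have h1 := Nat.le_of_dvd Nat.card_pos (Subgroup.card_dvd_of_le (show U ≤ Subgroup.zpowers g from hno))
        rw [Nat.card_zpowers] at h1
        have h2 := Nat.le_of_dvd hr.out.pos (orderOf_dvd_of_pow_eq_one (hexp g hg))
        omega
      obtain ⟨v, hvA, hv0⟩ : ∃ v ∈ A, v ≠ 0 := by
        by_contra hno
        push Not at hno
        exact hg1 (hfaith g hg fun v hv => by rw [hno v hv, map_zero])
      by_contra hno
      push Not at hno
      have hzero : ∀ x ∈ U, x ≠ 1 → (∑ j ∈ Finset.range r, ρ (x ^ j) v) = 0 := fun x hx hx1 => by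
        by_contra hne
        refine hno x hx hx1 _ (Submodule.sum_mem _ fun j _ => hUA _ (pow_mem hx j) ⟨v, hvA, rfl⟩) hne ?_
        rw [map_sum]
        have e : ∀ j, ρ x (ρ (x ^ j) v) = ρ (x ^ (j + 1)) v := fun j => by
          rw [← Module.End.mul_apply, ← map_mul, ← pow_succ']
        rw [Finset.sum_congr rfl fun j _ => e j]
        have h1 := Finset.sum_range_succ' (fun j => ρ (x ^ j) v) r
        rw [Finset.sum_range_succ, hexp x hx, pow_zero] at h1
        exact add_right_cancel h1.symm
      have h1 : (∑ i ∈ Finset.range r, ∑ j ∈ Finset.range r, ρ ((g * h ^ i) ^ j) v) = 0 := by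
        refine Finset.sum_eq_zero fun i hi => hzero _ (mul_mem hg (pow_mem hh i)) fun e => hhg ?_
        have hh1 : h ≠ 1 := fun e' => hhg (by rw [e']; exact one_mem _)
        have hord : orderOf h = r := orderOf_eq_prime (hexp h hh) hh1
        rcases Nat.eq_zero_or_pos i with rfl | hipos
        · rw [pow_zero, mul_one] at e; exact absurd e hg1
        have hcop : (orderOf h).Coprime i := by
          rw [hord, hr.out.coprime_iff_not_dvd]
          exact fun hd' => absurd (Nat.le_of_dvd hipos hd') (not_le.2 (Finset.mem_range.1 hi))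
        obtain ⟨m, hm⟩ := exists_pow_eq_self_of_coprime hcop.symm
        rw [← hm, eq_inv_of_mul_eq_one_right e]
        exact pow_mem (inv_mem (Subgroup.mem_zpowers g)) m
      rw [Finset.sum_comm] at h1
      refine hv0 ?_
      rw [Finset.sum_eq_single_of_mem 0 (Finset.mem_range.2 hr.out.pos)] at h1
      · simpa [odd_nsmul hrodd] using h1
      · intro j hj hj0
        have e : ∀ i, ρ ((g * h ^ i) ^ j) v = ρ (g ^ j) (ρ ((h ^ j) ^ i) v) := fun i => by
          rw [← Module.End.mul_apply, ← map_mul,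
            (show Commute g (h ^ i) from hcomm g hg _ (pow_mem hh i)).mul_pow, pow_right_comm]
        rw [Finset.sum_congr rfl fun i _ => e i, ← map_sum,
          hzero _ (pow_mem hh j) fun e' => hj0 ?_, map_zero]
        have hh1 : h ≠ 1 := fun e'' => hhg (by rw [e'']; exact one_mem _)
        have hd' := orderOf_dvd_of_pow_eq_one e'
        rw [orderOf_eq_prime (hexp h hh) hh1] at hd'
        exact Nat.eq_zero_of_dvd_of_lt hd' (Finset.mem_range.1 hj)
    set C := A ⊓ LinearMap.ker (ρ u - 1) with hC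
    set W := A.map (ρ u - 1) with hW
    have hmemC : ∀ {z}, z ∈ C ↔ z ∈ A ∧ ρ u z = z := fun {z} => by
      rw [hC, Submodule.mem_inf, LinearMap.mem_ker, LinearMap.sub_apply, Module.End.one_apply, sub_eq_zero]
    have hcompl := isCompl_of_odd hrodd (g := ρ u) (by rw [← map_pow, hexp u hu, map_one])
    have hWA : W ≤ A := hsub (hUA u hu)
    have hd' : Disjoint C W := hcompl.disjoint.mono inf_le_right (LinearMap.map_le_range)
    have hsum : A = C ⊔ W := by
      refine le_antisymm (fun z hz => ?_) (sup_le inf_le_left hWA)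
      set e : End (ZMod 2) V := ∑ i ∈ Finset.range r, ρ u ^ i with he
      have hez : e z ∈ A := by
        rw [he, LinearMap.sum_apply]
        refine Submodule.sum_mem _ fun i _ => ?_
        rw [← map_pow]
        exact hUA _ (pow_mem hu i) ⟨z, hz, rfl⟩
      refine Submodule.mem_sup.2 ⟨e z, ⟨hez, LinearMap.mem_ker.2 ?_⟩, z - e z, ?_, add_sub_cancel _ _⟩
      · rw [← Module.End.mul_apply, he, mul_geom_sum, ← map_pow, hexp u hu, map_one, sub_self,
          LinearMap.zero_apply]
      · have hd2 : ∀ i, z - (ρ u ^ i) z ∈ W := fun i => by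
          induction i with
          | zero => simp
          | succ i ih' =>
            have hmem : (ρ u ^ i) z ∈ A := by rw [← map_pow]; exact hUA _ (pow_mem hu i) ⟨z, hz, rfl⟩
            have h1 : (ρ u - 1) (-((ρ u ^ i) z)) ∈ W := Submodule.mem_map_of_mem (neg_mem hmem)
            convert add_mem ih' h1 using 1
            rw [pow_succ', Module.End.mul_apply, LinearMap.sub_apply, Module.End.one_apply, map_neg]
            abel
        have h2 : (∑ i ∈ Finset.range r, (z - (ρ u ^ i) z)) = z - e z := by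
          rw [Finset.sum_sub_distrib, Finset.sum_const, Finset.card_range, odd_nsmul hrodd, he,
            LinearMap.sum_apply]
        rw [← h2]
        exact Submodule.sum_mem _ fun i _ => hd2 i
    have hdim := Submodule.finrank_sup_add_finrank_inf_eq C W
    rw [← hsum, disjoint_iff.1 hd', finrank_bot, add_zero] at hdim
    have hC0 : 0 < finrank (ZMod 2) C := by
      refine Nat.pos_of_ne_zero fun h => hw0 ?_
      have h' : w ∈ C := hmemC.2 ⟨hwA, hwu⟩
      rwa [Submodule.finrank_eq_zero.1 h, Submodule.mem_bot] at h'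
    have hW0 : 0 < finrank (ZMod 2) W := by
      refine Nat.pos_of_ne_zero fun h => hu1 (hfaith u hu fun z hz => ?_)
      have h' : (ρ u - 1) z ∈ W := Submodule.mem_map_of_mem hz
      rwa [Submodule.finrank_eq_zero.1 h, Submodule.mem_bot, LinearMap.sub_apply, Module.End.one_apply,
        sub_eq_zero] at h'
    have hUC : ∀ v ∈ U, C.map (ρ v) ≤ C := fun v hv => by
      rintro _ ⟨z, hz, rfl⟩
      obtain ⟨hzA, hzu⟩ := hmemC.1 hz
      refine hmemC.2 ⟨hUA v hv ⟨z, hzA, rfl⟩, ?_⟩
      rw [← Module.End.mul_apply, ← map_mul, hcomm u hu v hv, map_mul, Module.End.mul_apply, hzu]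
    have hUW : ∀ v ∈ U, W.map (ρ v) ≤ W := fun v hv => by
      rintro _ ⟨_, ⟨z, hz, rfl⟩, rfl⟩
      refine ⟨ρ v z, hUA v hv ⟨z, hz, rfl⟩, ?_⟩
      simp only [LinearMap.sub_apply, Module.End.one_apply, map_sub]
      rw [← Module.End.mul_apply, ← map_mul, hcomm u hu v hv, map_mul, Module.End.mul_apply]
    have hau : a * u = u⁻¹ * a := by
      rw [← hinv u hu, mul_assoc, ha, mul_one]
    have haC : C.map (ρ a) ≤ C := by
      rintro _ ⟨z, hz, rfl⟩
      obtain ⟨hzA, hzu⟩ := hmemC.1 hz
      refine hmemC.2 ⟨haA ⟨z, hzA, rfl⟩, ?_⟩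
      have hzu' : ρ u⁻¹ z = z := by
        conv_lhs => rw [← hzu]
        rw [← Module.End.mul_apply, ← map_mul, inv_mul_cancel, map_one, Module.End.one_apply]
      rw [← Module.End.mul_apply, ← map_mul, show u * a = a * u⁻¹ by
        have : a * (a * u) * a = a * (u⁻¹ * a) * a := by rw [hau]
        rw [show a * (a * u) * a = (a * a) * u * a by group, ha, one_mul,
          show a * (u⁻¹ * a) * a = a * u⁻¹ * (a * a) by group, ha, mul_one] at this
        exact this, map_mul, Module.End.mul_apply, hzu']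
    have haW : W.map (ρ a) ≤ W := by
      rintro _ ⟨_, ⟨z, hz, rfl⟩, rfl⟩
      refine ⟨-(ρ u⁻¹ (ρ a z)), neg_mem (hUA _ (inv_mem hu) ⟨_, haA ⟨z, hz, rfl⟩, rfl⟩), ?_⟩
      simp only [LinearMap.sub_apply, Module.End.one_apply, map_sub, map_neg]
      rw [← Module.End.mul_apply, ← map_mul, mul_inv_cancel, map_one, Module.End.one_apply,
        ← Module.End.mul_apply (ρ a) (ρ u), ← map_mul, hau, map_mul, Module.End.mul_apply]
      abel
    -- the subgroup fixing `C` and a complement to it
    let K : Subgroup G :=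
      { carrier := {v | v ∈ U ∧ ∀ z ∈ C, ρ v z = z}
        one_mem' := ⟨one_mem U, fun z _ => by rw [map_one, Module.End.one_apply]⟩
        mul_mem' := fun {x y} hx hy => ⟨mul_mem hx.1 hy.1, fun z hz => by
          rw [map_mul, Module.End.mul_apply, hy.2 z hz, hx.2 z hz]⟩
        inv_mem' := fun {x} hx => ⟨inv_mem hx.1, fun z hz => by
          conv_lhs => rw [← hx.2 z hz]
          rw [← Module.End.mul_apply, ← map_mul, inv_mul_cancel, map_one, Module.End.one_apply]⟩ }
    classical
    haveI : Finite (Subgroup G) := Finite.of_injective ((↑) : Subgroup G → Set G) SetLike.coe_injective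
    obtain ⟨U', ⟨hU'U, hU'K⟩, hmax⟩ := (Set.toFinite ({S : Subgroup G | S ≤ U ∧ S ⊓ K = ⊥})).exists_maximal
      ⟨⊥, bot_le, bot_inf_eq K⟩
    have hprod : ∀ x ∈ U, ∃ s ∈ U', ∃ k ∈ K, x = s * k := by
      intro x hx
      by_cases hxU' : x ∈ U'
      · exact ⟨x, hxU', 1, one_mem K, (mul_one x).symm⟩
      have hS : U' ⊔ Subgroup.zpowers x ≤ U := sup_le hU'U ((Subgroup.zpowers_le).2 hx)
      have hne : (U' ⊔ Subgroup.zpowers x) ⊓ K ≠ ⊥ := fun h =>
        hxU' (hmax ⟨hS, h⟩ le_sup_left (Subgroup.mem_sup_right (Subgroup.mem_zpowers x)))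
      obtain ⟨⟨k, hk⟩, hk1⟩ := Subgroup.ne_bot_iff_exists_ne_one.1 hne
      obtain ⟨hksup, hkK⟩ := Subgroup.mem_inf.1 hk
      have hnorm : U' ≤ Subgroup.normalizer (Subgroup.zpowers x : Set G) := fun s hs =>
        Subgroup.mem_normalizer_fintype fun z hz => by
          rw [hcomm s (hU'U hs) z ((Subgroup.zpowers_le.2 hx) hz), mul_inv_cancel_right]
          exact hz
      rw [← SetLike.mem_coe, Subgroup.coe_mul_of_left_le_normalizer_right _ _ hnorm] at hksup
      obtain ⟨s, hs, z, hz, rfl⟩ := Set.mem_mul.1 hksup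
      obtain ⟨j, rfl⟩ := Subgroup.mem_zpowers_iff.1 hz
      have hx1 : x ≠ 1 := fun e => hxU' (by rw [e]; exact one_mem _)
      have hj : ¬ (r : ℤ) ∣ j := fun ⟨q, hq⟩ => hk1 (Subtype.ext (by
        have e1 : x ^ j = 1 := by rw [hq, zpow_mul, zpow_natCast, hexp x hx, one_zpow]
        have e2 : s ∈ U' ⊓ K := ⟨hs, by simpa [e1] using hkK⟩
        rw [hU'K, Subgroup.mem_bot] at e2
        simp [e1, e2]))
      obtain ⟨p, q, hpq⟩ := (Int.isCoprime_iff_gcd_eq_one.2 (by
        rcases (Nat.dvd_prime hr.out).1 (show Int.gcd j r ∣ r by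
          exact_mod_cast Int.gcd_dvd_right j (r : ℤ)) with h | h
        · exact h
        · exact absurd (h ▸ Int.gcd_dvd_left j (r : ℤ)) hj) : IsCoprime j (r : ℤ))
      refine ⟨(s ^ p)⁻¹, inv_mem (zpow_mem hs p), (s * x ^ j) ^ p, zpow_mem hkK p, ?_⟩
      have hc : Commute s (x ^ j) := hcomm s (hU'U hs) _ (zpow_mem hx j)
      rw [hc.mul_zpow, inv_mul_cancel_left, ← zpow_mul]
      have e : j * p = 1 - q * r := by linarith
      rw [e, zpow_sub, zpow_one, mul_comm q, zpow_mul, zpow_natCast, hexp x hx, one_zpow, inv_one, mul_one]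
    have hpU : ∀ S : Subgroup G, S ≤ U → ∃ k, Nat.card S = r ^ k := fun S hS =>
      IsPGroup.iff_card.1 fun s => ⟨1, Subtype.ext (by simpa using hexp s (hS s.2))⟩
    obtain ⟨n₁, hn₁⟩ := hpU U' hU'U
    obtain ⟨n₂, hn₂⟩ := hpU K fun v hv => hv.1
    have hle : Nat.card U ≤ Nat.card U' * Nat.card K := by
      rw [← Nat.card_prod]
      choose s hs k hk e using hprod
      exact Nat.card_le_card_of_injective (fun x : U => ((⟨s x x.2, hs x x.2⟩ : U'), (⟨k x x.2, hk x x.2⟩ : K)))
        fun x y h => by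
          simp only [Prod.mk.injEq, Subtype.mk.injEq] at h
          exact Subtype.ext ((e x x.2).trans (by rw [h.1, h.2, ← e y y.2]))
    have hnn : n ≤ n₁ + n₂ := (Nat.pow_le_pow_iff_right hr.out.one_lt).1 (by
      rw [pow_add, ← hn₁, ← hn₂]; exact hcard.trans hle)
    have i1 := ih n₁ U' a C (by omega) ha (fun x hx y hy => hcomm x (hU'U hx) y (hU'U hy))
      (fun x hx => hexp x (hU'U hx)) (fun x hx => hinv x (hU'U hx)) (fun x hx => hUC x (hU'U hx)) haC
      (fun x hx hfx => by
        have h' : x ∈ U' ⊓ K := ⟨hx, hU'U hx, hfx⟩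
        rwa [hU'K, Subgroup.mem_bot] at h') hn₁.ge
    have i2 := ih n₂ K a W (by omega) ha (fun x hx y hy => hcomm x hx.1 y hy.1)
      (fun x hx => hexp x hx.1) (fun x hx => hinv x hx.1) (fun x hx => hUW x hx.1) haW
      (fun x hx hfx => hfaith x hx.1 fun z hz => by
        rw [hsum] at hz
        obtain ⟨c, hc, w', hw', rfl⟩ := Submodule.mem_sup.1 hz
        rw [map_add, hx.2 c hc, hfx w' hw']) hn₂.ge
    have hmap : ∀ {S : Submodule (ZMod 2) V}, S.map (ρ a) ≤ S → S.map (ρ a - 1) ≤ S := fun {S} hS => by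
      rintro _ ⟨z, hz, rfl⟩
      exact sub_mem (hS ⟨z, hz, rfl⟩) hz
    have := rkOn_add_le (ρ a - 1) hd' (hmap haC) (hmap haW) hsum.ge
    omega

end Cfsg.Agent.SEModule
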