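import Cfsg.Agent.Lib.SEModule.Setup
import Cfsg.Agent.Lib.SEModule.Rank
import Cfsg.Agent.Lib.SEModule.Arith
import Mathlib.LinearAlgebra.Quotient.Basic

/-!
# A module on which the involutions are small has dimension at most twice their rank
-/

set_option autoImplicit false
set_option linter.style.haveILetI false
set_option linter.unusedSectionVars false

namespace Cfsg.Agent.SEModule

open Module

universe u v

variable {G : Type u} [Group G] [Finite G] {V : Type v} [AddCommGroup V] [Module (ZMod 2) V]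
  [Module.Finite (ZMod 2) V] (ρ : Representation (ZMod 2) G V)

theorem sub_one_apply (g : G) (v : V) : (ρ g - 1) v = ρ g v - v := rfl

theorem mul_apply (g h : G) (v : V) : ρ (g * h) v = ρ g (ρ h v) := by
  rw [map_mul, Module.End.mul_apply]

/-- The vectors fixed by a subgroup. -/
def fixedSub (A : Subgroup G) : Submodule (ZMod 2) V := ⨅ a ∈ A, LinearMap.ker (ρ a - 1)

theorem mem_fixedSub {A : Subgroup G} {v : V} : v ∈ fixedSub ρ A ↔ ∀ a ∈ A, ρ a v = v := by
  simp only [fixedSub, Submodule.mem_iInf, LinearMap.mem_ker, sub_one_apply, sub_eq_zero]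

/-- The vectors that a subgroup moves into its fixed vectors. -/
def secondSub (A : Subgroup G) : Submodule (ZMod 2) V :=
  ⨅ a ∈ A, (fixedSub ρ A).comap (ρ a - 1)

theorem mem_secondSub {A : Subgroup G} {v : V} :
    v ∈ secondSub ρ A ↔ ∀ a ∈ A, ρ a v - v ∈ fixedSub ρ A := by
  simp only [secondSub, Submodule.mem_iInf, Submodule.mem_comap, sub_one_apply]

/-- The conclusion: the space moved by a power of `x`, and the dimension of `V`. -/
theorem torus {H A : Subgroup G} {n k : ℕ} {t x : G} (hF : Facts H A n k t x)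
    (hH : Cfsg.IsStronglyEmbedded H) (hρ : ∀ s : G, orderOf s = 2 → ρ s ≠ 1)
    (hker : ∀ g : G, ρ g = 1 → g ∈ H.normalCore)
    (hK : ∀ s : G, s * s = 1 → ∀ c ∈ H.normalCore, ρ s * ρ c = ρ c * ρ s)
    (hfix : ∀ v ∈ fixedSub ρ A, ρ t v = v → v = 0)
    (hspan : ∀ U : Submodule (ZMod 2) V, (∀ a ∈ A, LinearMap.range (ρ a - 1) ≤ U) →
      LinearMap.range (ρ t - 1) ≤ U → U = ⊤)
    (hr : finrank (ZMod 2) (LinearMap.range (ρ t - 1)) < n) :
    finrank (ZMod 2) V ≤ 2 * finrank (ZMod 2) (LinearMap.range (ρ t - 1)) ∧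
    ∃ (W : Submodule (ZMod 2) V) (M : ℕ), ¬ (2 ^ n - 1) ∣ M ∧ W.map (ρ (x ^ M)) ≤ W ∧
      (∀ w ∈ W, ρ (x ^ M) w = w → w = 0) ∧ ρ (x ^ (2 ^ n - 1)) = 1 ∧ n ≤ finrank (ZMod 2) W ∧
      Even (finrank (ZMod 2) W) ∧ finrank (ZMod 2) W ≤ 2 * finrank (ZMod 2) (LinearMap.range (ρ t - 1)) := by
  classical
  haveI : Finite V := Module.finite_of_finite (ZMod 2)
  set r := finrank (ZMod 2) (LinearMap.range (ρ t - 1)) with hrdef
  set K := H.normalCore with hKdef
  set N := 2 ^ n - 1 with hN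
  have hn := hF.two_le
  have hNpos : 0 < N := Nat.sub_pos_of_lt (Nat.one_lt_two_pow (by omega))
  have hKodd : Odd (Nat.card K) := SEBender.odd_normalCore hH
  -- an element of the core of square one in the image is one there
  have hKone : ∀ c ∈ K, ρ (c * c) = 1 → ρ c = 1 := fun c hc h => by
    obtain ⟨j, hj⟩ := hKodd
    have h1 : c ^ (2 * j + 1) = 1 := by
      rw [← hj]; exact congrArg Subtype.val (pow_card_eq_one' (x := (⟨c, hc⟩ : K)))
    rw [pow_succ, pow_mul, pow_two] at h1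
    have h2 := congrArg ρ h1
    rwa [map_mul, map_pow, h, one_pow, one_mul, map_one] at h2
  -- the involutions of `H` in the image
  have hinvA : ∀ s ∈ H, s * s = 1 → ∃ a ∈ A, ρ s = ρ a := by
    intro s hs h
    obtain ⟨a, ha, hc⟩ := hF.invol s hs h
    refine ⟨a, ha, ?_⟩
    have ha2 := hF.sq a ha
    have hac : ρ a * ρ (a⁻¹ * s) = ρ (a⁻¹ * s) * ρ a := hK a ha2 _ hc
    have h1 : ρ s = ρ a * ρ (a⁻¹ * s) := by rw [← map_mul, mul_inv_cancel_left]
    have h2 : ρ ((a⁻¹ * s) * (a⁻¹ * s)) = 1 := by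
      have e : ρ s * ρ s = 1 := by rw [← map_mul, h, map_one]
      rw [h1] at e
      rw [Commute.mul_mul_mul_comm (show Commute (ρ (a⁻¹ * s)) (ρ a) from hac.symm), ← map_mul, ha2, map_one,
        one_mul, ← map_mul] at e
      exact e
    rw [h1, hKone _ hc h2, mul_one]
  have hxN : ρ (x ^ N) = 1 := by
    refine hKone _ hF.x_pow ?_
    have hti : t⁻¹ = t := inv_eq_of_mul_eq_one_right hF.t_sq
    have h1 : t * x ^ N * t = (x ^ N)⁻¹ := by
      have h : (t * x * t⁻¹) ^ N = t * x ^ N * t⁻¹ := conj_pow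
      rw [hti, hF.x_inv, inv_pow] at h
      exact h.symm
    have h2 : ρ (x ^ N)⁻¹ = ρ (x ^ N) := by
      rw [← h1, map_mul, map_mul, hK t hF.t_sq _ hF.x_pow, mul_assoc, ← map_mul ρ t t, hF.t_sq, map_one,
        mul_one]
    rw [map_mul]
    nth_rw 1 [← h2]
    rw [← map_mul, inv_mul_cancel, map_one]
  obtain ⟨M, hMdvd, hMnot, hM⟩ := exists_divisor hn
  set y := x ^ M with hy
  have hyH : y ∈ H := pow_mem hF.x_mem _
  have hinvconj : ∀ g ∈ H, ∀ a ∈ A, ∃ b ∈ A, ρ (g * a * g⁻¹) = ρ b := fun g hg a ha =>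
    hinvA _ (mul_mem (mul_mem hg (hF.le ha)) (inv_mem hg)) (by
      rw [show g * a * g⁻¹ * (g * a * g⁻¹) = g * (a * a) * g⁻¹ by group, hF.sq a ha]; group)
  have hAinj : ∀ a ∈ A, ∀ b ∈ A, ρ a = ρ b → a = b := fun a ha b hb h => by
    by_contra hne
    refine hρ (a⁻¹ * b) (Invol.order_two_of_sq (hF.sq _ (mul_mem (inv_mem ha) hb)) fun e => hne (inv_mul_eq_one.1 e)) ?_
    rw [map_mul, ← h, ← map_mul, inv_mul_cancel, map_one]
  choose σ hσA hσ using fun a : A => hinvconj y hyH a a.2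
  have hAcomm : ∀ a ∈ A, ∀ b ∈ A, a * b = b * a := fun a ha b hb => by
    have e : a * b * (a * b) = 1 := hF.sq _ (mul_mem ha hb)
    rw [eq_inv_of_mul_eq_one_left e, mul_inv_rev, inv_eq_of_mul_eq_one_right (hF.sq a ha),
      inv_eq_of_mul_eq_one_right (hF.sq b hb)]
  -- every element of `A` is some `a * σ a`
  have hsurj : ∀ c : A, ∃ a : A, (a : G) * σ a = c := by
    intro c
    have hinj : Function.Injective fun a : A => (⟨(a : G) * σ a, mul_mem a.2 (hσA a)⟩ : A) := by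
      intro a b h
      have h' : (a : G) * σ a = b * σ b := congrArg Subtype.val h
      by_contra hne
      set e := (a : G)⁻¹ * b with he
      have heA : e ∈ A := mul_mem (inv_mem a.2) b.2
      have he1 : e ≠ 1 := fun h'' => hne (Subtype.ext (inv_mul_eq_one.1 h''))
      have hsig : σ a = e * σ b := by rw [he, mul_assoc, ← h', inv_mul_cancel_left]
      have hc : ρ (y * e * y⁻¹) = ρ e := by
        rw [show y * e * y⁻¹ = (y * a * y⁻¹)⁻¹ * (y * b * y⁻¹) by rw [he]; group, map_mul]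
        have hinv : ∀ g : G, g * g = 1 → g⁻¹ = g := fun g hg => inv_eq_of_mul_eq_one_right hg
        rw [hinv _ (by rw [show y * a * y⁻¹ * (y * a * y⁻¹) = y * (a * a) * y⁻¹ by group, hF.sq a a.2]; group),
          hσ a, hσ b, ← map_mul, hsig, mul_assoc, hF.sq _ (hσA b), mul_one]
      refine hMnot (hF.free e heA he1 M (hker _ ?_))
      rw [← hy, map_mul, hc, ← map_mul, inv_mul_cancel, map_one]
    exact ((Finite.injective_iff_surjective.1 hinj) c).imp fun a ha => congrArg Subtype.val ha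
  set V₁ := fixedSub ρ A with hV₁
  set V₂ := secondSub ρ A with hV₂
  set C := LinearMap.ker (ρ y - 1) with hC
  set W := LinearMap.range (ρ y - 1) with hW
  have hCW : IsCompl C W := isCompl_of_odd (N := N) (by
      obtain ⟨j, rfl⟩ : ∃ j, n = j + 1 := ⟨n - 1, by omega⟩
      refine ⟨2 ^ j - 1, ?_⟩
      have := Nat.one_le_two_pow (n := j)
      rw [hN, pow_succ]; omega) (by
      rw [← map_pow, hy, ← pow_mul, mul_comm, pow_mul, map_pow, hxN, one_pow])
  have hmemC : ∀ {v}, v ∈ C ↔ ρ y v = v := fun {v} => by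
    rw [hC, LinearMap.mem_ker, sub_one_apply, sub_eq_zero]
  have hfpf : ∀ w ∈ W, ρ y w = w → w = 0 := fun w hw h => by
    have h' : w ∈ C ⊓ W := ⟨hmemC.2 h, hw⟩
    rwa [disjoint_iff.1 hCW.disjoint, Submodule.mem_bot] at h'
  -- invariance under the powers of `x`
  have hV₁inv : ∀ g ∈ H, ∀ v ∈ V₁, ρ g v ∈ V₁ := fun g hg v hv => (mem_fixedSub ρ).2 fun a ha => by
    obtain ⟨b, hb, hbe⟩ := hinvconj g⁻¹ (inv_mem hg) a ha
    rw [← mul_apply, show a * g = g * (g⁻¹ * a * g⁻¹⁻¹) by group, mul_apply, hbe, (mem_fixedSub ρ).1 hv b hb]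
  have hV₂inv : ∀ g ∈ H, ∀ v ∈ V₂, ρ g v ∈ V₂ := fun g hg v hv => (mem_secondSub ρ).2 fun a ha => by
    obtain ⟨b, hb, hbe⟩ := hinvconj g⁻¹ (inv_mem hg) a ha
    rw [← mul_apply, show a * g = g * (g⁻¹ * a * g⁻¹⁻¹) by group, mul_apply, hbe, ← map_sub]
    exact hV₁inv g hg _ ((mem_secondSub ρ).1 hv b hb)
  have hWx : W.map (ρ x) ≤ W := by
    rintro _ ⟨_, ⟨v, rfl⟩, rfl⟩
    refine ⟨ρ x v, ?_⟩
    rw [sub_one_apply, sub_one_apply, map_sub, ← mul_apply, ← mul_apply, hy, ← pow_succ, ← pow_succ']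
  have hlow : ∀ S : Submodule (ZMod 2) V, S ≠ ⊥ → S ≤ W → S.map (ρ x) ≤ S → n ≤ finrank (ZMod 2) S := by
    intro S hS hSW hSx
    refine le_finrank_of_fpf hNpos (by rw [← map_pow]; exact hxN) hM hS hSx fun w hw h => hfpf w (hSW hw) ?_
    rwa [← map_pow] at h
  -- the fixed vectors of `A` are fixed by `y`
  have hdim₁ : ∀ S : Submodule (ZMod 2) V, S ≤ V₁ → finrank (ZMod 2) S ≤ rkOn (ρ t - 1) S := by
    intro S hS
    have hd : Function.Injective ((ρ t - 1).domRestrict S) := by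
      rw [← LinearMap.ker_eq_bot, Submodule.eq_bot_iff]
      rintro ⟨w, hw⟩ h
      exact Subtype.ext (hfix w (hS hw) (sub_eq_zero.1 h))
    rw [rkOn, ← LinearMap.range_domRestrict, LinearMap.finrank_range_of_inj hd]
  have hV₁C : V₁ ≤ C := by
    intro v hv
    rw [hC, LinearMap.mem_ker]
    by_contra hne
    have h := hlow (V₁.map (ρ y - 1)) ((Submodule.ne_bot_iff _).2 ⟨_, Submodule.mem_map_of_mem hv, hne⟩)
      LinearMap.map_le_range (by
        rintro _ ⟨_, ⟨w, hw, rfl⟩, rfl⟩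
        refine ⟨ρ x w, hV₁inv x hF.x_mem w hw, ?_⟩
        rw [sub_one_apply, sub_one_apply, map_sub, ← mul_apply, ← mul_apply, hy, ← pow_succ, ← pow_succ'])
    have h1 := Submodule.finrank_map_le (ρ y - 1) V₁
    have h2 := (hdim₁ V₁ le_rfl).trans ((rkOn_mono _ le_top).trans_eq (rkOn_top _))
    omega
  have hV₂C : ∀ v ∈ V₂, ρ y v = v → v ∈ V₁ := fun v hv hyv => (mem_fixedSub ρ).2 fun c hc => by
    obtain ⟨a, ha⟩ := hsurj ⟨c, hc⟩
    simp only at ha
    have h2 : ρ (σ a) v = ρ (a : G) v := by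
      have h3 : ρ y (ρ (a : G) v - v) = ρ (a : G) v - v := hmemC.1 (hV₁C ((mem_secondSub ρ).1 hv a a.2))
      rw [map_sub, hyv, sub_left_inj] at h3
      conv_lhs => rw [← hyv]
      rw [← hσ a, ← mul_apply, show y * (a : G) * y⁻¹ * y = y * a by group, mul_apply, h3]
    rw [← ha, mul_apply, h2, ← mul_apply, hF.sq a a.2, map_one, Module.End.one_apply]
  -- `W` lies in the second layer
  have hW₂ : W ≤ V₂ := by
    have hne : W ⊓ V₂ ≠ ⊥ := by
      intro h0
      have h21 : V₂ ≤ V₁ := fun v hv => hV₂C v hv (by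
        have h' : (ρ y - 1) v ∈ W ⊓ V₂ := ⟨⟨v, rfl⟩, sub_mem (hV₂inv y hyH v hv) hv⟩
        rwa [h0, Submodule.mem_bot, sub_one_apply, sub_eq_zero] at h')
      have htop : ∀ v : V, v ∈ V₁ := by
        by_contra hno
        push Not at hno
        let S : V → Set G := fun v => {a | a ∈ A ∧ ρ a v - v ∈ V₁}
        obtain ⟨v, hv, hmax⟩ := (Set.toFinite {v : V | v ∉ V₁}).exists_maximalFor (fun v => (S v).ncard) _ hno
        obtain ⟨a, ha, hav⟩ : ∃ a ∈ A, ρ a v - v ∉ V₁ := by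
          by_contra h
          push Not at h
          exact hv (h21 ((mem_secondSub ρ).2 h))
        have hsub0 : ∀ z ∈ S v, z ∈ S (ρ a v - v) := fun z hz => ⟨hz.1, by
          have h1 : ρ a (ρ z v - v) = ρ z v - v := (mem_fixedSub ρ).1 hz.2 a ha
          have h2 : ρ z (ρ a v - v) - (ρ a v - v) = ρ a (ρ z v - v) - (ρ z v - v) := by
            rw [map_sub, map_sub, ← mul_apply, ← mul_apply, hAcomm z hz.1 a ha]; abel
          rw [h2, h1, sub_self]
          exact zero_mem _⟩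
        have hamem : a ∈ S (ρ a v - v) := ⟨ha, by
          have h2 : ρ a (ρ a v - v) - (ρ a v - v) = 0 := by
            rw [map_sub, ← mul_apply, hF.sq a ha, map_one, Module.End.one_apply, vec_sub, vec_sub,
              vec_sub, add_comm v, vec_add_self]
          rw [h2]
          exact zero_mem _⟩
        have hsub : S v ⊂ S (ρ a v - v) :=
          (Set.ssubset_iff_of_subset hsub0).2 ⟨a, hamem, fun h => hav h.2⟩
        have hlt := Set.ncard_lt_ncard hsub
        exact absurd (hmax hav hlt.le) (not_le.2 hlt)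
      obtain ⟨⟨a, ha⟩, ha1⟩ := Subgroup.ne_bot_iff_exists_ne_one.1 (show A ≠ ⊥ from fun h => by
        have hc := hF.card
        rw [h, Subgroup.card_bot] at hc
        exact (Nat.one_lt_two_pow (by omega : n ≠ 0)).ne hc)
      refine hρ a (Invol.order_two_of_sq (hF.sq a ha) fun e => ha1 (Subtype.ext e)) (LinearMap.ext fun v => ?_)
      rw [Module.End.one_apply]
      exact (mem_fixedSub ρ).1 (htop v) a ha
    by_contra hW2
    have h1 : n ≤ finrank (ZMod 2) ↥(W ⊓ V₂) := hlow _ hne inf_le_left (by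
      rintro _ ⟨w, hw, rfl⟩
      exact ⟨hWx ⟨w, hw.1, rfl⟩, hV₂inv x hF.x_mem w hw.2⟩)
    -- the quotient is moved without fixed points as well
    set S := W ⊓ V₂ with hS
    have hSinv : ∀ w ∈ S, ρ x w ∈ S := fun w hw => ⟨hWx ⟨w, hw.1, rfl⟩, hV₂inv x hF.x_mem w hw.2⟩
    let g : Module.End (ZMod 2) (V ⧸ S) := Submodule.mapQ S S (ρ x) hSinv
    have hgpow : ∀ i (v : V), (g ^ i) (Submodule.Quotient.mk v) = Submodule.Quotient.mk (ρ (x ^ i) v) := by
      intro i
      induction i with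
      | zero => intro v; rw [pow_zero, pow_zero, map_one]; rfl
      | succ i ih =>
        intro v
        rw [pow_succ', Module.End.mul_apply, ih, pow_succ' x, mul_apply]; rfl
    have h2 : n ≤ finrank (ZMod 2) ↥(W.map S.mkQ) := by
      refine le_finrank_of_fpf (g := g) hNpos ?_ hM ?_ ?_ ?_
      · refine LinearMap.ext fun q => ?_
        induction q using Submodule.Quotient.induction_on with
        | H v => rw [hgpow, hxN]; rfl
      · intro h
        refine hW2 fun w hw => ?_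
        have h' : S.mkQ w ∈ W.map S.mkQ := Submodule.mem_map_of_mem hw
        rw [h, Submodule.mem_bot, Submodule.mkQ_apply, Submodule.Quotient.mk_eq_zero] at h'
        exact h'.2
      · rintro _ ⟨_, ⟨w, hw, rfl⟩, rfl⟩
        exact ⟨ρ x w, hWx ⟨w, hw, rfl⟩, rfl⟩
      · rintro _ ⟨w, hw, rfl⟩ h
        rw [Submodule.mkQ_apply, hgpow, Submodule.Quotient.eq] at h
        change ρ y w - w ∈ S at h
        -- `ρ y - 1` is onto on the invariant subspace
        have hyS : ∀ z ∈ S, (ρ y - 1) z ∈ S := fun z hz =>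
          sub_mem ⟨by
            obtain ⟨v, rfl⟩ := hz.1
            exact ⟨ρ y v, by simp only [sub_one_apply, map_sub]⟩, hV₂inv y hyH z hz.2⟩ hz
        have hs : Function.Injective ((ρ y - 1).restrict hyS) := by
          rw [← LinearMap.ker_eq_bot, Submodule.eq_bot_iff]
          rintro ⟨z, hz⟩ h'
          exact Subtype.ext (hfpf z hz.1 (sub_eq_zero.1 (congrArg Subtype.val h')))
        obtain ⟨⟨z, hz⟩, hze⟩ := LinearMap.injective_iff_surjective.1 hs ⟨_, h⟩
        have hze' : ρ y z - z = ρ y w - w := congrArg Subtype.val hze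
        have hwz : w - z = 0 := hfpf _ (sub_mem hw hz.1) (by
          rw [map_sub, sub_eq_sub_iff_sub_eq_sub]; exact hze'.symm)
        rw [sub_eq_zero] at hwz
        rw [Submodule.mkQ_apply, Submodule.Quotient.mk_eq_zero, hwz]
        exact hz
    have h3 : finrank (ZMod 2) ↥(W.map S.mkQ) + finrank (ZMod 2) S = finrank (ZMod 2) W := by
      have h := LinearMap.finrank_range_add_finrank_ker (S.mkQ.domRestrict W)
      rw [LinearMap.range_domRestrict, LinearMap.ker_domRestrict] at h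
      rw [← h]
      congr 1
      rw [Submodule.ker_mkQ]
      exact (Submodule.comapSubtypeEquivOfLe (inf_le_left : S ≤ W)).finrank_eq.symm
    have h4 : finrank (ZMod 2) W ≤ 2 * r := rk_inverted ρ hF.t_sq (by
        have h : (t * x * t⁻¹) ^ M = t * x ^ M * t⁻¹ := conj_pow
        rw [inv_eq_of_mul_eq_one_right hF.t_sq, hF.x_inv, inv_pow] at h
        exact h.symm) (hF.x_odd.of_dvd_nat (orderOf_pow_dvd M))
    omega
  -- `A` is trivial on the quotient by the second layer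
  have htriv : ∀ c ∈ A, ∀ v : V, ρ c v - v ∈ V₂ := by
    intro c hc v
    obtain ⟨a, ha⟩ := hsurj ⟨c, hc⟩
    simp only at ha
    have hVy : ∀ z : V, ρ y z - z ∈ V₂ := fun z => hW₂ ⟨z, rfl⟩
    have hVa : ∀ b ∈ A, ∀ z ∈ V₂, ρ b z ∈ V₂ := fun b hb z hz => hV₂inv b (hF.le hb) z hz
    have h1 : ρ (σ a) v - ρ (a : G) v ∈ V₂ := by
      have e : ρ (σ a) (ρ y v) = ρ y (ρ (a : G) v) := by
        rw [← hσ a, ← mul_apply, show y * (a : G) * y⁻¹ * y = y * a by group, mul_apply]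
      have h2 : ρ (σ a) (ρ y v - v) ∈ V₂ := hVa _ (hσA a) _ (hVy v)
      have h3 : ρ y (ρ (a : G) v) - ρ (a : G) v ∈ V₂ := hVy _
      rw [map_sub, e] at h2
      have h4 := sub_mem h3 h2
      rwa [show ρ y (ρ (a : G) v) - ρ (a : G) v - (ρ y (ρ (a : G) v) - ρ (σ a) v) =
        ρ (σ a) v - ρ (a : G) v by abel] at h4
    have h5 := hVa a a.2 _ h1
    rw [map_sub, ← mul_apply, ← mul_apply (ρ := ρ) (a : G) a, hF.sq a a.2, map_one, Module.End.one_apply,
      ha] at h5
    exact h5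
  have hdec : ∀ v : V, ∃ c ∈ C, ∃ w ∈ W, c + w = v := fun v => by
    have hv : v ∈ C ⊔ W := by rw [codisjoint_iff.1 hCW.codisjoint]; trivial
    exact Submodule.mem_sup.1 hv
  have hy_inv : t * y * t = y⁻¹ := by
    have h : (t * x * t⁻¹) ^ M = t * x ^ M * t⁻¹ := conj_pow
    rw [inv_eq_of_mul_eq_one_right hF.t_sq, hF.x_inv, inv_pow] at h
    exact h.symm
  have hty : ∀ v, ρ y (ρ t v) = ρ t (ρ y⁻¹ v) := fun v => by
    rw [← mul_apply, ← mul_apply, ← hy_inv,
      show t * (t * y * t) = (t * t) * (y * t) by group, hF.t_sq, one_mul]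
  have htC : C.map (ρ t) ≤ C := by
    rintro _ ⟨v, hv, rfl⟩
    refine hmemC.2 ?_
    rw [hty]
    congr 1
    conv_lhs => rw [← hmemC.1 hv]
    rw [← mul_apply, inv_mul_cancel, map_one, Module.End.one_apply]
  have htW : W.map (ρ t) ≤ W := by
    rintro _ ⟨_, ⟨v, rfl⟩, rfl⟩
    refine ⟨-(ρ t (ρ y v)), ?_⟩
    rw [sub_one_apply, sub_one_apply, map_neg, map_sub, hty (ρ y v), ← mul_apply (ρ := ρ) y⁻¹ y,
      inv_mul_cancel, map_one, Module.End.one_apply]
    abel
  -- the rank on `W`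
  have hWfix : (W.map (ρ t - 1)) ≤ W ⊓ LinearMap.ker (ρ t - 1) := by
    rintro _ ⟨w, hw, rfl⟩
    refine ⟨sub_mem (htW ⟨w, hw, rfl⟩) hw, LinearMap.mem_ker.2 ?_⟩
    rw [sub_one_apply, sub_one_apply, map_sub, ← mul_apply, hF.t_sq, map_one, Module.End.one_apply,
      vec_sub, vec_sub, vec_sub, add_comm w, vec_add_self]
  have hrW1 : 2 * rkOn (ρ t - 1) W ≤ finrank (ZMod 2) W := by
    have h := LinearMap.finrank_range_add_finrank_ker ((ρ t - 1).domRestrict W)
    rw [LinearMap.range_domRestrict, LinearMap.ker_domRestrict] at h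
    have h' : finrank (ZMod 2) ↥((LinearMap.ker (ρ t - 1)).comap W.subtype) =
        finrank (ZMod 2) ↥(W ⊓ LinearMap.ker (ρ t - 1)) := by
      rw [← Submodule.finrank_map_subtype_eq, Submodule.map_comap_subtype]
    have := Submodule.finrank_mono hWfix
    rw [h'] at h
    unfold rkOn
    omega
  obtain ⟨l, hl⟩ : Odd (orderOf y) := hF.x_odd.of_dvd_nat (orderOf_pow_dvd M)
  set u := y ^ (l + 1) with hu
  have huu : u * u = y := by
    rw [hu, ← pow_add, show l + 1 + (l + 1) = 2 * l + 1 + 1 by ring, pow_succ, ← hl, pow_orderOf_eq_one,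
      one_mul]
  have hWu : ∀ i : ℕ, W.map (ρ (x ^ i)) ≤ W := by
    intro i
    induction i with
    | zero => rintro _ ⟨w, hw, rfl⟩; rwa [pow_zero, map_one, Module.End.one_apply]
    | succ i ih =>
      rintro _ ⟨w, hw, rfl⟩
      rw [pow_succ', mul_apply]
      exact hWx ⟨_, ih ⟨w, hw, rfl⟩, rfl⟩
  have hrW2 : finrank (ZMod 2) W ≤ 2 * rkOn (ρ t - 1) W := by
    -- `t * y` is the conjugate of `t` by `u`
    have hpowx : ∃ i : ℕ, u = x ^ i := ⟨M * (l + 1), by rw [hu, hy, ← pow_mul]⟩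
    obtain ⟨i, hi⟩ := hpowx
    have huinv : ∃ j : ℕ, u⁻¹ = x ^ j := ⟨orderOf x * i - i, by
      rw [inv_eq_iff_mul_eq_one, hi, ← pow_add, Nat.add_sub_cancel' (Nat.le_mul_of_pos_left i (orderOf_pos x)),
        pow_mul, pow_orderOf_eq_one, one_pow]⟩
    obtain ⟨j, hj⟩ := huinv
    have hconj : u⁻¹ * t * u = t * y := by
      have htu : t * u * t = u⁻¹ := by
        have h : (t * y * t⁻¹) ^ (l + 1) = t * y ^ (l + 1) * t⁻¹ := conj_pow
        rw [inv_eq_of_mul_eq_one_right hF.t_sq, hy_inv, inv_pow] at h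
        exact h.symm
      rw [← htu, ← huu]
      calc t * u * t * t * u = t * u * (t * t) * u := by group
        _ = t * (u * u) := by rw [hF.t_sq, mul_one, mul_assoc]
    have hle : W ≤ W.map (ρ t - 1) ⊔ ((W.map (ρ t - 1)).map (ρ u⁻¹)).map (ρ t) := by
      intro w hw
      have hs : Function.Injective ((ρ y - 1).restrict (p := W) (q := W) fun z hz => sub_mem (by
          rw [hy]; exact hWu M ⟨z, hz, rfl⟩) hz) := by
        rw [← LinearMap.ker_eq_bot, Submodule.eq_bot_iff]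
        rintro ⟨z, hz⟩ h'
        exact Subtype.ext (hfpf z hz (sub_eq_zero.1 (congrArg Subtype.val h')))
      obtain ⟨⟨z, hz⟩, hze⟩ := LinearMap.injective_iff_surjective.1 hs ⟨w, hw⟩
      have hze' : ρ y z - z = w := congrArg Subtype.val hze
      refine Submodule.mem_sup.2 ⟨(ρ t - 1) z, Submodule.mem_map_of_mem hz, ρ t (ρ u⁻¹ ((ρ t - 1) (ρ u z))),
        Submodule.mem_map_of_mem (Submodule.mem_map_of_mem (Submodule.mem_map_of_mem
          (by rw [hi]; exact hWu i ⟨z, hz, rfl⟩))), ?_⟩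
      rw [sub_one_apply, sub_one_apply, map_sub, map_sub, ← mul_apply (ρ := ρ) u⁻¹ u, inv_mul_cancel, map_one,
        Module.End.one_apply, ← mul_apply, ← mul_apply, ← mul_apply, show t * u⁻¹ * t * u = t * (u⁻¹ * t * u) by group,
        hconj, ← mul_assoc, hF.t_sq, one_mul, ← hze']
      abel
    have h1 := (Submodule.finrank_mono hle).trans (Submodule.finrank_add_le_finrank_add_finrank _ _)
    have h2 := Submodule.finrank_map_le (ρ t) ((W.map (ρ t - 1)).map (ρ u⁻¹))
    have h3 := Submodule.finrank_map_le (ρ u⁻¹) (W.map (ρ t - 1))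
    unfold rkOn
    omega
  have hsplit : rkOn (ρ t - 1) C + rkOn (ρ t - 1) W ≤ r := by
    have h := rkOn_add_le (ρ t - 1) (A := C) (B := W) (C := ⊤) hCW.disjoint
      (by rintro _ ⟨z, hz, rfl⟩; exact sub_mem (htC ⟨z, hz, rfl⟩) hz)
      (by rintro _ ⟨z, hz, rfl⟩; exact sub_mem (htW ⟨z, hz, rfl⟩) hz) le_top
    rwa [rkOn_top] at h
  have hCle : finrank (ZMod 2) C ≤ 2 * rkOn (ρ t - 1) C := by
    have hU : V₂ ⊔ LinearMap.range (ρ t - 1) = ⊤ := hspan _
      (fun a ha => le_trans (by rintro _ ⟨z, rfl⟩; exact htriv a ha z) le_sup_left) le_sup_right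
    have hle : C ≤ V₁ ⊔ C.map (ρ t - 1) := by
      intro c hc
      have hc' : c ∈ V₂ ⊔ LinearMap.range (ρ t - 1) := hU ▸ Submodule.mem_top
      obtain ⟨v₂, hv₂, _, ⟨z, rfl⟩, hsum⟩ := Submodule.mem_sup.1 hc'
      obtain ⟨a, ha, b, hb, rfl⟩ := hdec v₂
      obtain ⟨p, hp, q, hq, rfl⟩ := hdec z
      have ha₁ : a ∈ V₁ := hV₂C a (by
        have h := sub_mem hv₂ (hW₂ hb)
        rwa [add_sub_cancel_right] at h) (hmemC.1 ha)
      have hpC : (ρ t - 1) p ∈ C := sub_mem (htC ⟨p, hp, rfl⟩) hp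
      have hqW : (ρ t - 1) q ∈ W := sub_mem (htW ⟨q, hq, rfl⟩) hq
      have hz0 : b + (ρ t - 1) q = c - a - (ρ t - 1) p := by rw [← hsum, map_add]; abel
      have h0 : b + (ρ t - 1) q ∈ C ⊓ W := ⟨hz0 ▸ sub_mem (sub_mem hc ha) hpC, add_mem hb hqW⟩
      rw [disjoint_iff.1 hCW.disjoint, Submodule.mem_bot] at h0
      rw [h0, eq_comm, sub_eq_zero, sub_eq_iff_eq_add'] at hz0
      exact Submodule.mem_sup.2 ⟨a, ha₁, _, Submodule.mem_map_of_mem hp, hz0.symm⟩
    have h1 := (Submodule.finrank_mono hle).trans (Submodule.finrank_add_le_finrank_add_finrank _ _)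
    have h2 := (hdim₁ V₁ le_rfl).trans (rkOn_mono _ hV₁C)
    unfold rkOn at h2 ⊢
    omega
  have hdim := Submodule.finrank_add_eq_of_isCompl hCW
  refine ⟨by omega, W, M, hMnot, hWu M, hfpf, hxN, hlow W ?_ le_rfl hWx, ⟨rkOn (ρ t - 1) W, by omega⟩,
    by omega⟩
  intro h0
  -- otherwise `y` is trivial in the image
  obtain ⟨⟨a, ha⟩, ha1⟩ := Subgroup.ne_bot_iff_exists_ne_one.1 (show A ≠ ⊥ from fun h => by
    have hc := hF.card
    rw [h, Subgroup.card_bot] at hc
    exact (Nat.one_lt_two_pow (by omega : n ≠ 0)).ne hc)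
  have hy1 : ρ y = 1 := by
    rw [← sub_eq_zero, ← LinearMap.range_eq_bot]; exact h0
  refine hMnot (hF.free a ha (fun e => ha1 (Subtype.ext e)) M (hker _ ?_))
  rw [← hy, map_mul, map_mul, map_mul, hy1, one_mul, ← map_mul ρ a, ← map_mul, ← mul_assoc, inv_mul_cancel,
    one_mul]
  have : ρ y⁻¹ = ρ y⁻¹ * ρ y := by rw [hy1, mul_one]
  rw [this, ← map_mul, inv_mul_cancel, map_one]

end Cfsg.Agent.SEModule
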