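import Cfsg.Agent.Lib.SEModule.Eigen
import Cfsg.Agent.Lib.SEModule.Torus
import Cfsg.Agent.Lib.Solvable.Coprime
import Cfsg.Agent.Lib.SEBrick.Common
import Mathlib.GroupTheory.Perm.Cycle.Type

/-!
# The rank of an involution on a module bounds the elementary abelian subgroups of `H`
-/

set_option autoImplicit false
set_option linter.style.haveILetI false
set_option linter.unusedSectionVars false

namespace Cfsg.Agent.SEModule

open Module

universe u v

section
variable {G : Type u} [Group G] [Finite G] {H : Subgroup G} {V : Type v} [AddCommGroup V] [Module (ZMod 2) V]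
  [Module.Finite (ZMod 2) V] (ρ : Representation (ZMod 2) G V)

/-- The rank of an involution does not depend on it. -/
theorem rk_invol_eq (hH : Cfsg.IsStronglyEmbedded H) {s s' : G} (hs : orderOf s = 2) (hs' : orderOf s' = 2) :
    finrank (ZMod 2) (LinearMap.range (ρ s - 1)) = finrank (ZMod 2) (LinearMap.range (ρ s' - 1)) := by
  obtain ⟨g, rfl⟩ := isConj_iff.1 (Invol.se_isConj hH hs hs')
  exact (rk_conj ρ g s).symm

/-- The involutions do not all commute in the image. -/
theorem not_comm (hH : Cfsg.IsStronglyEmbedded H) {a b t : G} (ha : a ∈ H) (hb : b ∈ H) (ht : t ∉ H)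
    (ha2 : orderOf a = 2) (hb2 : orderOf b = 2) (ht2 : orderOf t = 2) (hab : orderOf (a * b) = 2)
    (hρ : ∀ s : G, orderOf s = 2 → ρ s ≠ 1)
    (hc : ∀ s s' : G, orderOf s = 2 → orderOf s' = 2 → ρ s * ρ s' = ρ s' * ρ s) : False := by
  have key : ∀ z ∈ H, orderOf z = 2 → ρ z = ρ t := fun z hz hz2 => by
    obtain ⟨m, hm⟩ := Invol.se_odd_of_not_mem hH hz2 hz ht2 ht
    have hsq : ρ (z * t) * ρ (z * t) = 1 := by
      rw [map_mul, Commute.mul_mul_mul_comm (show Commute (ρ t) (ρ z) from hc t z ht2 hz2), ← map_mul,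
        ← map_mul, ← map_mul, Invol.mul_self hz2, one_mul, Invol.mul_self ht2, map_one]
    have h1 : ρ (z * t) ^ (2 * m + 1) = 1 := by rw [← map_pow, ← hm, pow_orderOf_eq_one, map_one]
    rw [pow_succ, pow_mul, pow_two, hsq, one_pow, one_mul] at h1
    calc ρ z = ρ (z * t) * ρ t := by rw [← map_mul, mul_assoc, Invol.mul_self ht2, mul_one]
      _ = ρ t := by rw [h1, one_mul]
  refine hρ _ hab ?_
  rw [map_mul, key a ha ha2, key b hb hb2, ← map_mul, Invol.mul_self ht2, map_one]

/-- A subgroup holding `A` and not inside `H` again has a strongly embedded subgroup. -/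
theorem se_subgroupOf (hH : Cfsg.IsStronglyEmbedded H) {M : Subgroup G} (hM : ¬ M ≤ H)
    {a : G} (haM : a ∈ M) (haH : a ∈ H) (ha2 : orderOf a = 2) :
    Cfsg.IsStronglyEmbedded (H.subgroupOf M) := by
  refine ⟨fun h => hM (Subgroup.subgroupOf_eq_top.1 h), ?_, fun g hg => ?_⟩
  · exact Invol.even_of_invol_mem (t := (⟨a, haM⟩ : M)) (by rw [← Subgroup.orderOf_coe]; exact ha2) haH
  · refine (hH.2.2 (g : G) hg).of_dvd_nat ?_
    refine (Subgroup.card_map_of_injective M.subtype_injective).symm.dvd.trans (Subgroup.card_dvd_of_le ?_)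
    rintro _ ⟨y, hy, rfl⟩
    obtain ⟨h1, h2⟩ := Subgroup.mem_inf.1 hy
    refine Subgroup.mem_inf.2 ⟨h1, ?_⟩
    rw [Invol.mem_conj_map] at h2 ⊢
    exact h2

/-- An element of odd prime order `p` in the image, with `2k` the order of two modulo `p`. -/
theorem two_mul_le_finrank {A : Subgroup G} {n k : ℕ} {t x : G} (hF : Facts H A n k t x)
    (hker : ∀ g : G, ρ g = 1 → g ∈ H.normalCore) (hk3 : k ≠ 3) : 2 * k ≤ finrank (ZMod 2) V := by
  classical
  haveI : Finite V := Module.finite_of_finite (ZMod 2)
  have hk2 : 2 ≤ k := hF.two_le.trans hF.le_k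
  obtain ⟨p, hp, hpd, hmin⟩ := Cfsg.Agent.S2904.result 2 (2 * k) (by norm_num) (by omega)
    (fun h => hk3 (by omega)) (fun h => by omega)
  have hpk : p ∣ 2 ^ k + 1 := by
    have h : 2 ^ (2 * k) - 1 = (2 ^ k + 1) * (2 ^ k - 1) := by
      rw [mul_comm 2 k, pow_mul, ← Nat.sq_sub_sq, one_pow]
    rw [h] at hpd
    exact (hp.dvd_mul.1 hpd).resolve_right (hmin k (by omega) (by omega))
  set φ := ρ.toHomUnits with hφ
  have hkerH : φ.ker ≤ H := fun g hg =>
    Subgroup.normalCore_le H (hker g (congrArg Units.val (MonoidHom.mem_ker.1 hg)))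
  haveI : Fact p.Prime := ⟨hp⟩
  haveI : Finite (Module.End (ZMod 2) V) := Module.finite_of_finite (ZMod 2)
  have hdvd : p ∣ Nat.card φ.range := by
    rw [← Subgroup.index_ker]
    exact (hF.index ▸ hpk).trans (Subgroup.index_dvd_of_le hkerH)
  obtain ⟨⟨_, g, rfl⟩, hg⟩ := exists_prime_orderOf_dvd_card' (p := p) hdvd
  replace hg : orderOf (φ g) = p := by rw [← Subgroup.orderOf_coe] at hg; exact hg
  have hgp : (ρ g) ^ p = 1 := by
    have := congrArg Units.val (pow_orderOf_eq_one (φ g))
    rwa [hg, Units.val_pow_eq_pow_val, hφ, MonoidHom.coe_toHomUnits, Units.val_one] at this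
  have hg1 : ρ g ≠ 1 := fun h => by
    have h' : φ g = 1 := Units.ext h
    rw [h', orderOf_one] at hg
    exact hp.one_lt.ne hg
  have hpodd : Odd p := hp.odd_of_ne_two fun h => by
    rw [h, Nat.dvd_add_right (dvd_pow_self 2 (by omega))] at hpk
    norm_num at hpk
  refine le_trans ?_ (Submodule.finrank_le (LinearMap.range (ρ g - 1)))
  refine le_finrank_of_fpf (g := ρ g) hp.pos hgp (M := 1) (fun d hd hd' => ?_) ?_ ?_ fun w hw h => ?_
  · rcases hp.eq_one_or_self_of_dvd _ (Nat.gcd_dvd_left p (2 ^ d - 1)) with e | e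
    · rw [e]
    · exact absurd (e ▸ Nat.gcd_dvd_right p (2 ^ d - 1)) (hmin d hd hd')
  · intro h
    exact hg1 (sub_eq_zero.1 (LinearMap.range_eq_bot.1 h))
  · rintro _ ⟨_, ⟨w, rfl⟩, rfl⟩
    exact ⟨ρ g w, by simp only [sub_one_apply, map_sub]⟩
  · rw [pow_one] at h
    have h' : w ∈ LinearMap.ker (ρ g - 1) ⊓ LinearMap.range (ρ g - 1) :=
      ⟨LinearMap.mem_ker.2 (by rw [sub_one_apply, h, sub_self]), hw⟩
    rwa [disjoint_iff.1 (isCompl_of_odd hpodd hgp).disjoint, Submodule.mem_bot] at h'

end

/-- The rank of an involution bounds the elementary abelian subgroups of a strongly embedded subgroup. -/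
theorem rank_bound_aux (hB : BenderStmt.{u}) : ∀ (N : ℕ) (G : Type u) [Group G] [Finite G] (H : Subgroup G)
    (V : Type v) [AddCommGroup V] [Module (ZMod 2) V] [Module.Finite (ZMod 2) V]
    (ρ : Representation (ZMod 2) G V), Nat.card G + finrank (ZMod 2) V ≤ N → Cfsg.IsStronglyEmbedded H →
    (∀ s : G, orderOf s = 2 → ρ s ≠ 1) → ∀ E : Subgroup G, E ≤ H → (∀ a ∈ E, a * a = 1) →
    ∀ s : G, orderOf s = 2 → Nat.card E ≤ 2 ^ finrank (ZMod 2) (LinearMap.range (ρ s - 1)) := by
  intro N
  induction N with
  | zero =>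
    intro G _ _ H V _ _ _ ρ h
    have := Nat.card_pos (α := G)
    omega
  | succ N ih =>
    intro G _ _ H V _ _ _ ρ hle hH hρ E hEH hE s hs
    classical
    haveI : Finite V := Module.finite_of_finite (ZMod 2)
    have hrs : 1 ≤ finrank (ZMod 2) (LinearMap.range (ρ s - 1)) := Nat.one_le_iff_ne_zero.2 fun h =>
      hρ s hs (sub_eq_zero.1 (LinearMap.range_eq_bot.1 (Submodule.finrank_eq_zero.1 h)))
    by_cases hsmall : Nat.card E ≤ 2
    · exact hsmall.trans ((Nat.pow_le_pow_right two_pos hrs).trans_eq' (pow_one 2).symm)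
    -- two commuting involutions
    obtain ⟨a₀, b₀, ha₀, hb₀, hab₀⟩ : ∃ a b : G, a ∈ E ∧ b ∈ E ∧ a ≠ 1 ∧ b ≠ 1 ∧ a ≠ b := by
      haveI : Fintype E := Fintype.ofFinite E
      obtain ⟨a, -, b, -, ha, hb, hab⟩ : ∃ a ∈ (Finset.univ : Finset E), ∃ b ∈ (Finset.univ : Finset E),
          a ≠ 1 ∧ b ≠ 1 ∧ a ≠ b := by
        have h2 : 1 < ((Finset.univ : Finset E).erase 1).card := by
          rw [Finset.card_erase_of_mem (Finset.mem_univ _), Finset.card_univ, ← Nat.card_eq_fintype_card]
          omega
        obtain ⟨a, ha, b, hb, hab⟩ := Finset.one_lt_card.1 h2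
        exact ⟨a, Finset.mem_univ _, b, Finset.mem_univ _, Finset.ne_of_mem_erase ha, Finset.ne_of_mem_erase hb, hab⟩
      exact ⟨a, b, a.2, b.2, fun e => ha (Subtype.ext e), fun e => hb (Subtype.ext e), fun e => hab (Subtype.ext e)⟩
    have hE2 : ∀ a ∈ E, a ≠ 1 → orderOf a = 2 := fun a ha h => Invol.order_two_of_sq (hE a ha) h
    have hcomm₀ : a₀ * b₀ = b₀ * a₀ := by
      rw [eq_inv_of_mul_eq_one_left (hE _ (mul_mem ha₀ hb₀)), mul_inv_rev,
        inv_eq_of_mul_eq_one_right (hE a₀ ha₀), inv_eq_of_mul_eq_one_right (hE b₀ hb₀)]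
    obtain ⟨A, n, k, t, x, hF⟩ := exists_facts hB hH ⟨a₀, b₀, hEH ha₀, hEH hb₀, hE2 _ ha₀ hab₀.1,
      hE2 _ hb₀ hab₀.2.1, hab₀.2.2, hcomm₀⟩
    have ht1 : t ≠ 1 := fun h => hF.t_not_mem (h ▸ one_mem H)
    have ht2 : orderOf t = 2 := Invol.order_two_of_sq hF.t_sq ht1
    refine (hF.max E hEH hE).trans (Nat.pow_le_pow_right two_pos ?_)
    rw [rk_invol_eq ρ hH hs ht2]
    by_contra hr
    push Not at hr
    have hn := hF.two_le
    have hA2 : ∀ a ∈ A, a ≠ 1 → orderOf a = 2 := fun a ha h => Invol.order_two_of_sq (hF.sq a ha) h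
    obtain ⟨⟨a₁, ha₁⟩, ha₁'⟩ := Subgroup.ne_bot_iff_exists_ne_one.1 (show A ≠ ⊥ from fun h => by
      have hc := hF.card
      rw [h, Subgroup.card_bot] at hc
      exact (Nat.one_lt_two_pow (by omega : n ≠ 0)).ne hc)
    have ha₁1 : a₁ ≠ 1 := fun e => ha₁' (Subtype.ext e)
    obtain ⟨b₁, hb₁, hb₁1, hb₁a⟩ : ∃ b ∈ A, b ≠ 1 ∧ b ≠ a₁ := by
      by_contra hno
      push Not at hno
      have h4 : 4 ≤ Nat.card A := by rw [hF.card]; exact Nat.pow_le_pow_right two_pos hn
      have hsub : (A : Set G) ⊆ {1, a₁} := fun b hb => by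
        rcases eq_or_ne b 1 with h | h
        · exact Or.inl h
        · exact Or.inr (hno b hb h)
      have h2 := Set.ncard_le_ncard hsub
      have h3 : ({1, a₁} : Set G).ncard ≤ 2 := (Set.ncard_insert_le _ _).trans (by rw [Set.ncard_singleton])
      rw [← Nat.card_coe_set_eq, SetLike.coe_sort_coe] at h2
      omega
    have hab₁ : orderOf (a₁ * b₁) = 2 := hA2 _ (mul_mem ha₁ hb₁) fun h => hb₁a (by
      rw [← inv_eq_of_mul_eq_one_right (hF.sq a₁ ha₁)]; exact eq_inv_of_mul_eq_one_right h)
    have hnc : (∀ s s' : G, orderOf s = 2 → orderOf s' = 2 → ρ s * ρ s' = ρ s' * ρ s) → False :=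
      not_comm ρ hH (hF.le ha₁) (hF.le hb₁) hF.t_not_mem (hA2 _ ha₁ ha₁1) (hA2 _ hb₁ hb₁1) ht2 hab₁ hρ
    -- a smaller module or group with the hypotheses gives the bound
    have hgen : ∀ M : Subgroup G, A ≤ M → ¬ M ≤ H → M = ⊤ := fun M hAM hMH => by
      by_contra hM
      have hlt : Nat.card M < Nat.card G :=
        lt_of_le_of_ne (Subgroup.card_le_card_group M) fun h => hM (Subgroup.eq_top_of_card_eq M h)
      have haM : orderOf (⟨a₁, hAM ha₁⟩ : M) = 2 := by rw [← Subgroup.orderOf_coe]; exact hA2 _ ha₁ ha₁1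
      have h := ih M (H.subgroupOf M) V (ρ.comp M.subtype) (by omega)
        (se_subgroupOf hH hMH (hAM ha₁) (hF.le ha₁) (hA2 _ ha₁ ha₁1))
        (fun z hz => hρ z (by rw [← hz, Subgroup.orderOf_coe]))
        (A.subgroupOf M) (fun z hz => hF.le hz) (fun z hz => Subtype.ext (hF.sq z hz)) ⟨a₁, hAM ha₁⟩ haM
      rw [Nat.card_congr (Subgroup.subgroupOfEquivOfLe hAM).toEquiv, hF.card] at h
      have h' := (Nat.pow_le_pow_iff_right one_lt_two).1 h
      change n ≤ finrank (ZMod 2) (LinearMap.range (ρ a₁ - 1)) at h'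
      exact absurd (h'.trans (rk_invol_eq ρ hH (hA2 _ ha₁ ha₁1) ht2).le) (not_le.2 hr)
    set φ := ρ.toHomUnits with hφ
    have hker : ∀ g : G, ρ g = 1 → g ∈ H.normalCore := by
      intro g hg
      have hkn : φ.ker.Normal := inferInstance
      by_cases hM : φ.ker ⊔ A ≤ H
      · intro b
        have hb : b * g * b⁻¹ ∈ φ.ker := hkn.conj_mem g (MonoidHom.mem_ker.2 (Units.ext hg)) b
        exact hM (Subgroup.mem_sup_left hb)
      · exfalso
        have htop := hgen _ le_sup_right hM
        have himg : ∀ z : G, ∃ a ∈ A, ρ z = ρ a := fun z => by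
          have hz : z ∈ φ.ker ⊔ A := htop ▸ Subgroup.mem_top z
          rw [← SetLike.mem_coe, Subgroup.normal_mul] at hz
          obtain ⟨c, hc, a, ha, rfl⟩ := Set.mem_mul.1 hz
          refine ⟨a, ha, ?_⟩
          rw [map_mul, show ρ c = 1 from congrArg Units.val (MonoidHom.mem_ker.1 hc), one_mul]
        refine hnc fun z z' _ _ => ?_
        obtain ⟨a, ha, e⟩ := himg z
        obtain ⟨b, hb, e'⟩ := himg z'
        rw [e, e', ← map_mul, ← map_mul, eq_inv_of_mul_eq_one_left (hF.sq _ (mul_mem ha hb)), mul_inv_rev,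
          inv_eq_of_mul_eq_one_right (hF.sq a ha), inv_eq_of_mul_eq_one_right (hF.sq b hb)]
    -- every involution centralises the core in the image
    have hK : ∀ z : G, z * z = 1 → ∀ c ∈ H.normalCore, ρ z * ρ c = ρ c * ρ z := by
      set K := H.normalCore with hKdef
      have hKodd : Odd (Nat.card K) := SEBender.odd_normalCore hH
      haveI : K.Normal := Subgroup.normalCore_normal H
      suffices h : ∀ a ∈ A, ∀ c ∈ K, ρ a * ρ c = ρ c * ρ a by
        intro z hz c hc
        rcases eq_or_ne z 1 with rfl | hz1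
        · rw [map_one, one_mul, mul_one]
        obtain ⟨g, hg⟩ := isConj_iff.1 (Invol.se_isConj hH (hA2 _ ha₁ ha₁1) (Invol.order_two_of_sq hz hz1))
        have h' := h a₁ ha₁ (g⁻¹ * c * g⁻¹⁻¹) (Subgroup.Normal.conj_mem inferInstance c hc g⁻¹)
        rw [← map_mul, ← map_mul] at h'
        have h'' := congrArg (fun f => ρ g * f * ρ g⁻¹) h'
        simp only [← map_mul] at h''
        rw [← map_mul, ← map_mul, ← hg]
        convert h'' using 2 <;> group
      by_contra hno
      push Not at hno
      obtain ⟨a, ha, c, hc, hne⟩ := hno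
      -- a prime at which `a` is seen
      let C : Subgroup G := (Subgroup.centralizer {φ a}).comap φ ⊓ K
      have hcC : c ∉ C := fun h => hne (by
        have h' := Subgroup.mem_centralizer_singleton_iff.1 h.1
        have := congrArg Units.val h'
        simpa [hφ] using this.symm)
      have hAK : A ≤ Subgroup.normalizer (K : Set G) := Subgroup.le_normalizer_of_normal
      have hcop : (Nat.card A).Coprime (Nat.card K) := by
        rw [hF.card]; exact (Nat.coprime_two_left.2 hKodd).pow_left n
      obtain ⟨p, hp, hpC⟩ : ∃ p : ℕ, p.Prime ∧ ¬ p ^ (Nat.card K).factorization p ∣ Nat.card C := by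
        by_contra hall
        push Not at hall
        have hd : Nat.card K ∣ Nat.card C := by
          refine (Nat.factorization_le_iff_dvd Nat.card_pos.ne' Nat.card_pos.ne').1 fun p => ?_
          by_cases hp : p.Prime
          · exact (hp.pow_dvd_iff_le_factorization Nat.card_pos.ne').1 (hall p hp)
          · rw [Nat.factorization_eq_zero_of_not_prime _ hp]; exact Nat.zero_le _
        have hCK : C = K := Subgroup.eq_of_le_of_card_ge inf_le_right (Nat.le_of_dvd Nat.card_pos hd)
        exact hcC (by rw [hCK]; exact hc)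
      haveI : Fact p.Prime := ⟨hp⟩
      have hp2 : p ≠ 2 := by
        rintro rfl
        refine hpC ?_
        rw [Nat.factorization_eq_zero_of_not_dvd fun h => Nat.not_even_iff_odd.2 hKodd (even_iff_two_dvd.2 h),
          pow_zero]
        exact one_dvd _
      obtain ⟨P, hP⟩ := CoprimeAct.exists_invariant_sylow hAK hcop (Or.inr (SEBrick.solvable_of_odd hKodd)) p
      set R := (P : Subgroup K).map K.subtype with hR
      have hRK : R ≤ K := Subgroup.map_subtype_le _
      -- `R` is normal
      have hRn : Subgroup.normalizer (R : Set G) = ⊤ := by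
        refine hgen _ hP fun hle' => hH.1 (eq_top_iff.2 ?_)
        rw [← Sylow.normalizer_sup_eq_top P]
        exact sup_le hle' (Subgroup.normalCore_le H)
      have hRconj : ∀ g : G, ∀ y ∈ R, g * y * g⁻¹ ∈ R := fun g y hy =>
        (Subgroup.mem_normalizer_iff.1 (hRn ▸ Subgroup.mem_top g) y).1 hy
      have hnoc : ∀ b ∈ A, b ≠ 1 → ∃ y ∈ R, φ b * φ y ≠ φ y * φ b := by
        by_contra hno'
        push Not at hno'
        obtain ⟨b, hb, hb1, hbR⟩ := hno'
        refine hpC ?_
        have hPcard : Nat.card R = p ^ (Nat.card K).factorization p := by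
          rw [hR, Subgroup.card_subtype, P.card_eq_multiplicity]
        rw [← hPcard]
        refine Subgroup.card_dvd_of_le fun y hy => ⟨Subgroup.mem_comap.2
          (Subgroup.mem_centralizer_singleton_iff.2 ?_), hRK hy⟩
        rcases eq_or_ne a 1 with rfl | ha1
        · rw [map_one, one_mul, mul_one]
        obtain ⟨g, hg⟩ := isConj_iff.1 (Invol.se_isConj hH (hA2 b hb hb1) (hA2 a ha ha1))
        have h := hbR _ (hRconj g⁻¹ y hy)
        rw [← map_mul, ← map_mul] at h ⊢
        have h' := congrArg (fun f => φ g * f * φ g⁻¹) h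
        simp only [← map_mul] at h'
        rw [← hg]
        convert h'.symm using 2 <;> group
      haveI : Finite (Module.End (ZMod 2) V) := Module.finite_of_finite (ZMod 2)
      have hinj : ∀ b ∈ A, φ b = 1 → b = 1 := fun b hb h => by
        by_contra hb1
        exact hρ b (hA2 b hb hb1) (congrArg Units.val h)
      have hA' : ∀ b ∈ A.map φ, b * b = 1 := by
        rintro _ ⟨b, hb, rfl⟩
        rw [← map_mul, hF.sq b hb, map_one]
      have hcard' : Nat.card (A.map φ) = 2 ^ n := by
        rw [← hF.card]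
        refine (Nat.card_eq_of_bijective (fun b : A => (⟨φ b, Subgroup.mem_map_of_mem φ b.2⟩ : A.map φ))
          ⟨fun b b' h => Subtype.ext (inv_mul_eq_one.1 (hinj _ (mul_mem (inv_mem b.2) b'.2) (by
            rw [map_mul, map_inv, inv_mul_eq_one]; exact congrArg Subtype.val h))), ?_⟩).symm
        rintro ⟨_, b, hb, rfl⟩
        exact ⟨⟨b, hb⟩, rfl⟩
      obtain ⟨y, hy, hyc, hpat⟩ := exists_basis hp2 hA' n (A.map φ) (R.map φ) le_rfl
        ((P.isPGroup'.map K.subtype).map φ) (by
          rintro _ ⟨b, hb, rfl⟩ _ ⟨z, hz, rfl⟩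
          refine ⟨b * z * b, ?_, by rw [map_mul, map_mul]⟩
          have := hRconj b z hz
          rwa [inv_eq_of_mul_eq_one_right (hF.sq b hb)] at this) hcard' (by
          rintro _ ⟨b, hb, rfl⟩ hb1
          obtain ⟨z, hz, hne'⟩ := hnoc b hb fun e => hb1 (by rw [e, map_one])
          exact ⟨φ z, Subgroup.mem_map_of_mem φ hz, hne'⟩)
      obtain ⟨w, hw, hwy⟩ := hpat fun _ => true
      simp only [if_true] at hwy
      set U := Subgroup.closure (Set.range y) with hU
      have hUc : ∀ u ∈ U, ∀ u' ∈ U, u * u' = u' * u := by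
        have hcc : ∀ u ∈ Set.range y, ∀ u' ∈ Set.range y, u * u' = u' * u := by
          rintro _ ⟨i, rfl⟩ _ ⟨j, rfl⟩
          exact hyc i j
        haveI := Subgroup.isMulCommutative_closure hcc
        exact fun u hu u' hu' => setLike_mul_comm hu hu'
      have hwsq : w * w = 1 := hA' w hw
      have hUexp : ∀ u ∈ U, u ^ p = 1 ∧ w * u * w = u⁻¹ := by
        intro u hu
        induction hu using Subgroup.closure_induction with
        | mem u hu =>
          obtain ⟨i, rfl⟩ := hu
          exact ⟨by rw [← (hy i).2.1, pow_orderOf_eq_one], hwy i⟩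
        | one => exact ⟨one_pow p, by rw [mul_one, hwsq, inv_one]⟩
        | mul u u' hu hu' hu1 hu'1 =>
          refine ⟨by rw [(show Commute u u' from hUc u hu u' hu').mul_pow, hu1.1, hu'1.1, one_mul], ?_⟩
          rw [conj2_mul hwsq, hu1.2, hu'1.2, ← mul_inv_rev, hUc u' hu' u hu]
        | inv u hu hu1 => exact ⟨by rw [inv_pow, hu1.1, inv_one], by rw [conj2_inv hwsq, hu1.2]⟩
      have hUcard : p ^ n ≤ Nat.card U := by
        letI : CommGroup U := { (inferInstance : Group U) with
          mul_comm := fun u u' => Subtype.ext (hUc u u.2 u' u'.2) }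
        let yU : Fin n → U := fun i => ⟨y i, Subgroup.subset_closure ⟨i, rfl⟩⟩
        have hinjU : Function.Injective fun c : Fin n → Fin p => ∏ i, yU i ^ (c i : ℕ) := by
          intro c c' h
          funext j
          obtain ⟨b, hb, hbp⟩ := hpat fun i => decide (i = j)
          have hb2 : b * b = 1 := hA' b hb
          have hbU : ∀ u : U, b * (u : (Module.End (ZMod 2) V)ˣ) * b ∈ U := fun u => by
            obtain ⟨u, hu⟩ := u
            induction hu using Subgroup.closure_induction with
            | mem u hu =>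
              obtain ⟨i, rfl⟩ := hu
              have := hbp i
              show b * y i * b ∈ U
              rw [this]
              split_ifs
              · exact inv_mem (Subgroup.subset_closure ⟨i, rfl⟩)
              · exact Subgroup.subset_closure ⟨i, rfl⟩
            | one => show b * 1 * b ∈ U; rw [mul_one, hb2]; exact one_mem _
            | mul u u' _ _ h1 h2 => show b * (u * u') * b ∈ U; rw [conj2_mul hb2]; exact mul_mem h1 h2
            | inv u _ h1 => show b * u⁻¹ * b ∈ U; rw [conj2_inv hb2]; exact inv_mem h1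
          let f : U →* U :=
            { toFun := fun u => u / ⟨_, hbU u⟩
              map_one' := Subtype.ext (by simp [hb2])
              map_mul' := fun u u' => by
                rw [show (⟨_, hbU (u * u')⟩ : U) = ⟨_, hbU u⟩ * ⟨_, hbU u'⟩ from
                  Subtype.ext (conj2_mul hb2 _ _), mul_div_mul_comm] }
          have hfy : ∀ i, f (yU i) = if i = j then yU i * yU i else 1 := fun i => by
            apply Subtype.ext
            show (y i) / (b * y i * b) = _
            rw [hbp i]
            by_cases h' : i = j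
            · simp [h', yU]
            · simp [h', yU]
          have h2 := congrArg f h
          simp only [map_prod, map_pow, hfy, ite_pow, one_pow, Finset.prod_ite_eq', Finset.mem_univ,
            if_true] at h2
          have h3 : y j ^ (2 * (c j : ℕ)) = y j ^ (2 * (c' j : ℕ)) := by
            have h4 := congrArg Subtype.val h2
            simpa [yU, ← pow_two, ← pow_mul] using h4
          rw [pow_inj_mod, (hy j).2.1] at h3
          have h5 := Nat.ModEq.cancel_left_of_coprime (by
            exact Nat.coprime_two_right.2 (hp.odd_of_ne_two hp2)) h3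
          exact Fin.ext (by rw [← Nat.mod_eq_of_lt (c j).2, ← Nat.mod_eq_of_lt (c' j).2]; exact h5)
        have h := Nat.card_le_card_of_injective _ hinjU
        rwa [Nat.card_fun, Nat.card_fin, Nat.card_fin] at h
      let τ : Representation (ZMod 2) (Module.End (ZMod 2) V)ˣ V := Units.coeHom _
      have hrk := rkOn_of_inverted τ hp2 (finrank (ZMod 2) V) n U w ⊤ (Submodule.finrank_le _)
        hwsq hUc (fun u hu => (hUexp u hu).1) (fun u hu => (hUexp u hu).2) (fun _ _ => le_top)
        le_top (fun u hu hfix => Units.ext (LinearMap.ext fun v => hfix v Submodule.mem_top)) hUcard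
      obtain ⟨b, hb, rfl⟩ := hw
      have hrk' : n ≤ finrank (ZMod 2) (LinearMap.range (ρ b - 1)) :=
        le_of_le_of_eq (show n ≤ rkOn (ρ b - 1) ⊤ from hrk) (rkOn_top _)
      have hb1 : b ≠ 1 := by
        rintro rfl
        have h0 : LinearMap.range (ρ (1 : G) - 1) = ⊥ := by rw [map_one, sub_self, LinearMap.range_zero]
        rw [h0, finrank_bot] at hrk'
        omega
      exact absurd (hrk'.trans (rk_invol_eq ρ hH (hA2 b hb hb1) ht2).le) (not_le.2 hr)
    -- no fixed vectors
    have hclos : Subgroup.closure ((A : Set G) ∪ {t}) = ⊤ :=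
      hgen _ (fun a ha => Subgroup.subset_closure (Or.inl ha))
        fun h => hF.t_not_mem (h (Subgroup.subset_closure (Or.inr rfl)))
    have hfix : ∀ v ∈ fixedSub ρ A, ρ t v = v → v = 0 := by
      intro v hv htv
      by_contra hv0
      have hall : ∀ g : G, ρ g v = v := fun g => by
        have hg : g ∈ Subgroup.closure ((A : Set G) ∪ {t}) := hclos ▸ Subgroup.mem_top g
        induction hg using Subgroup.closure_induction with
        | mem z hz =>
          rcases hz with hz | hz
          · exact (mem_fixedSub ρ).1 hv z hz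
          · rw [Set.mem_singleton_iff.1 hz]; exact htv
        | one => rw [map_one, Module.End.one_apply]
        | mul z z' _ _ h1 h2 => rw [mul_apply, h2, h1]
        | inv z _ h1 =>
          conv_lhs => rw [← h1]
          rw [← mul_apply, inv_mul_cancel, map_one, Module.End.one_apply]
      set L := Submodule.span (ZMod 2) {v} with hL
      have hLfix : ∀ g : G, ∀ z ∈ L, ρ g z = z := fun g z hz => by
        obtain ⟨c, rfl⟩ := Submodule.mem_span_singleton.1 hz
        rw [map_smul, hall]
      let ρ' : Representation (ZMod 2) G (V ⧸ L) :=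
        { toFun := fun g => Submodule.mapQ L L (ρ g) fun z hz => by
            show ρ g z ∈ L
            rw [hLfix g z hz]; exact hz
          map_one' := LinearMap.ext fun q => by
            induction q using Submodule.Quotient.induction_on with
            | H z => simp [map_one]
          map_mul' := fun g h => LinearMap.ext fun q => by
            induction q using Submodule.Quotient.induction_on with
            | H z => simp [map_mul] }
      by_cases htriv : ∀ z : G, orderOf z = 2 → ρ' z ≠ 1
      · have hd : finrank (ZMod 2) (V ⧸ L) < finrank (ZMod 2) V := by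
          have h := L.finrank_quotient_add_finrank
          have : 0 < finrank (ZMod 2) L := Nat.pos_of_ne_zero fun h' => hv0 (by
            have hm := Submodule.mem_span_singleton_self (R := ZMod 2) v
            rw [← hL, Submodule.finrank_eq_zero.1 h', Submodule.mem_bot] at hm
            exact hm)
          omega
        have h := ih G H (V ⧸ L) ρ' (by omega) hH htriv A hF.le hF.sq t ht2
        rw [hF.card] at h
        have h' := (Nat.pow_le_pow_iff_right one_lt_two).1 h
        have hle' : LinearMap.range (ρ' t - 1) ≤ (LinearMap.range (ρ t - 1)).map L.mkQ := by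
          rintro _ ⟨q, rfl⟩
          induction q using Submodule.Quotient.induction_on with
          | H z => exact ⟨_, ⟨z, rfl⟩, rfl⟩
        have := (Submodule.finrank_mono hle').trans (Submodule.finrank_map_le _ _)
        omega
      · push Not at htriv
        obtain ⟨z, hz, hz1⟩ := htriv
        have hall2 : ∀ s : G, orderOf s = 2 → ∀ w : V, ρ s w - w ∈ L := fun s hs w => by
          obtain ⟨g, rfl⟩ := isConj_iff.1 (Invol.se_isConj hH hz hs)
          have h1 : ρ' (g * z * g⁻¹) = 1 := by
            rw [map_mul, map_mul, hz1, mul_one, ← map_mul, mul_inv_cancel, map_one]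
          exact (Submodule.Quotient.eq L).1 (DFunLike.congr_fun h1 (Submodule.Quotient.mk w))
        refine hnc fun s s' hs hs' => LinearMap.ext fun w => ?_
        rw [Module.End.mul_apply, Module.End.mul_apply]
        have e1 : ρ s (ρ s' w) = ρ s w + (ρ s' w - w) := by
          rw [← hLfix s _ (hall2 s' hs' w), ← map_add, add_sub_cancel]
        have e2 : ρ s' (ρ s w) = ρ s' w + (ρ s w - w) := by
          rw [← hLfix s' _ (hall2 s hs w), ← map_add, add_sub_cancel]
        rw [e1, e2]; abel
    -- no invariant hyperplane with trivial quotient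
    have hspan : ∀ U : Submodule (ZMod 2) V, (∀ a ∈ A, LinearMap.range (ρ a - 1) ≤ U) →
        LinearMap.range (ρ t - 1) ≤ U → U = ⊤ := by
      intro U hUA hUt
      by_contra hU
      have hall : ∀ g : G, ∀ w : V, ρ g w - w ∈ U := fun g => by
        have hg : g ∈ Subgroup.closure ((A : Set G) ∪ {t}) := hclos ▸ Subgroup.mem_top g
        induction hg using Subgroup.closure_induction with
        | mem z hz =>
          intro w
          rcases hz with hz | hz
          · exact hUA z hz ⟨w, rfl⟩
          · rw [Set.mem_singleton_iff.1 hz]; exact hUt ⟨w, rfl⟩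
        | one => intro w; rw [map_one, Module.End.one_apply, sub_self]; exact zero_mem _
        | mul z z' _ _ h1 h2 =>
          intro w
          have e : ρ (z * z') w - w = (ρ z (ρ z' w) - ρ z' w) + (ρ z' w - w) := by rw [mul_apply]; abel
          rw [e]; exact add_mem (h1 _) (h2 _)
        | inv z _ h1 =>
          intro w
          have e : ρ z⁻¹ w - w = -(ρ z (ρ z⁻¹ w) - ρ z⁻¹ w) := by
            rw [← mul_apply, mul_inv_cancel, map_one, Module.End.one_apply, neg_sub]
          rw [e]; exact neg_mem (h1 _)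
      have hinvU : ∀ g : G, ∀ w ∈ U, ρ g w ∈ U := fun g w hw => by
        have h := add_mem (hall g w) hw
        rwa [sub_add_cancel] at h
      let ρ' : Representation (ZMod 2) G U :=
        { toFun := fun g => (ρ g).restrict (hinvU g)
          map_one' := LinearMap.ext fun z => Subtype.ext (by simp [map_one])
          map_mul' := fun g h => LinearMap.ext fun z => Subtype.ext (by simp [map_mul]) }
      by_cases htriv : ∀ z : G, orderOf z = 2 → ρ' z ≠ 1
      · have hd : finrank (ZMod 2) U < finrank (ZMod 2) V := Submodule.finrank_lt hU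
        have h := ih G H U ρ' (by omega) hH htriv A hF.le hF.sq t ht2
        rw [hF.card] at h
        have h' := (Nat.pow_le_pow_iff_right one_lt_two).1 h
        have hle' : (LinearMap.range (ρ' t - 1)).map U.subtype ≤ LinearMap.range (ρ t - 1) := by
          rintro _ ⟨_, ⟨z, rfl⟩, rfl⟩
          exact ⟨(z : V), rfl⟩
        have := Submodule.finrank_mono hle'
        rw [Submodule.finrank_map_subtype_eq] at this
        omega
      · push Not at htriv
        obtain ⟨z, hz, hz1⟩ := htriv
        have hall2 : ∀ s : G, orderOf s = 2 → ∀ w ∈ U, ρ s w = w := fun s hs w hw => by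
          obtain ⟨g, rfl⟩ := isConj_iff.1 (Invol.se_isConj hH hz hs)
          have h1 : ρ' (g * z * g⁻¹) = 1 := by
            rw [map_mul, map_mul, hz1, mul_one, ← map_mul, mul_inv_cancel, map_one]
          exact congrArg Subtype.val (DFunLike.congr_fun h1 ⟨w, hw⟩)
        refine hnc fun s s' hs hs' => LinearMap.ext fun w => ?_
        rw [Module.End.mul_apply, Module.End.mul_apply]
        have e1 : ρ s (ρ s' w) = ρ s w + (ρ s' w - w) := by
          rw [← hall2 s hs _ (hall s' w), ← map_add, add_sub_cancel]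
        have e2 : ρ s' (ρ s w) = ρ s' w + (ρ s w - w) := by
          rw [← hall2 s' hs' _ (hall s w), ← map_add, add_sub_cancel]
        rw [e1, e2]; abel
    obtain ⟨hd, W, M, hM, hWy, hfpf, hxN, hnW, hmW, hWr⟩ := torus ρ hF hH hρ hker hK hfix hspan hr
    by_cases hk3 : k = 3
    · -- an element of order seven on a space of dimension four
      subst hk3
      have hn3 : n = 3 := by
        have h3 := hF.le_k
        rcases Nat.lt_or_ge n 3 with h | h
        · exact absurd ⟨rfl, (by omega : n = 2)⟩ hF.not_exc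
        · omega
      subst hn3
      have hW4 : finrank (ZMod 2) W = 4 := by
        obtain ⟨l, hl⟩ := hmW
        omega
      haveI : Fintype W := Fintype.ofFinite W
      let f : W → W := fun w => ⟨ρ (x ^ M) w, hWy ⟨w, w.2, rfl⟩⟩
      have hiter : ∀ i, ∀ w : W, ((f^[i] w : W) : V) = ρ ((x ^ M) ^ i) w := by
        intro i
        induction i with
        | zero => intro w; rw [pow_zero, map_one]; rfl
        | succ i ih' => intro w; rw [Function.iterate_succ_apply', pow_succ', mul_apply, ← ih' w]
      haveI : Fact (Nat.Prime 7) := ⟨by norm_num⟩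
      have h7 : f^[7 ^ 1] = id := funext fun w => Subtype.ext (by
        rw [hiter, pow_one, ← pow_mul, mul_comm, pow_mul, map_pow, show (7 : ℕ) = 2 ^ 3 - 1 by norm_num, hxN,
          one_pow]; rfl)
      have hmod := Equiv.Perm.card_fixedPoints_modEq (p := 7) (n := 1) h7
      have hone : Fintype.card (Function.fixedPoints f) = 1 := by
        rw [Fintype.card_eq_one_iff]
        refine ⟨⟨0, Subtype.ext (map_zero (ρ (x ^ M)))⟩, fun w => Subtype.ext (Subtype.ext ?_)⟩
        exact hfpf _ w.1.2 (congrArg Subtype.val w.2)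
      have hcard : Fintype.card W = 16 := by
        rw [← Nat.card_eq_fintype_card, Module.natCard_eq_pow_finrank (K := ZMod 2), Nat.card_zmod, hW4]
        norm_num
      rw [hone, hcard] at hmod
      exact absurd hmod (by decide)
    · have h1 := two_mul_le_finrank ρ hF hker hk3
      have := hF.le_k
      omega

/-- The rank of an involution bounds the elementary abelian subgroups of a strongly embedded subgroup. -/
theorem rank_bound (hB : BenderStmt.{u}) {G : Type u} [Group G] [Finite G] {H : Subgroup G} {V : Type v}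
    [AddCommGroup V] [Module (ZMod 2) V] [Module.Finite (ZMod 2) V] (ρ : Representation (ZMod 2) G V)
    (hH : Cfsg.IsStronglyEmbedded H) (hρ : ∀ s : G, orderOf s = 2 → ρ s ≠ 1) {E : Subgroup G} (hEH : E ≤ H)
    (hE : ∀ a ∈ E, a * a = 1) {s : G} (hs : orderOf s = 2) :
    Nat.card E ≤ 2 ^ finrank (ZMod 2) (LinearMap.range (ρ s - 1)) :=
  rank_bound_aux hB _ G H V ρ le_rfl hH hρ E hEH hE s hs

end Cfsg.Agent.SEModule
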