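import Mathlib.GroupTheory.Nilpotent
import Mathlib.GroupTheory.Sylow
import Mathlib.Tactic.Group
import Mathlib.Tactic.Ring

/-!
# Elementary abelian 2-groups acting on r-groups, r odd

If such a group `A` has a subgroup `B` acting faithfully on the r-group `R`, then `R` has commuting
elements of order `r`, each fixed or inverted by every element of `A`, on which the elements of `B`
realise every pattern of signs.
-/

set_option autoImplicit false
set_option linter.style.haveILetI false

namespace Cfsg.Agent.SEModule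

open Subgroup

variable {X : Type*} [Group X] [Finite X]

omit [Finite X] in
theorem eq_one_of_sq_odd {R : Subgroup X} (hodd : Odd (Nat.card R)) {x : X} (hx : x ∈ R) (h : x * x = 1) :
    x = 1 := by
  obtain ⟨m, hm⟩ := hodd
  have h1 : x ^ (2 * m + 1) = 1 := by
    rw [← hm]
    exact congrArg Subtype.val (pow_card_eq_one' (x := (⟨x, hx⟩ : R)))
  rwa [pow_succ, pow_mul, pow_two, h, one_pow, one_mul] at h1

section
omit [Finite X]

theorem conj2_mul {b : X} (hb : b * b = 1) (x y : X) : b * (x * y) * b = (b * x * b) * (b * y * b) := by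
  rw [show (b * x * b) * (b * y * b) = b * x * (b * b) * y * b by group, hb, mul_one]; group

theorem conj2_inv {b : X} (hb : b * b = 1) (x : X) : b * x⁻¹ * b = (b * x * b)⁻¹ := by
  rw [mul_inv_rev, mul_inv_rev, inv_eq_of_mul_eq_one_right hb, mul_assoc]

theorem conj2_self {b : X} (hb : b * b = 1) (x : X) : b * (b * x * b) * b = x := by
  rw [show b * (b * x * b) * b = (b * b) * x * (b * b) by group, hb, one_mul, mul_one]

theorem conj2_comm {b c : X} (hbc : b * c = c * b) (x : X) : b * (c * x * c) * b = c * (b * x * b) * c := by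
  rw [show b * (c * x * c) * b = (b * c) * x * (c * b) by group, hbc]
  rw [show c * (b * x * b) * c = (c * b) * x * (b * c) by group, hbc]

end

omit [Finite X] in
/-- Fixed times inverted. -/
theorem exists_fixed_mul_inverted {R : Subgroup X} (hodd : Odd (Nat.card R)) {c : X} (hc : c * c = 1)
    (hcR : ∀ x ∈ R, c * x * c ∈ R) {w : X} (hw : w ∈ R) :
    ∃ f ∈ R, ∃ i ∈ R, w = f * i ∧ c * f * c = f ∧ c * i * c = i⁻¹ := by
  obtain ⟨m, hm⟩ := hodd
  have hci : c⁻¹ = c := inv_eq_of_mul_eq_one_right hc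
  set s := (c * w * c)⁻¹ * w with hs
  have hsR : s ∈ R := mul_mem (inv_mem (hcR w hw)) hw
  have h1 : s ^ (2 * m + 1) = 1 := by
    rw [← hm]
    exact congrArg Subtype.val (pow_card_eq_one' (x := (⟨s, hsR⟩ : R)))
  have hcs : c * s * c = s⁻¹ := by
    rw [hs, conj2_mul hc, conj2_inv hc, conj2_self hc, mul_inv_rev, inv_inv]
  have hii : s ^ (m + 1) * s ^ (m + 1) = s := by
    rw [← pow_add, show m + 1 + (m + 1) = 2 * m + 1 + 1 by ring, pow_succ, h1, one_mul]
  have hi : c * s ^ (m + 1) * c = (s ^ (m + 1))⁻¹ := by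
    have h2 : (c * s * c⁻¹) ^ (m + 1) = c * s ^ (m + 1) * c⁻¹ := conj_pow
    rw [hci, hcs, inv_pow] at h2
    exact h2.symm
  refine ⟨w * (s ^ (m + 1))⁻¹, mul_mem hw (inv_mem (pow_mem hsR _)), _, pow_mem hsR (m + 1),
    by group, ?_, hi⟩
  rw [conj2_mul hc, conj2_inv hc, hi, inv_inv]
  calc c * w * c * s ^ (m + 1) = c * w * c * (s ^ (m + 1) * s ^ (m + 1)) * (s ^ (m + 1))⁻¹ := by group
    _ = w * (s ^ (m + 1))⁻¹ := by rw [hii, hs]; group

variable {r : ℕ} [hr : Fact r.Prime]

/-- An involution acting on an r-group, `r` odd, is trivial if no non-trivial element inverted by it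
centralises its fixed points. -/
theorem commute_of_fixed {R : Subgroup X} (hR : IsPGroup r R) {b : X} (hb : b * b = 1)
    (hbR : ∀ x ∈ R, b * x * b ∈ R)
    (h : ∀ d ∈ R, b * d * b = d⁻¹ → (∀ x ∈ R, b * x * b = x → x * d = d * x) → d = 1) :
    ∀ x ∈ R, b * x = x * b := by
  have hbi : b⁻¹ = b := inv_eq_of_mul_eq_one_right hb
  let N : Subgroup R :=
    { carrier := {x | b * (x : X) * b = x}
      one_mem' := by simp [hb]
      mul_mem' := fun {x y} hx hy => by
        show b * ((x : X) * y) * b = x * y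
        calc b * ((x : X) * y) * b = b * (x : X) * (b * b) * y * b := by rw [hb, mul_one]; group
          _ = (b * x * b) * (b * y * b) := by group
          _ = x * y := by rw [hx, hy]
      inv_mem' := fun {x} hx => by
        show b * (x : X)⁻¹ * b = (x : X)⁻¹
        have := congrArg (·⁻¹) hx
        simp only [mul_inv_rev, hbi] at this
        rw [mul_assoc]; exact this }
  suffices hN : N = ⊤ by
    intro x hx
    have h1 : b * x * b = x := (hN ▸ mem_top (⟨x, hx⟩ : R) : (⟨x, hx⟩ : R) ∈ N)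
    calc b * x = b * x * (b * b) := by rw [hb, mul_one]
      _ = b * x * b * b := by group
      _ = x * b := by rw [h1]
  by_contra hN
  haveI : Group.IsNilpotent R := hR.isNilpotent
  have hlt := (Group.normalizerCondition_of_isNilpotent (G := R)) N (lt_top_iff_ne_top.2 hN)
  obtain ⟨g, hg, hgN⟩ := SetLike.exists_of_lt hlt
  set d : X := (g : X)⁻¹ * (b * g * b) with hd
  have hdR : d ∈ R := mul_mem (inv_mem g.2) (hbR g g.2)
  have hinv : b * d * b = d⁻¹ := by
    calc b * d * b = b * (g : X)⁻¹ * b * g * (b * b) := by rw [hd]; group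
      _ = b * (g : X)⁻¹ * b * g := by rw [hb, mul_one]
      _ = d⁻¹ := by rw [hd]; simp only [mul_inv_rev, inv_inv, hbi]; group
  refine hgN ?_
  have hd1 : d = 1 := h d hdR hinv fun x hx hbx => by
    have hn : g * ⟨x, hx⟩ * g⁻¹ ∈ N := (mem_normalizer_iff.1 hg ⟨x, hx⟩).1 hbx
    have h1 : b * ((g : X) * x * (g : X)⁻¹) * b = (g : X) * x * (g : X)⁻¹ := hn
    have h2 : (b * g * b) * x * (b * g * b)⁻¹ = (g : X) * x * (g : X)⁻¹ := by
      calc (b * g * b) * x * (b * g * b)⁻¹ = b * g * (b * x * b) * (g : X)⁻¹ * b := by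
            simp only [mul_inv_rev, hbi]; group
        _ = b * ((g : X) * x * (g : X)⁻¹) * b := by rw [hbx]; group
        _ = _ := h1
    calc x * d = (g : X)⁻¹ * ((g : X) * x * (g : X)⁻¹) * (b * g * b) := by rw [hd]; group
      _ = d * x := by rw [← h2, hd]; group
  show b * (g : X) * b = g
  rw [hd, inv_mul_eq_one] at hd1
  exact hd1.symm

/-- An involution centralising `y` and the centraliser of `y` in an r-group centralises the r-group. -/
theorem commute_of_centralizer (hr2 : r ≠ 2) {R : Subgroup X} (hR : IsPGroup r R) {b y : X}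
    (hb : b * b = 1) (hbR : ∀ x ∈ R, b * x * b ∈ R) (hy : y ∈ R) (hby : b * y * b = y)
    (h : ∀ x ∈ R, x * y = y * x → b * x * b = x) : ∀ x ∈ R, b * x = x * b := by
  have hodd : Odd (Nat.card R) := by
    obtain ⟨k, hk⟩ := IsPGroup.iff_card.1 hR
    rw [hk]; exact (hr.out.odd_of_ne_two hr2).pow
  refine commute_of_fixed hR hb hbR fun d hd hinv hc => ?_
  have hfix := h d hd (hc y hy hby).symm
  rw [hinv] at hfix
  exact eq_one_of_sq_odd hodd hd (by rw [← mul_inv_cancel d, hfix])

/-- A four group acting on an r-group. -/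
theorem exists_eigen_of_four (hr2 : r ≠ 2) {R : Subgroup X} (hR : IsPGroup r R) {b c : X}
    (hb : b * b = 1) (hc : c * c = 1) (hbc : b * c = c * b) (hbR : ∀ x ∈ R, b * x * b ∈ R)
    (hcR : ∀ x ∈ R, c * x * c ∈ R) (hne : ∃ x ∈ R, b * x ≠ x * b) :
    ∃ y ∈ R, y ≠ 1 ∧ b * y * b = y⁻¹ ∧ (c * y * c = y ∨ c * y * c = y⁻¹) := by
  have hodd : Odd (Nat.card R) := by
    obtain ⟨k, hk⟩ := IsPGroup.iff_card.1 hR
    rw [hk]; exact (hr.out.odd_of_ne_two hr2).pow
  have hbi : b⁻¹ = b := inv_eq_of_mul_eq_one_right hb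
  have hci : c⁻¹ = c := inv_eq_of_mul_eq_one_right hc
  by_contra hno
  push Not at hno
  -- `b` centralises the elements fixed by `c` or by `b * c`
  have key : ∀ e : X, e * e = 1 → b * e = e * b → (∀ x ∈ R, e * x * e ∈ R) →
      (∀ y ∈ R, e * y * e = y → b * y * b = y⁻¹ → y = 1) → ∀ x ∈ R, e * x * e = x → b * x * b = x := by
    intro e he hbe heR hy x hx hex
    obtain ⟨f, hf, i, hi, rfl, hbf, hbi'⟩ := exists_fixed_mul_inverted hodd hb hbR hx
    have hfe : b * (e * f * e) * b = e * f * e := by rw [conj2_comm hbe, hbf]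
    have hie : b * (e * i * e) * b = (e * i * e)⁻¹ := by rw [conj2_comm hbe, hbi', conj2_inv he]
    have heq : (e * f * e) * (e * i * e) = f * i := by rw [← conj2_mul he]; exact hex
    have h2 : i * i = (e * i * e) * (e * i * e) := by
      have h3 := congrArg (fun z => (b * z * b)⁻¹ * z) heq
      have lhs : (b * ((e * f * e) * (e * i * e)) * b)⁻¹ * ((e * f * e) * (e * i * e)) =
          (e * i * e) * (e * i * e) := by
        rw [conj2_mul hb, hfe, hie]; group
      have rhs : (b * (f * i) * b)⁻¹ * (f * i) = i * i := by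
        rw [conj2_mul hb, hbf, hbi']; group
      rw [lhs, rhs] at h3
      exact h3.symm
    have heiR := heR i hi
    have hcomm : e * i * e = i := by
      obtain ⟨m, hm⟩ := hodd
      have hp : ∀ z ∈ R, (z * z) ^ (m + 1) = z := fun z hz => by
        have h1 : z ^ (2 * m + 1) = 1 := by
          rw [← hm]; exact congrArg Subtype.val (pow_card_eq_one' (x := (⟨z, hz⟩ : R)))
        rw [← pow_two, ← pow_mul, show 2 * (m + 1) = 2 * m + 1 + 1 by ring, pow_succ, h1, one_mul]
      calc e * i * e = ((e * i * e) * (e * i * e)) ^ (m + 1) := (hp _ heiR).symm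
        _ = i := by rw [← h2, hp i hi]
    rw [hy i hi hcomm hbi', mul_one]
    exact hbf
  have hfc := key c hc hbc hcR fun y hy hcy hby => by
    by_contra h1
    exact (hno y hy h1 hby).1 hcy
  have hbcc : ∀ x : X, b * c * x * (b * c) = b * (c * x * c) * b := fun x => by
    rw [show b * c * x * (b * c) = b * c * x * (c * b) by rw [hbc]]; group
  have hbcR : ∀ x ∈ R, b * c * x * (b * c) ∈ R := fun x hx => by
    rw [hbcc]; exact hbR _ (hcR x hx)
  have hfbc := key (b * c) (by
      rw [show b * c * (b * c) = b * c * (c * b) by rw [hbc],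
        show b * c * (c * b) = b * (c * c) * b by group, hc, mul_one, hb])
    (by rw [show b * c * b = b * (c * b) by group, hbc]) hbcR fun y hy hcy hby => by
    by_contra h1
    refine (hno y hy h1 hby).2 ?_
    rw [hbcc] at hcy
    rw [← conj2_self hb (c * y * c), hcy, hby]
  obtain ⟨x, hx, hxne⟩ := hne
  refine hxne (commute_of_fixed hR hb hbR (fun d hd hinv hcent => ?_) x hx)
  obtain ⟨f, hf, i, hi, rfl, hcf, hci'⟩ := exists_fixed_mul_inverted hodd hc hcR hd
  have hbf := hfc f hf hcf
  have h1 : f * (f * i) = f * i * f := hcent f hf hbf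
  have hfi : f * i = i * f := by
    rw [mul_assoc] at h1
    exact mul_left_cancel h1
  -- `b` maps the inverted part to `i⁻¹ * f⁻¹ * f⁻¹`
  have h2 : b * i * b = i⁻¹ * f⁻¹ * f⁻¹ := by
    rw [conj2_mul hb, hbf, mul_inv_rev] at hinv
    have hfinv : f⁻¹ * i⁻¹ = i⁻¹ * f⁻¹ := by rw [← mul_inv_rev, ← hfi, mul_inv_rev]
    calc b * i * b = f⁻¹ * (f * (b * i * b)) := by group
      _ = f⁻¹ * i⁻¹ * f⁻¹ := by rw [hinv]; group
      _ = _ := by rw [hfinv]
  have h3 : c * (b * i * b) * c = (b * i * b)⁻¹ := by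
    rw [← conj2_comm hbc, hci', conj2_inv hb]
  have hcfi : c * f⁻¹ * c = f⁻¹ := by rw [conj2_inv hc, hcf]
  have hcii : c * i⁻¹ * c = i := by rw [conj2_inv hc, hci', inv_inv]
  have hf1 : f = 1 := by
    rw [h2, conj2_mul hc, conj2_mul hc, hcii, hcfi, mul_inv_rev, mul_inv_rev, inv_inv, inv_inv] at h3
    have hcomm : Commute f i := hfi
    have h4 : f⁻¹ * f⁻¹ = f * f := by
      have h5 : i * f⁻¹ * f⁻¹ = i * (f * f) := by
        rw [h3]; exact (hcomm.mul_left hcomm).eq.symm ▸ by group
      rw [mul_assoc] at h5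
      exact mul_left_cancel h5
    have h6 : (f * f) * (f * f) = 1 := by
      conv_lhs => arg 1; rw [← h4]
      group
    exact eq_one_of_sq_odd hodd hf (eq_one_of_sq_odd hodd (mul_mem hf hf) h6)
  subst hf1
  rw [one_mul] at hinv ⊢
  have hbci : b * c * i * (b * c) = i := by
    rw [hbcc, hci', conj2_inv hb, hinv, inv_inv]
  have hfix := hfbc i hi hbci
  rw [hinv] at hfix
  exact eq_one_of_sq_odd hodd hi (by rw [← mul_inv_cancel i, hfix])

/-- The elements of `R` fixed by the members of a set of elements of square one. -/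
def fixedBy (R : Subgroup X) (S : Set X) : Subgroup X :=
  R ⊓ Subgroup.centralizer S

omit [Finite X] in
theorem mem_fixedBy {R : Subgroup X} {S : Set X} (hS : ∀ e ∈ S, e * e = 1) {x : X} :
    x ∈ fixedBy R S ↔ x ∈ R ∧ ∀ e ∈ S, e * x * e = x := by
  refine and_congr_right fun _ => ?_
  show x ∈ Subgroup.centralizer S ↔ _
  rw [mem_centralizer_iff]
  refine forall_congr' fun e => forall_congr' fun he => ⟨fun h => ?_, fun h => ?_⟩
  · rw [h, mul_assoc, hS e he, mul_one]
  · calc e * x = e * x * (e * e) := by rw [hS e he, mul_one]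
      _ = e * x * e * e := by group
      _ = x * e := by rw [h]

section
variable (hr2 : r ≠ 2) {A : Subgroup X} (hA : ∀ a ∈ A, a * a = 1)
include hr2 hA

/-- A non-trivial eigenvector inverted by a given element. -/
theorem exists_eigen {R : Subgroup X} (hR : IsPGroup r R) (hAR : ∀ a ∈ A, ∀ x ∈ R, a * x * a ∈ R)
    {b : X} (hbA : b ∈ A) (hne : ∃ x ∈ R, b * x ≠ x * b) :
    ∃ y ∈ R, orderOf y = r ∧ b * y * b = y⁻¹ ∧ ∀ a ∈ A, a * y * a = y ∨ a * y * a = y⁻¹ := by
  classical
  have hb := hA b hbA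
  have hcomm : ∀ a ∈ A, ∀ a' ∈ A, a * a' = a' * a := fun a ha a' ha' => by
    have e : a * a' * (a * a') = 1 := hA _ (mul_mem ha ha')
    calc a * a' = (a * a')⁻¹ := eq_inv_of_mul_eq_one_left e
      _ = a' * a := by
        rw [mul_inv_rev, inv_eq_of_mul_eq_one_right (hA a ha), inv_eq_of_mul_eq_one_right (hA a' ha')]
  have hodd : Odd (Nat.card R) := by
    obtain ⟨k, hk⟩ := IsPGroup.iff_card.1 hR
    rw [hk]; exact (hr.out.odd_of_ne_two hr2).pow
  suffices h : ∀ s : Finset X, (∀ a ∈ s, a ∈ A) → ∃ y ∈ R, y ≠ 1 ∧ b * y * b = y⁻¹ ∧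
      ∀ a ∈ s, a * y * a = y ∨ a * y * a = y⁻¹ by
    have := Fintype.ofFinite X
    obtain ⟨y, hy, hy1, hby, heig⟩ := h (Finset.univ.filter (· ∈ A)) fun a ha => (Finset.mem_filter.1 ha).2
    obtain ⟨k, hk⟩ := (IsPGroup.iff_orderOf.1 hR) ⟨y, hy⟩
    rw [orderOf_mk] at hk
    cases k with
    | zero => exact absurd (orderOf_eq_one_iff.1 hk) hy1
    | succ k =>
      have hp : ∀ a ∈ A, a * y ^ r ^ k * a = (a * y * a) ^ r ^ k := fun a ha => by
        have h2 : (a * y * a⁻¹) ^ r ^ k = a * y ^ r ^ k * a⁻¹ := conj_pow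
        rw [inv_eq_of_mul_eq_one_right (hA a ha)] at h2
        exact h2.symm
      refine ⟨y ^ r ^ k, pow_mem hy _, ?_, by rw [hp b hbA, hby, inv_pow], fun a ha => ?_⟩
      · rw [orderOf_pow_of_dvd (pow_ne_zero _ hr.out.ne_zero) (hk ▸ pow_dvd_pow _ (by omega)), hk,
          pow_succ, Nat.mul_div_cancel_left _ (pow_pos hr.out.pos _)]
      · rw [hp a ha]
        rcases heig a (Finset.mem_filter.2 ⟨Finset.mem_univ _, ha⟩) with e | e <;> rw [e]
        · exact Or.inl rfl
        · exact Or.inr (inv_pow _ _)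
  intro s
  induction s using Finset.induction with
  | empty =>
    intro _
    obtain ⟨x, hx, hxne⟩ := hne
    obtain ⟨f, hf, i, hi, rfl, hbf, hbi⟩ := exists_fixed_mul_inverted hodd hb (hAR b hbA) hx
    refine ⟨i, hi, fun h => hxne ?_, hbi, by simp⟩
    rw [h, mul_one]
    calc b * f = b * f * (b * b) := by rw [hb, mul_one]
      _ = b * f * b * b := by group
      _ = f * b := by rw [hbf]
  | insert c s _ ih =>
    intro hs
    obtain ⟨y, hy, hy1, hby, heig⟩ := ih fun a ha => hs a (Finset.mem_insert_of_mem ha)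
    have hcA := hs c (Finset.mem_insert_self c s)
    set S : Set X := {e | e ∈ A ∧ (e ∈ s ∨ b * e ∈ s) ∧ e * y * e = y} with hS
    have hS2 : ∀ e ∈ S, e * e = 1 := fun e he => hA e he.1
    set L := fixedBy R S with hL
    have hLR : L ≤ R := inf_le_left
    have hinv : ∀ d ∈ A, ∀ x ∈ L, d * x * d ∈ L := fun d hd x hx => by
      rw [hL, mem_fixedBy hS2] at hx ⊢
      exact ⟨hAR d hd x hx.1, fun e he => by rw [conj2_comm (hcomm e he.1 d hd), hx.2 e he]⟩
    have hyL : y ∈ L := (mem_fixedBy hS2).2 ⟨hy, fun e he => he.2.2⟩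
    obtain ⟨z, hzL, hz1, hbz, hcz⟩ := exists_eigen_of_four hr2 (hR.to_le hLR) hb (hA c hcA)
      (hcomm b hbA c hcA) (hinv b hbA) (hinv c hcA) ⟨y, hyL, fun h => hy1 (eq_one_of_sq_odd hodd hy (by
        rw [show b * y * b = y by rw [h, mul_assoc, hb, mul_one]] at hby
        rw [← mul_inv_cancel y, ← hby]))⟩
    refine ⟨z, hLR hzL, hz1, hbz, fun a ha => ?_⟩
    rcases Finset.mem_insert.1 ha with rfl | ha'
    · exact hcz
    have hzfix := ((mem_fixedBy hS2).1 hzL).2
    rcases heig a ha' with h | h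
    · exact Or.inl (hzfix a ⟨hs a ha, Or.inl ha', h⟩)
    · have hbaA : b * a ∈ A := mul_mem hbA (hs a ha)
      have e : ∀ x : X, b * a * x * (b * a) = b * (a * x * a) * b := fun x => by
        rw [show b * a * x * (b * a) = b * a * x * (a * b) by rw [hcomm b hbA a (hs a ha)]]; group
      have h1 := hzfix (b * a) ⟨hbaA, Or.inr (by rwa [← mul_assoc, hb, one_mul]), by
        rw [e, h, conj2_inv hb, hby, inv_inv]⟩
      rw [e] at h1
      exact Or.inr (by rw [← conj2_self hb (a * z * a), h1, hbz])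

/-- Commuting eigenvectors of order `r` on which `B` realises all patterns of signs. -/
theorem exists_basis : ∀ (n : ℕ) (B R : Subgroup X), B ≤ A → IsPGroup r R →
    (∀ a ∈ A, ∀ x ∈ R, a * x * a ∈ R) → Nat.card B = 2 ^ n →
    (∀ b ∈ B, b ≠ 1 → ∃ x ∈ R, b * x ≠ x * b) →
    ∃ y : Fin n → X, (∀ i, y i ∈ R ∧ orderOf (y i) = r ∧
        ∀ a ∈ A, a * y i * a = y i ∨ a * y i * a = (y i)⁻¹) ∧
      (∀ i j, Commute (y i) (y j)) ∧
      ∀ ε : Fin n → Bool, ∃ a ∈ B, ∀ i, a * y i * a = if ε i then (y i)⁻¹ else y i := by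
  intro n
  induction n with
  | zero =>
    intro B R _ _ _ _ _
    exact ⟨Fin.elim0, fun i => i.elim0, fun i => i.elim0, fun _ => ⟨1, one_mem B, fun i => i.elim0⟩⟩
  | succ n ih =>
    intro B R hBA hR hAR hcard hfaith
    have hne : B ≠ ⊥ := fun h => by
      rw [h, Subgroup.card_bot] at hcard
      exact (Nat.one_lt_two_pow n.succ_ne_zero).ne hcard
    obtain ⟨⟨b, hb⟩, hb1'⟩ := Subgroup.ne_bot_iff_exists_ne_one.1 hne
    have hb1 : b ≠ 1 := fun e => hb1' (Subtype.ext e)
    obtain ⟨y, hy, hyr, hby, heig⟩ := exists_eigen hr2 hA hR hAR (hBA hb) (hfaith b hb hb1)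
    have hy1 : y ≠ 1 := fun h => by rw [h, orderOf_one] at hyr; exact hr.out.one_lt.ne hyr
    have hb2 := hA b (hBA hb)
    have hodd : Odd (Nat.card R) := by
      obtain ⟨k, hk⟩ := IsPGroup.iff_card.1 hR
      rw [hk]; exact (hr.out.odd_of_ne_two hr2).pow
    have hyinv : y⁻¹ ≠ y := fun h => hy1 (eq_one_of_sq_odd hodd hy (by
      conv_lhs => arg 1; rw [← h]
      exact inv_mul_cancel y))
    have hB2 : ∀ a ∈ B, ∀ x : X, b * a * x * (b * a) = b * (a * x * a) * b := fun a ha x => by
      have hc : b * a = a * b := by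
        have e : b * a * (b * a) = 1 := hA _ (mul_mem (hBA hb) (hBA ha))
        rw [eq_inv_of_mul_eq_one_left e, mul_inv_rev, inv_eq_of_mul_eq_one_right hb2,
          inv_eq_of_mul_eq_one_right (hA a (hBA ha))]
      rw [show b * a * x * (b * a) = b * a * x * (a * b) by rw [hc]]; group
    let B₀ : Subgroup X := B ⊓ Subgroup.centralizer {y}
    have hmem₀ : ∀ a ∈ B, a ∈ B₀ ↔ a * y * a = y := fun a ha => by
      have ha2 := hA a (hBA ha)
      refine ⟨fun h => ?_, fun h => ⟨ha, mem_centralizer_singleton_iff.2 ?_⟩⟩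
      · rw [mem_centralizer_singleton_iff.1 h.2, mul_assoc, ha2, mul_one]
      · calc a * y = a * y * (a * a) := by rw [ha2, mul_one]
          _ = a * y * a * a := by group
          _ = y * a := by rw [h]
    have hbB₀ : b ∉ B₀ := fun h => hyinv (hby.symm.trans ((hmem₀ b hb).1 h))
    have hsplit : ∀ a ∈ B, a ∉ B₀ → b * a ∈ B₀ := fun a ha han => by
      have h1 : a * y * a = y⁻¹ := (heig a (hBA ha)).resolve_left fun e => han ((hmem₀ a ha).2 e)
      refine (hmem₀ _ (mul_mem hb ha)).2 ?_
      rw [hB2 a ha, h1, conj2_inv hb2, hby, inv_inv]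
    have hcard₀ : Nat.card B₀ = 2 ^ n := by
      classical
      let e : Bool × B₀ → B := fun p => if p.1 then ⟨b * p.2, mul_mem hb p.2.2.1⟩ else ⟨p.2, p.2.2.1⟩
      have hbij : Function.Bijective e := by
        refine ⟨fun p q h => ?_, fun a => ?_⟩
        · obtain ⟨u, x⟩ := p
          obtain ⟨v, z⟩ := q
          have h' := congrArg Subtype.val h
          cases u <;> cases v <;> simp only [e, Bool.false_eq_true, if_false, if_true] at h'
          · rw [Subtype.ext h']
          · exact absurd (by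
              have h2 := mul_mem x.2 (inv_mem z.2)
              rwa [h', mul_inv_cancel_right] at h2) hbB₀
          · exact absurd (by
              have h2 := mul_mem z.2 (inv_mem x.2)
              rwa [← h', mul_inv_cancel_right] at h2) hbB₀
          · rw [Subtype.ext (mul_left_cancel h')]
        · by_cases ha : (a : X) ∈ B₀
          · exact ⟨(false, ⟨a, ha⟩), by simp [e]⟩
          · refine ⟨(true, ⟨b * a, hsplit a a.2 ha⟩), Subtype.ext ?_⟩
            simp only [e, if_true]
            rw [← mul_assoc, hb2, one_mul]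
      have h := Nat.card_eq_of_bijective e hbij
      rw [Nat.card_prod, hcard, Nat.card_eq_fintype_card, Fintype.card_bool, pow_succ'] at h
      exact Nat.eq_of_mul_eq_mul_left two_pos h
    let R₁ : Subgroup X := R ⊓ Subgroup.centralizer {y}
    have hAR₁ : ∀ a ∈ A, ∀ x ∈ R₁, a * x * a ∈ R₁ := fun a ha x hx => by
      have hxy : x * y = y * x := mem_centralizer_singleton_iff.1 hx.2
      refine ⟨hAR a ha x hx.1, mem_centralizer_singleton_iff.2 ?_⟩
      have ha2 := hA a ha
      have key : ∀ z, x * z = z * x → a * x * a * (a * z * a) = a * z * a * (a * x * a) := fun z hz => by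
        rw [← conj2_mul ha2, ← conj2_mul ha2, hz]
      rcases heig a ha with e | e
      · have := key y hxy
        rwa [e] at this
      · have hxy' : x * y⁻¹ = y⁻¹ * x := Commute.inv_right (show Commute x y from hxy)
        have := key y⁻¹ hxy'
        rwa [conj2_inv ha2, e, inv_inv] at this
    obtain ⟨y', hy'1, hy'2, hy'3⟩ := ih B₀ R₁ (inf_le_left.trans hBA) (hR.to_le inf_le_left) hAR₁ hcard₀
      fun c hc hc1 => by
        by_contra h
        push Not at h
        have hc2 := hA c (hBA hc.1)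
        obtain ⟨x, hx, hne⟩ := hfaith c hc.1 hc1
        refine hne (commute_of_centralizer hr2 hR hc2 (fun z hz => hAR c (hBA hc.1) z hz) hy
          ((hmem₀ c hc.1).1 hc) (fun z hz hzy => ?_) x hx)
        rw [h z ⟨hz, mem_centralizer_singleton_iff.2 hzy⟩, mul_assoc, hc2, mul_one]
    have hcy : ∀ j, Commute (y' j) y := fun j => mem_centralizer_singleton_iff.1 (hy'1 j).1.2
    refine ⟨Fin.cons y y', fun i => ?_, fun i j => ?_, fun ε => ?_⟩
    · refine Fin.cases ?_ (fun j => ?_) i
      · exact ⟨hy, hyr, heig⟩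
      · rw [Fin.cons_succ]; exact ⟨(hy'1 j).1.1, (hy'1 j).2⟩
    · refine Fin.cases ?_ (fun i => ?_) i <;> refine Fin.cases ?_ (fun j => ?_) j <;>
        simp only [Fin.cons_zero, Fin.cons_succ]
      · exact Commute.refl y
      · exact (hcy j).symm
      · exact hcy i
      · exact hy'2 i j
    · classical
      set base : X := if ε 0 then b else 1 with hbase
      have hbaseB : base ∈ B := by rw [hbase]; split_ifs <;> simp [hb]
      obtain ⟨a₀, ha₀, hpat⟩ := hy'3 fun i =>
        xor (ε i.succ) (decide (base * y' i * base ≠ y' i))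
      have hfix := (hmem₀ a₀ ha₀.1).1 ha₀
      by_cases h0 : ε 0 = true
      · rw [if_pos h0] at hbase
        rw [hbase] at hpat
        refine ⟨b * a₀, mul_mem hb ha₀.1, Fin.cases ?_ fun i => ?_⟩
        · simp only [Fin.cons_zero, h0, if_true]
          rw [hB2 a₀ ha₀.1, hfix, hby]
        · simp only [Fin.cons_succ]
          rw [hB2 a₀ ha₀.1, hpat i]
          rcases (hy'1 i).2.2 b (hBA hb) with e | e
          · simp only [e, ne_eq, not_true_eq_false, decide_false, Bool.xor_false]
            split_ifs <;> simp [conj2_inv hb2, e]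
          · by_cases h' : b * y' i * b = y' i
            · simp only [h', ne_eq, not_true_eq_false, decide_false, Bool.xor_false]
              split_ifs <;> simp [conj2_inv hb2, h']
            · simp only [ne_eq, h', not_false_eq_true, decide_true, Bool.xor_true]
              cases ε i.succ <;> simp [conj2_inv hb2, e]
      · rw [if_neg h0] at hbase
        refine ⟨a₀, ha₀.1, Fin.cases ?_ fun i => ?_⟩
        · simp only [Fin.cons_zero, h0]
          simpa using hfix
        · simp only [Fin.cons_succ]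
          rw [hpat i]
          simp [hbase]

end

end Cfsg.Agent.SEModule
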