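import Cfsg.Agent.Lib.SEModule.Rank
import Cfsg.Agent.Lib.SEModule.Arith
import Mathlib.GroupTheory.GroupAction.Quotient
import Mathlib.LinearAlgebra.Dimension.Constructions

/-!
# Dimensions from blocks permuted by a group of automorphisms
-/

set_option autoImplicit false
set_option linter.style.haveILetI false
set_option linter.unusedSectionVars false

namespace Cfsg.Agent.SEModule

open Module

variable {G : Type*} [Group G] [Finite G] {V : Type*} [AddCommGroup V] [Module (ZMod 2) V]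
  [Module.Finite (ZMod 2) V] (ρ : Representation (ZMod 2) G V)

theorem rep_mul_apply (g h : G) (v : V) : ρ (g * h) v = ρ g (ρ h v) := by
  rw [map_mul, Module.End.mul_apply]

/-- The vectors fixed by a set of elements. -/
def fixedBySet (X : Set G) : Submodule (ZMod 2) V := ⨅ g ∈ X, LinearMap.ker (ρ g - 1)

theorem mem_fixedBySet {X : Set G} {v : V} : v ∈ fixedBySet ρ X ↔ ∀ g ∈ X, ρ g v = v := by
  simp only [fixedBySet, Submodule.mem_iInf, LinearMap.mem_ker, LinearMap.sub_apply, Module.End.one_apply,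
    sub_eq_zero]

theorem fixed_pow {g : G} {v : V} (h : ρ g v = v) (i : ℕ) : ρ (g ^ i) v = v := by
  induction i with
  | zero => rw [pow_zero, map_one, Module.End.one_apply]
  | succ i ih => rw [pow_succ, rep_mul_apply, h, ih]

theorem fixed_inv {g : G} {v : V} (h : ρ g v = v) : ρ g⁻¹ v = v := by
  conv_lhs => rw [← h]
  rw [← rep_mul_apply, inv_mul_cancel, map_one, Module.End.one_apply]

/-- A set of elements acting freely by conjugation has order dividing the number of elements moved. -/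
theorem dvd_card_of_free {S : Subgroup G} {Y : Set G} (hY : ∀ s ∈ S, ∀ y ∈ Y, s * y * s⁻¹ ∈ Y)
    (hfree : ∀ s ∈ S, ∀ y ∈ Y, s * y * s⁻¹ = y → s = 1) : Nat.card S ∣ Nat.card Y := by
  classical
  letI : MulAction S Y :=
    { smul := fun s y => ⟨(s : G) * y * (s : G)⁻¹, hY s s.2 y y.2⟩
      one_smul := fun y => Subtype.ext (by show (1 : G) * y * (1 : G)⁻¹ = y; group)
      mul_smul := fun s s' y => Subtype.ext (by
        show ((s * s' : S) : G) * y * ((s * s' : S) : G)⁻¹ = s * (s' * y * (s' : G)⁻¹) * (s : G)⁻¹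
        push_cast; group) }
  haveI := Fintype.ofFinite Y
  haveI := Fintype.ofFinite S
  have hst : ∀ y : Y, MulAction.stabilizer S y = ⊥ := fun y =>
    (Subgroup.eq_bot_iff_forall _).2 fun s hs => Subtype.ext (hfree s s.2 y y.2 (congrArg Subtype.val hs))
  haveI := Fintype.ofFinite (Quotient (MulAction.orbitRel S Y))
  rw [Nat.card_congr (MulAction.selfEquivSigmaOrbitsQuotientStabilizer S Y), Nat.card_sigma]
  refine Finset.dvd_sum fun q _ => ?_
  rw [← Subgroup.index_eq_card, hst, Subgroup.index_bot]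

/-- Blocks separated by endomorphisms add up. -/
theorem mul_le_finrank_of_blocks {I : Type*} [Finite I] (L : I → Submodule (ZMod 2) V)
    (e : I → End (ZMod 2) V) (h1 : ∀ i, ∀ v ∈ L i, e i v = v) (h0 : ∀ i j, i ≠ j → ∀ v ∈ L j, e i v = 0)
    {o : ℕ} (ho : ∀ i, o ≤ finrank (ZMod 2) (L i)) : Nat.card I * o ≤ finrank (ZMod 2) V := by
  classical
  haveI := Fintype.ofFinite I
  let f : (∀ i, L i) →ₗ[ZMod 2] V := ∑ i, (L i).subtype ∘ₗ LinearMap.proj i
  have hf : Function.Injective f := by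
    rw [← LinearMap.ker_eq_bot, Submodule.eq_bot_iff]
    intro c hc
    funext i
    apply Subtype.ext
    have h := congrArg (e i) (LinearMap.mem_ker.1 hc)
    rw [map_zero, show f c = ∑ j, (c j : V) by simp [f, LinearMap.sum_apply], map_sum,
      Finset.sum_eq_single i (fun j _ hj => h0 i j hj.symm _ (c j).2) (fun h => absurd (Finset.mem_univ i) h),
      h1 i _ (c i).2] at h
    simpa using h
  refine le_trans ?_ (LinearMap.finrank_le_finrank_of_injective hf)
  rw [Module.finrank_pi_fintype, Nat.card_eq_fintype_card, ← Finset.card_univ, ← smul_eq_mul]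
  exact Finset.card_nsmul_le_sum _ _ _ fun i _ => ho i

variable {r : ℕ} [hr : Fact r.Prime] (hr2 : r ≠ 2)
include hr2

/-- A group of exponent `r` acting without fixed vectors is cyclic. -/
theorem mem_zpowers_of_fpf {A : Submodule (ZMod 2) V} {g h : G} (hgh : g * h = h * g) (hgr : g ^ r = 1)
    (hhr : h ^ r = 1) (hA : A ≠ ⊥) (hgA : A.map (ρ g) ≤ A) (hhA : A.map (ρ h) ≤ A)
    (hfpf : ∀ i j : ℕ, g ^ i * h ^ j ≠ 1 → ∀ w ∈ A, ρ (g ^ i * h ^ j) w = w → w = 0) (hg1 : g ≠ 1) :
    h ∈ Subgroup.zpowers g := by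
  by_contra hhg
  obtain ⟨v, hvA, hv0⟩ := (Submodule.ne_bot_iff A).1 hA
  have hpow : ∀ i, A.map (ρ (g ^ i)) ≤ A ∧ A.map (ρ (h ^ i)) ≤ A := by
    intro i
    induction i with
    | zero => constructor <;> (rintro _ ⟨w, hw, rfl⟩; rwa [pow_zero, map_one, Module.End.one_apply])
    | succ i ih =>
      constructor <;> rintro _ ⟨w, hw, rfl⟩ <;> rw [pow_succ', rep_mul_apply]
      · exact hgA ⟨_, ih.1 ⟨w, hw, rfl⟩, rfl⟩
      · exact hhA ⟨_, ih.2 ⟨w, hw, rfl⟩, rfl⟩
  have hsum : ∀ a b : ℕ, g ^ a * h ^ b ≠ 1 → (∑ j ∈ Finset.range r, ρ ((g ^ a * h ^ b) ^ j) v) = 0 := by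
    intro a b hab
    have hc : Commute g h := hgh
    have hxr : (g ^ a * h ^ b) ^ r = 1 := by
      rw [(hc.pow_pow a b).mul_pow, pow_right_comm, hgr, one_pow, pow_right_comm, hhr, one_pow, one_mul]
    refine hfpf a b hab _ (Submodule.sum_mem _ fun j _ => ?_) ?_
    · rw [(hc.pow_pow a b).mul_pow, rep_mul_apply, ← pow_mul, ← pow_mul]
      exact (hpow _).1 ⟨_, (hpow _).2 ⟨v, hvA, rfl⟩, rfl⟩
    · rw [map_sum]
      have e : ∀ j, ρ (g ^ a * h ^ b) (ρ ((g ^ a * h ^ b) ^ j) v) = ρ ((g ^ a * h ^ b) ^ (j + 1)) v := fun j => by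
        rw [← rep_mul_apply, ← pow_succ']
      rw [Finset.sum_congr rfl fun j _ => e j]
      have h1 := Finset.sum_range_succ' (fun j => ρ ((g ^ a * h ^ b) ^ j) v) r
      rw [Finset.sum_range_succ, hxr, pow_zero] at h1
      exact add_right_cancel h1.symm
  have h1 : (∑ i ∈ Finset.range r, ∑ j ∈ Finset.range r, ρ ((g ^ 1 * h ^ i) ^ j) v) = 0 := by
    refine Finset.sum_eq_zero fun i hi => hsum 1 i fun e => hhg ?_
    rw [pow_one] at e
    rcases Nat.eq_zero_or_pos i with rfl | hipos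
    · rw [pow_zero, mul_one] at e; exact absurd e hg1
    have hh1 : h ≠ 1 := fun e' => hhg (by rw [e']; exact one_mem _)
    have hcop : (orderOf h).Coprime i := by
      rw [orderOf_eq_prime hhr hh1, hr.out.coprime_iff_not_dvd]
      exact fun hd => absurd (Nat.le_of_dvd hipos hd) (not_le.2 (Finset.mem_range.1 hi))
    obtain ⟨m, hm⟩ := exists_pow_eq_self_of_coprime hcop.symm
    rw [← hm, eq_inv_of_mul_eq_one_right e]
    exact pow_mem (inv_mem (Subgroup.mem_zpowers g)) m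
  rw [Finset.sum_comm, Finset.sum_eq_single_of_mem 0 (Finset.mem_range.2 hr.out.pos)] at h1
  · exact hv0 (by simpa [odd_nsmul (hr.out.odd_of_ne_two hr2)] using h1)
  · intro j hj hj0
    have hc : Commute g h := hgh
    have e : ∀ i, ρ ((g ^ 1 * h ^ i) ^ j) v = ρ (g ^ j) (ρ ((h ^ j) ^ i) v) := fun i => by
      rw [← rep_mul_apply, (hc.pow_pow 1 i).mul_pow, pow_one, pow_right_comm]
    rw [Finset.sum_congr rfl fun i _ => e i, ← map_sum]
    have h2 := hsum 0 j (by
      rw [pow_zero, one_mul]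
      intro e'
      have hh1 : h ≠ 1 := fun e'' => hhg (by rw [e'']; exact one_mem _)
      have hd := orderOf_dvd_of_pow_eq_one e'
      rw [orderOf_eq_prime hhr hh1] at hd
      exact hj0 (Nat.eq_zero_of_dvd_of_lt hd (Finset.mem_range.1 hj)))
    simp only [pow_zero, one_mul] at h2
    rw [h2, map_zero]

/-- The lower bound for the order of two modulo `r` gives a lower bound for a space moved freely. -/
theorem order_le_finrank {o : ℕ} (ho : ∀ j, 0 < j → j < o → ¬ r ∣ 2 ^ j - 1) {g : G} (hgr : g ^ r = 1)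
    {A : Submodule (ZMod 2) V} (hA : A ≠ ⊥) (hgA : A.map (ρ g) ≤ A)
    (hfpf : ∀ w ∈ A, ρ g w = w → w = 0) : o ≤ finrank (ZMod 2) A := by
  refine le_finrank_of_fpf (g := ρ g) (N := r) (M := 1) hr.out.pos (by rw [← map_pow, hgr, map_one])
    (fun d hd hd' => ?_) hA hgA fun w hw h => hfpf w hw (by rwa [pow_one] at h)
  rcases hr.out.eq_one_or_self_of_dvd _ (Nat.gcd_dvd_left r (2 ^ d - 1)) with e | e
  · rw [e]
  · exact absurd (e ▸ Nat.gcd_dvd_right r (2 ^ d - 1)) (ho d hd hd')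

/-- An abelian group of exponent `r` with a 2-group of automorphisms fixing none of its elements but one. -/
theorem orbit_bound {U S : Subgroup G} (hS : IsPGroup 2 S) (hUc : ∀ u ∈ U, ∀ v ∈ U, u * v = v * u)
    (hUr : ∀ u ∈ U, u ^ r = 1) (hSU : ∀ s ∈ S, ∀ u ∈ U, s * u * s⁻¹ ∈ U)
    (hfree : ∀ s ∈ S, ∀ u ∈ U, u ≠ 1 → s * u * s⁻¹ = u → s = 1)
    (hne : ∃ u ∈ U, ρ u ≠ 1) :
    ∃ e, e ∣ r - 1 ∧ e ∣ Nat.card S ∧
      ∀ o, (∀ j, 0 < j → j < o → ¬ r ∣ 2 ^ j - 1) → Nat.card S / e * o ≤ finrank (ZMod 2) V := by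
  classical
  haveI : Fintype G := Fintype.ofFinite G
  haveI : Fact (Nat.Prime 2) := ⟨Nat.prime_two⟩
  have hrodd : Odd r := hr.out.odd_of_ne_two hr2
  -- the sum over a subgroup
  let σ : Subgroup G → End (ZMod 2) V := fun X => ∑ u ∈ Finset.univ.filter (· ∈ X), ρ u
  have hcard : ∀ X : Subgroup G, X ≤ U → Odd (Finset.univ.filter (· ∈ X)).card := by
    intro X hX
    have hp : IsPGroup r X := fun x => ⟨1, Subtype.ext (by simpa using hUr x (hX x.2))⟩
    obtain ⟨j, hj⟩ := IsPGroup.iff_card.1 hp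
    rw [← Fintype.card_subtype, ← Nat.card_eq_fintype_card]
    exact hj ▸ hrodd.pow
  have hσfix : ∀ X : Subgroup G, X ≤ U → ∀ v, (∀ u ∈ X, ρ u v = v) → σ X v = v := by
    intro X hX v hv
    rw [LinearMap.sum_apply, Finset.sum_congr rfl (fun u hu => hv u (Finset.mem_filter.1 hu).2),
      Finset.sum_const, odd_nsmul (hcard X hX)]
  have hσinv : ∀ X : Subgroup G, ∀ u ∈ X, ∀ v, ρ u (σ X v) = σ X v := by
    intro X u hu v
    rw [LinearMap.sum_apply, map_sum]
    refine Finset.sum_bij' (fun w _ => u * w) (fun w _ => u⁻¹ * w) ?_ ?_ ?_ ?_ ?_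
    · intro w hw; exact Finset.mem_filter.2 ⟨Finset.mem_univ _, mul_mem hu (Finset.mem_filter.1 hw).2⟩
    · intro w hw
      exact Finset.mem_filter.2 ⟨Finset.mem_univ _, mul_mem (inv_mem hu) (Finset.mem_filter.1 hw).2⟩
    · intro w _; group
    · intro w _; group
    · intro w _; rw [← rep_mul_apply]
  have hσcomm : ∀ X : Subgroup G, X ≤ U → ∀ u ∈ U, ∀ v, ρ u (σ X v) = σ X (ρ u v) := by
    intro X hX u hu v
    rw [LinearMap.sum_apply, map_sum, LinearMap.sum_apply]
    refine Finset.sum_congr rfl fun w hw => ?_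
    rw [← rep_mul_apply, ← rep_mul_apply, hUc u hu w (hX (Finset.mem_filter.1 hw).2)]
  let L : Subgroup G → Submodule (ZMod 2) V := fun X => fixedBySet ρ X ⊓ LinearMap.ker (σ U)
  have hmemL : ∀ {X : Subgroup G} {v}, v ∈ L X ↔ (∀ u ∈ X, ρ u v = v) ∧ σ U v = 0 := fun {X v} => by
    rw [Submodule.mem_inf, mem_fixedBySet, LinearMap.mem_ker]; rfl
  have hLU : L U = ⊥ := (Submodule.eq_bot_iff _).2 fun v hv => by
    rw [← hσfix U le_rfl v (hmemL.1 hv).1, (hmemL.1 hv).2]
  have hL0 : L ⊥ ≠ ⊥ := by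
    intro h
    obtain ⟨u, hu, hu1⟩ := hne
    refine hu1 (LinearMap.ext fun v => ?_)
    have hinj : Function.Injective (σ U) := by
      rw [← LinearMap.ker_eq_bot, Submodule.eq_bot_iff]
      intro w hw
      have hw' : w ∈ L ⊥ := hmemL.2 ⟨fun z hz => by
        rw [Subgroup.mem_bot.1 hz, map_one, Module.End.one_apply], hw⟩
      rwa [h, Submodule.mem_bot] at hw'
    obtain ⟨w, rfl⟩ := LinearMap.injective_iff_surjective.1 hinj v
    rw [Module.End.one_apply, hσinv U u hu]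
  haveI : Finite (Subgroup G) := Finite.of_injective ((↑) : Subgroup G → Set G) SetLike.coe_injective
  obtain ⟨U₀, ⟨hU₀, hL₀⟩, hmax⟩ :=
    (Set.toFinite ({X : Subgroup G | X ≤ U ∧ L X ≠ ⊥})).exists_maximal ⟨⊥, bot_le, hL0⟩
  have hup : ∀ X : Subgroup G, X ≤ U → U₀ ≤ X → X ≠ U₀ → L X = ⊥ := fun X hX h hne' => by
    by_contra hb
    exact hne' (le_antisymm (hmax ⟨hX, hb⟩ h) h)
  have hLinv : ∀ X : Subgroup G, X ≤ U → ∀ u ∈ U, (L X).map (ρ u) ≤ L X := by
    rintro X hX u hu _ ⟨v, hv, rfl⟩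
    obtain ⟨h1, h2⟩ := hmemL.1 hv
    refine hmemL.2 ⟨fun z hz => ?_, by rw [← hσcomm U le_rfl u hu, h2, map_zero]⟩
    rw [← rep_mul_apply, hUc z (hX hz) u hu, rep_mul_apply, h1 z hz]
  obtain ⟨g, hgU, hg₀⟩ : ∃ g ∈ U, g ∉ U₀ := by
    by_contra h
    push Not at h
    exact hL₀ (le_antisymm hU₀ h ▸ hLU)
  have hfpf₀ : ∀ u ∈ U, u ∉ U₀ → ∀ w ∈ L U₀, ρ u w = w → w = 0 := by
    intro u hu hu0 w hw h
    obtain ⟨h1, h2⟩ := hmemL.1 hw
    have hX := hup (U₀ ⊔ Subgroup.zpowers u) (sup_le hU₀ (Subgroup.zpowers_le.2 hu)) le_sup_left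
      fun e => hu0 (e ▸ Subgroup.mem_sup_right (Subgroup.mem_zpowers u))
    have hw' : w ∈ L (U₀ ⊔ Subgroup.zpowers u) := hmemL.2 ⟨fun z hz => by
      rw [Subgroup.sup_eq_closure] at hz
      induction hz using Subgroup.closure_induction with
      | mem z hz =>
        rcases hz with hz | hz
        · exact h1 z hz
        · obtain ⟨j, rfl⟩ := Subgroup.mem_zpowers_iff.1 hz
          obtain ⟨i, rfl | rfl⟩ := Int.eq_nat_or_neg j
          · rw [zpow_natCast]; exact fixed_pow ρ h i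
          · rw [zpow_neg, zpow_natCast]; exact fixed_inv ρ (fixed_pow ρ h i)
      | one => rw [map_one, Module.End.one_apply]
      | mul z z' _ _ e1 e2 => rw [rep_mul_apply, e2, e1]
      | inv z _ e1 => exact fixed_inv ρ e1, h2⟩
    rwa [hX, Submodule.mem_bot] at hw'
  -- the index of `U₀` is `r`
  have hrep : ∀ u ∈ U, ∃ i < r, g⁻¹ ^ i * u ∈ U₀ := by
    intro u hu
    by_contra hno
    push Not at hno
    have hu0 : u ∉ U₀ := fun h => hno 0 hr.out.pos (by rwa [pow_zero, one_mul])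
    obtain ⟨v, hvL, hv0⟩ := (Submodule.ne_bot_iff _).1 hL₀
    -- otherwise `g` and `u` generate a group without fixed vectors on the block
    have hg1 : g ≠ 1 := fun e => hg₀ (e ▸ one_mem _)
    have hmem : u ∈ Subgroup.zpowers g := by
      refine mem_zpowers_of_fpf ρ hr2 (A := L U₀) (hUc g hgU u hu) (hUr g hgU) (hUr u hu) hL₀
        (hLinv U₀ hU₀ g hgU) (hLinv U₀ hU₀ u hu) (fun i j hij w hw h => ?_) hg1
      refine hfpf₀ _ (mul_mem (pow_mem hgU i) (pow_mem hu j)) (fun hin => ?_) w hw h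
      by_cases hj : r ∣ j
      · obtain ⟨q, rfl⟩ := hj
        rw [pow_mul, hUr u hu, one_pow, mul_one] at hij hin
        have hi : ¬ r ∣ i := fun ⟨q, hq⟩ => hij (by rw [hq, pow_mul, hUr g hgU, one_pow])
        obtain ⟨m, hm⟩ := exists_pow_eq_self_of_coprime (n := i) (x := g) (by
          rw [orderOf_eq_prime (hUr g hgU) hg1]; exact (hr.out.coprime_iff_not_dvd.2 hi).symm)
        exact hg₀ (hm ▸ pow_mem hin m)
      · have hu1 : u ≠ 1 := fun e => hu0 (e ▸ one_mem _)
        obtain ⟨m, hm⟩ := exists_pow_eq_self_of_coprime (n := j) (x := u) (by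
          rw [orderOf_eq_prime (hUr u hu) hu1]; exact (hr.out.coprime_iff_not_dvd.2 hj).symm)
        have h2 := pow_mem hin m
        rw [(show Commute (g ^ i) (u ^ j) from (show Commute g u from hUc g hgU u hu).pow_pow i j).mul_pow,
          hm, ← pow_mul] at h2
        set t := i * m with ht
        refine hno ((r - t % r) % r) (Nat.mod_lt _ hr.out.pos) ?_
        have hgord : orderOf g = r := orderOf_eq_prime (hUr g hgU) hg1
        have e : g⁻¹ ^ ((r - t % r) % r) = g ^ t := by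
          rw [inv_pow, inv_eq_iff_mul_eq_one, ← pow_add, ← orderOf_dvd_iff_pow_eq_one, hgord,
            Nat.dvd_iff_mod_eq_zero, Nat.add_mod, Nat.mod_mod, ← Nat.add_mod,
            ← Nat.dvd_iff_mod_eq_zero]
          have hlt := Nat.mod_lt t hr.out.pos
          have : r - t % r + t = r + r * (t / r) := by
            have := Nat.mod_add_div t r
            omega
          rw [this]
          exact ⟨1 + t / r, by ring⟩
        rw [e]
        exact h2
    obtain ⟨m, rfl⟩ := mem_powers_iff_mem_zpowers.2 hmem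
    refine hno (m % r) (Nat.mod_lt _ hr.out.pos) ?_
    have e : g⁻¹ ^ (m % r) * g ^ m = 1 := by
      rw [inv_pow, inv_mul_eq_one]
      exact (pow_eq_pow_mod m (hUr g hgU)).symm
    exact e ▸ one_mem U₀
  -- the stabiliser
  let T : Subgroup G :=
    { carrier := {s | s ∈ S ∧ ∀ u, u ∈ U₀ ↔ s * u * s⁻¹ ∈ U₀}
      one_mem' := ⟨one_mem S, fun u => by simp⟩
      mul_mem' := fun {s s'} hs hs' => ⟨mul_mem hs.1 hs'.1, fun u => by
        rw [hs'.2, hs.2, show s * (s' * u * s'⁻¹) * s⁻¹ = s * s' * u * (s * s')⁻¹ by group]⟩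
      inv_mem' := fun {s} hs => ⟨inv_mem hs.1, fun u => by
        rw [hs.2 (s⁻¹ * u * s⁻¹⁻¹), show s * (s⁻¹ * u * s⁻¹⁻¹) * s⁻¹ = u by group]⟩ }
  have hTS : T ≤ S := fun s hs => hs.1
  have hcardU : Nat.card U = r * Nat.card U₀ := by
    rw [← Nat.card_fin r, ← Nat.card_prod]
    symm
    refine Nat.card_eq_of_bijective
      (fun p : Fin r × U₀ => (⟨g ^ (p.1 : ℕ) * p.2, mul_mem (pow_mem hgU _) (hU₀ p.2.2)⟩ : U))
      ⟨fun p q h => ?_, fun u => ?_⟩
    · have h' : g ^ (p.1 : ℕ) * (p.2 : G) = g ^ (q.1 : ℕ) * q.2 := congrArg Subtype.val h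
      have hp : p.1 = q.1 := by
        by_contra hne'
        have hg1 : g ≠ 1 := fun e => hg₀ (e ▸ one_mem _)
        have hgord : orderOf g = r := orderOf_eq_prime (hUr g hgU) hg1
        have key : ∀ {a b : Fin r} {x y : U₀}, a < b → g ^ (a : ℕ) * (x : G) ≠ g ^ (b : ℕ) * y := by
          intro a b x y hlt he
          have hd : g ^ ((b : ℕ) - a) ∈ U₀ := by
            have : g ^ ((b : ℕ) - a) = (x : G) * (y : G)⁻¹ := by
              rw [show (b : ℕ) = a + ((b : ℕ) - a) by omega, pow_add, mul_assoc] at he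
              rw [eq_mul_inv_iff_mul_eq]
              exact (mul_left_cancel he).symm
            rw [this]; exact mul_mem x.2 (inv_mem y.2)
          obtain ⟨m, hm⟩ := exists_pow_eq_self_of_coprime (n := (b : ℕ) - a) (x := g) (by
            rw [hgord]
            exact (hr.out.coprime_iff_not_dvd.2 fun hd' => by
              have := Nat.le_of_dvd (by omega) hd'
              omega).symm)
          exact hg₀ (hm ▸ pow_mem hd m)
        rcases lt_or_gt_of_ne hne' with hlt | hlt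
        · exact key hlt h'
        · exact key hlt h'.symm
      rw [hp] at h'
      exact Prod.ext hp (Subtype.ext (mul_left_cancel h'))
    · obtain ⟨i, hi, hiu⟩ := hrep u u.2
      exact ⟨(⟨i, hi⟩, ⟨_, hiu⟩), Subtype.ext (by simp [inv_pow])⟩
  have hT1 : Nat.card T ∣ r - 1 := by
    have hd := dvd_card_of_free (S := T) (Y := {u | u ∈ U ∧ u ∉ U₀})
      (fun s hs u hu => ⟨hSU s hs.1 u hu.1, fun h => hu.2 ((hs.2 u).2 h)⟩)
      (fun s hs u hu h => hfree s hs.1 u hu.1 (fun e => hu.2 (e ▸ one_mem _)) h)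
    have hY : Nat.card {u // u ∈ U ∧ u ∉ U₀} = (r - 1) * Nat.card U₀ := by
      rw [Nat.sub_mul, one_mul, ← hcardU, Nat.card_eq_fintype_card, Nat.card_eq_fintype_card,
        Nat.card_eq_fintype_card, Fintype.card_subtype, Fintype.card_subtype, Fintype.card_subtype,
        ← Finset.card_sdiff_of_subset (fun u hu => by
          simp only [Finset.mem_filter, Finset.mem_univ, true_and] at hu ⊢
          exact hU₀ hu)]
      congr 1
      ext u
      simp
    have hd' : Nat.card T ∣ (r - 1) * Nat.card U₀ := hY ▸ hd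
    refine Nat.Coprime.dvd_of_dvd_mul_right ?_ hd'
    obtain ⟨a, ha⟩ := IsPGroup.iff_card.1 (hS.to_le hTS)
    have hp : IsPGroup r U₀ := fun x => ⟨1, Subtype.ext (by simpa using hUr x (hU₀ x.2))⟩
    obtain ⟨b, hb⟩ := IsPGroup.iff_card.1 hp
    rw [ha, hb]
    exact Nat.Coprime.pow _ _ (Nat.coprime_two_left.2 hrodd)
  refine ⟨Nat.card T, hT1, Subgroup.card_dvd_of_le hTS, fun o ho => ?_⟩
  have hidx : Nat.card S / Nat.card T = (T.subgroupOf S).index := by
    rw [← Nat.card_congr (Subgroup.subgroupOfEquivOfLe hTS).toEquiv, ← (T.subgroupOf S).card_mul_index,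
      Nat.mul_div_cancel_left _ Nat.card_pos]
  rw [hidx, Subgroup.index_eq_card]
  -- the blocks
  let c : S ⧸ T.subgroupOf S → Subgroup G := fun q => U₀.map (MulAut.conj ((q.out : S) : G)).toMonoidHom
  have hmemc : ∀ q u, u ∈ c q ↔ ((q.out : S) : G)⁻¹ * u * ((q.out : S) : G) ∈ U₀ := by
    intro q u
    constructor
    · rintro ⟨v, hv, rfl⟩
      simpa [mul_assoc] using hv
    · intro h
      exact ⟨_, h, by simp [mul_assoc]⟩
  have hcU : ∀ q, c q ≤ U := by
    rintro q _ ⟨v, hv, rfl⟩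
    exact hSU _ (q.out : S).2 v (hU₀ hv)
  have hσS : ∀ s ∈ S, ∀ v, σ U (ρ s v) = ρ s (σ U v) := by
    intro s hs v
    rw [LinearMap.sum_apply, LinearMap.sum_apply, map_sum]
    refine Finset.sum_bij' (fun w _ => s⁻¹ * w * s⁻¹⁻¹) (fun w _ => s * w * s⁻¹) ?_ ?_ ?_ ?_ ?_
    · intro w hw
      exact Finset.mem_filter.2 ⟨Finset.mem_univ _, hSU _ (inv_mem hs) w (Finset.mem_filter.1 hw).2⟩
    · intro w hw
      exact Finset.mem_filter.2 ⟨Finset.mem_univ _, hSU _ hs w (Finset.mem_filter.1 hw).2⟩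
    · intro w _; group
    · intro w _; group
    · intro w _
      rw [← rep_mul_apply, ← rep_mul_apply]
      congr 2
      group
  have hne : ∀ q, L (c q) ≠ ⊥ := by
    intro q
    obtain ⟨v, hv, hv0⟩ := (Submodule.ne_bot_iff _).1 hL₀
    obtain ⟨h1, h2⟩ := hmemL.1 hv
    refine (Submodule.ne_bot_iff _).2 ⟨ρ (q.out : S) v, hmemL.2 ⟨fun u hu => ?_, ?_⟩, fun h => hv0 ?_⟩
    · rw [← rep_mul_apply, show u * ((q.out : S) : G) = (q.out : S) * (((q.out : S) : G)⁻¹ * u * (q.out : S)) by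
        group, rep_mul_apply, h1 _ ((hmemc q u).1 hu)]
    · rw [hσS _ (q.out : S).2, h2, map_zero]
    · have h' := congrArg (ρ ((q.out : S) : G)⁻¹) h
      rwa [← rep_mul_apply, inv_mul_cancel, map_one, Module.End.one_apply, map_zero] at h'
  have hmaxc : ∀ q, ∀ X : Subgroup G, X ≤ U → c q ≤ X → L X ≠ ⊥ → X = c q := by
    intro q X hX hle hLX
    set s : G := ((q.out : S) : G) with hs
    have hsS : s ∈ S := (q.out : S).2
    let X' : Subgroup G := X.comap (MulAut.conj s).toMonoidHom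
    have hX' : X' ≤ U := fun u hu => by
      have h := hSU s⁻¹ (inv_mem hsS) _ (hX (show s * u * s⁻¹ ∈ X from hu))
      rwa [show s⁻¹ * (s * u * s⁻¹) * s⁻¹⁻¹ = u by group] at h
    have h0 : U₀ ≤ X' := fun u hu => hle ⟨u, hu, rfl⟩
    have hLX' : L X' ≠ ⊥ := by
      obtain ⟨v, hv, hv0⟩ := (Submodule.ne_bot_iff _).1 hLX
      obtain ⟨h1, h2⟩ := hmemL.1 hv
      refine (Submodule.ne_bot_iff _).2 ⟨ρ s⁻¹ v, hmemL.2 ⟨fun u hu => ?_, ?_⟩, fun h => hv0 ?_⟩
      · rw [← rep_mul_apply, show u * s⁻¹ = s⁻¹ * (s * u * s⁻¹) by group, rep_mul_apply,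
          show ρ (s * u * s⁻¹) v = v from h1 _ hu]
      · rw [hσS _ (inv_mem hsS), h2, map_zero]
      · have h' := congrArg (ρ s) h
        rwa [← rep_mul_apply, mul_inv_cancel, map_one, Module.End.one_apply, map_zero] at h'
    have h' : X' = U₀ := by
      by_contra hne'
      exact hLX' (hup X' hX' h0 hne')
    refine le_antisymm (fun u hu => (hmemc q u).2 ?_) hle
    rw [← h']
    show s * (s⁻¹ * u * s) * s⁻¹ ∈ X
    rwa [show s * (s⁻¹ * u * s) * s⁻¹ = u by group]
  have hcinj : Function.Injective c := by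
    intro q q' h
    rw [← Quotient.out_eq q, ← Quotient.out_eq q']
    refine QuotientGroup.eq.2 (Subgroup.mem_subgroupOf.2 ⟨mul_mem (inv_mem (q.out : S).2) (q'.out : S).2, fun u => ?_⟩)
    push_cast
    have h1 := hmemc q (((q'.out : S) : G) * u * ((q'.out : S) : G)⁻¹)
    rw [h, hmemc q', show ((q'.out : S) : G)⁻¹ * (((q'.out : S) : G) * u * ((q'.out : S) : G)⁻¹) *
      ((q'.out : S) : G) = u by group] at h1
    rw [h1, show ((q.out : S) : G)⁻¹ * (((q'.out : S) : G) * u * ((q'.out : S) : G)⁻¹) * ((q.out : S) : G) =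
      ((q.out : S) : G)⁻¹ * (q'.out : S) * u * (((q.out : S) : G)⁻¹ * (q'.out : S))⁻¹ by group]
  refine mul_le_finrank_of_blocks (fun q => L (c q)) (fun q => σ (c q))
    (fun q v hv => hσfix _ (hcU q) v (hmemL.1 hv).1) (fun q q' hqq v hv => ?_) fun q => ?_
  · obtain ⟨h1, h2⟩ := hmemL.1 hv
    have hmem : σ (c q) v ∈ L (c q ⊔ c q') := by
      refine hmemL.2 ⟨fun z hz => ?_, ?_⟩
      · rw [Subgroup.sup_eq_closure] at hz
        induction hz using Subgroup.closure_induction with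
        | mem z hz =>
          rcases hz with hz | hz
          · exact hσinv _ z hz v
          · rw [hσcomm _ (hcU q) z (hcU q' hz), h1 z hz]
        | one => rw [map_one, Module.End.one_apply]
        | mul z z' _ _ e1 e2 => rw [rep_mul_apply, e2, e1]
        | inv z _ e1 => exact fixed_inv ρ e1
      · have : σ (c q) (σ U v) = σ U (σ (c q) v) := by
          show σ (c q) ((∑ u ∈ Finset.univ.filter (· ∈ U), ρ u) v) = (∑ u ∈ Finset.univ.filter (· ∈ U), ρ u) _
          rw [LinearMap.sum_apply (b := σ (c q) v), LinearMap.sum_apply (b := v), map_sum]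
          exact Finset.sum_congr rfl fun u hu => (hσcomm _ (hcU q) u (Finset.mem_filter.1 hu).2 v).symm
        rw [← this, h2, map_zero]
    by_contra hz
    have hne' : L (c q ⊔ c q') ≠ ⊥ := (Submodule.ne_bot_iff _).2 ⟨_, hmem, hz⟩
    have e1 := hmaxc q _ (sup_le (hcU q) (hcU q')) le_sup_left hne'
    have e2 := hmaxc q' _ (sup_le (hcU q) (hcU q')) le_sup_right hne'
    exact hqq (hcinj (e1.symm.trans e2))
  · set s : G := ((q.out : S) : G) with hs
    have hsS : s ∈ S := (q.out : S).2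
    have hgs : s * g * s⁻¹ ∈ U := hSU s hsS g hgU
    refine order_le_finrank ρ hr2 ho (hUr _ hgs) (hne q) (hLinv _ (hcU q) _ hgs) fun w hw h => ?_
    by_contra hw0
    obtain ⟨h1, h2⟩ := hmemL.1 hw
    have hwL : ρ s⁻¹ w ∈ L U₀ := hmemL.2 ⟨fun u hu => by
      rw [← rep_mul_apply, show u * s⁻¹ = s⁻¹ * (s * u * s⁻¹) by group, rep_mul_apply,
        show ρ (s * u * s⁻¹) w = w from h1 _ ⟨u, hu, rfl⟩],
      by rw [hσS _ (inv_mem hsS), h2, map_zero]⟩
    have hgw : ρ g (ρ s⁻¹ w) = ρ s⁻¹ w := by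
      rw [← rep_mul_apply, show g * s⁻¹ = s⁻¹ * (s * g * s⁻¹) by group, rep_mul_apply, h]
    have h' := congrArg (ρ s) (hfpf₀ g hgU hg₀ _ hwL hgw)
    rw [← rep_mul_apply, mul_inv_cancel, map_one, Module.End.one_apply, map_zero] at h'
    exact hw0 h'

/-- A non-abelian group of order `r ^ 3` acting with the centre moving something. -/
theorem heis_bound {y y' c : G} (hyc : y * c = c * y) (hy'c : y' * c = c * y')
    (hconj : y' * y * y'⁻¹ = y * c) (hy : y ^ r = 1) (hc : c ^ r = 1) (hc1 : ρ c ≠ 1)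
    {o : ℕ} (ho : ∀ j, 0 < j → j < o → ¬ r ∣ 2 ^ j - 1) :
    r * o ≤ finrank (ZMod 2) V := by
  classical
  have hrodd : Odd r := hr.out.odd_of_ne_two hr2
  have hcne : c ≠ 1 := fun h => hc1 (by rw [h, map_one])
  set W := LinearMap.range (ρ c - 1) with hW
  have hCW := isCompl_of_odd (g := ρ c) hrodd (by rw [← map_pow, hc, map_one])
  have hfpf : ∀ w ∈ W, ρ c w = w → w = 0 := fun w hw h => by
    have h' : w ∈ LinearMap.ker (ρ c - 1) ⊓ W := ⟨LinearMap.mem_ker.2 (by simp [h]), hw⟩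
    rwa [disjoint_iff.1 hCW.disjoint, Submodule.mem_bot] at h'
  have hWinv : ∀ g : G, g * c = c * g → W.map (ρ g) ≤ W := by
    rintro g hg _ ⟨_, ⟨v, rfl⟩, rfl⟩
    refine ⟨ρ g v, ?_⟩
    simp only [LinearMap.sub_apply, Module.End.one_apply, map_sub]
    rw [← rep_mul_apply, ← rep_mul_apply, hg]
  have hW0 : W ≠ ⊥ := fun h => hc1 (sub_eq_zero.1 (LinearMap.range_eq_bot.1 h))
  have hy1 : y ≠ 1 := fun h => hcne (by rw [h, mul_one, mul_inv_cancel, one_mul] at hconj; exact hconj.symm)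
  have hcc : Commute y c := hyc
  -- some `y * c ^ j` fixes a non-zero vector of `W`
  obtain ⟨j₀, w₀, hw₀, hw₀0, hfix₀⟩ : ∃ j : ℕ, ∃ w ∈ W, w ≠ 0 ∧ ρ (y * c ^ j) w = w := by
    by_contra hno
    push Not at hno
    have hnc : y ∉ Subgroup.zpowers c := fun h => by
      obtain ⟨j, rfl⟩ := mem_powers_iff_mem_zpowers.2 h
      rw [((show Commute y' c from hy'c).pow_right j).eq, mul_inv_cancel_right] at hconj
      exact hcne (mul_left_cancel (a := c ^ j) (by rw [mul_one]; exact hconj.symm))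
    refine hnc (mem_zpowers_of_fpf ρ hr2 hyc.symm hc hy hW0 (hWinv c rfl) (hWinv y hyc) (fun i j hij w hw h => ?_) hcne)
    by_contra hw0
    by_cases hj : r ∣ j
    · obtain ⟨q, rfl⟩ := hj
      rw [pow_mul, hy, one_pow, mul_one] at hij h
      have hi : ¬ r ∣ i := fun ⟨q, hq⟩ => hij (by rw [hq, pow_mul, hc, one_pow])
      obtain ⟨m, hm⟩ := exists_pow_eq_self_of_coprime (n := i) (x := c) (by
        rw [orderOf_eq_prime hc hcne]; exact (hr.out.coprime_iff_not_dvd.2 hi).symm)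
      exact hw0 (hfpf w hw (hm ▸ fixed_pow ρ h m))
    · obtain ⟨m, hm⟩ := exists_pow_eq_self_of_coprime (n := j) (x := y) (by
        rw [orderOf_eq_prime hy hy1]; exact (hr.out.coprime_iff_not_dvd.2 hj).symm)
      have h2 := fixed_pow ρ h m
      rw [((hcc.symm.pow_pow i j)).mul_pow, hm, ← pow_mul, ← (hcc.pow_right (i * m)).eq] at h2
      exact hno (i * m) w hw hw0 h2
  -- so every one does
  let L : Fin r → Submodule (ZMod 2) V := fun j => W ⊓ LinearMap.ker (ρ (y * c ^ (j : ℕ)) - 1)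
  have hmemL : ∀ {j : Fin r} {w}, w ∈ L j ↔ w ∈ W ∧ ρ (y * c ^ (j : ℕ)) w = w := fun {j w} => by
    show w ∈ W ⊓ _ ↔ _
    rw [Submodule.mem_inf, LinearMap.mem_ker, LinearMap.sub_apply, Module.End.one_apply, sub_eq_zero]
  have hall : ∀ i : ℕ, ∃ w ∈ W, w ≠ 0 ∧ ρ (y * c ^ (j₀ + i)) w = w := by
    intro i
    induction i with
    | zero => exact ⟨w₀, hw₀, hw₀0, hfix₀⟩
    | succ i ih =>
      obtain ⟨w, hw, hw0, h⟩ := ih
      refine ⟨ρ y' w, hWinv y' hy'c ⟨w, hw, rfl⟩, fun e => hw0 ?_, ?_⟩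
      · have e' := congrArg (ρ y'⁻¹) e
        rwa [← rep_mul_apply, inv_mul_cancel, map_one, Module.End.one_apply, map_zero] at e'
      · have e : y * c ^ (j₀ + (i + 1)) * y' = y' * (y * c ^ (j₀ + i)) := by
          have h1 : y' * y = y * c * y' := by rw [← hconj, inv_mul_cancel_right]
          rw [← mul_assoc y', h1, show y * c * y' * c ^ (j₀ + i) = y * c * (y' * c ^ (j₀ + i)) by group,
            ((show Commute y' c from hy'c).pow_right (j₀ + i)).eq,
            show j₀ + (i + 1) = 1 + (j₀ + i) by ring, pow_add, pow_one]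
          group
        rw [← rep_mul_apply, e, rep_mul_apply, h]
  have hne : ∀ j : Fin r, L j ≠ ⊥ := by
    intro j
    obtain ⟨w, hw, hw0, h⟩ := hall ((j : ℕ) + (r * (j₀ + 1) - j₀))
    refine (Submodule.ne_bot_iff _).2 ⟨w, hmemL.2 ⟨hw, ?_⟩, hw0⟩
    have hle : j₀ ≤ r * (j₀ + 1) := (Nat.le_succ j₀).trans (Nat.le_mul_of_pos_left _ hr.out.pos)
    rw [show j₀ + ((j : ℕ) + (r * (j₀ + 1) - j₀)) = (j : ℕ) + r * (j₀ + 1) by omega, pow_add, pow_mul,
      hc, one_pow, mul_one] at h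
    exact h
  have hcomm : ∀ i j : ℕ, Commute (y * c ^ i) (y * c ^ j) := fun i j =>
    ((Commute.refl y).mul_right (hcc.pow_right j)).mul_left
      (((hcc.pow_right i).symm).mul_right (Commute.pow_pow_self c i j))
  have hpr : ∀ i : ℕ, (y * c ^ i) ^ r = 1 := fun i => by
    rw [(hcc.pow_right i).mul_pow, hy, one_mul, pow_right_comm, hc, one_pow]
  have hWy : ∀ i : ℕ, (y * c ^ i) * c = c * (y * c ^ i) := fun i =>
    (hcc.mul_left ((Commute.refl c).pow_left i)).eq
  let e : Fin r → End (ZMod 2) V := fun j => ∑ l ∈ Finset.range r, ρ ((y * c ^ (j : ℕ)) ^ l)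
  have h := mul_le_finrank_of_blocks L e (fun j w hw => by
      rw [LinearMap.sum_apply, Finset.sum_congr rfl (fun l _ => fixed_pow ρ (hmemL.1 hw).2 l), Finset.sum_const,
        Finset.card_range, odd_nsmul hrodd]) (fun j i hji w hw => by
      obtain ⟨hwW, hwi⟩ := hmemL.1 hw
      set g := y * c ^ (j : ℕ) with hg
      set z := e j w with hz
      have hzW : z ∈ W := by
        rw [hz, LinearMap.sum_apply]
        refine Submodule.sum_mem _ fun l _ => hWinv _ ?_ ⟨w, hwW, rfl⟩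
        exact ((show Commute g c from hWy j).pow_left l).eq
      have h1 : ρ g z = z := by
        rw [hz, LinearMap.sum_apply, map_sum]
        have e1 : ∀ l, ρ g (ρ (g ^ l) w) = ρ (g ^ (l + 1)) w := fun l => by rw [← rep_mul_apply, ← pow_succ']
        rw [Finset.sum_congr rfl fun l _ => e1 l]
        have h2 := Finset.sum_range_succ' (fun l => ρ (g ^ l) w) r
        rw [Finset.sum_range_succ, hg, hpr, pow_zero] at h2
        exact add_right_cancel h2.symm
      have h3 : ρ (y * c ^ (i : ℕ)) z = z := by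
        rw [hz, LinearMap.sum_apply, map_sum]
        refine Finset.sum_congr rfl fun l _ => ?_
        rw [← rep_mul_apply, (((hcomm i j)).pow_right l).eq, rep_mul_apply, hwi]
      -- so a power of `c` other than one fixes it
      have key : ∀ {a b : Fin r}, a < b → ρ (y * c ^ (a : ℕ)) z = z → ρ (y * c ^ (b : ℕ)) z = z → z = 0 := by
        intro a b hab ha hb
        refine hfpf z hzW ?_
        rw [show y * c ^ (b : ℕ) = c ^ ((b : ℕ) - a) * (y * c ^ (a : ℕ)) by
          rw [← mul_assoc, ← (hcc.pow_right _).eq, mul_assoc, ← pow_add, Nat.sub_add_cancel hab.le],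
          rep_mul_apply, ha] at hb
        obtain ⟨m, hm⟩ := exists_pow_eq_self_of_coprime (n := (b : ℕ) - a) (x := c) (by
          rw [orderOf_eq_prime hc hcne]
          exact (hr.out.coprime_iff_not_dvd.2 fun hd => by
            have := Nat.le_of_dvd (by omega) hd
            omega).symm)
        exact hm ▸ fixed_pow ρ hb m
      rcases lt_or_gt_of_ne hji with hlt | hlt
      · exact key hlt h1 h3
      · exact key hlt h3 h1) (o := o) (fun j => order_le_finrank ρ hr2 ho hc (hne j) (by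
      rintro _ ⟨w, hw, rfl⟩
      obtain ⟨hwW, hwj⟩ := hmemL.1 hw
      exact hmemL.2 ⟨hWinv c rfl ⟨w, hwW, rfl⟩, by rw [← rep_mul_apply, hWy, rep_mul_apply, hwj]⟩)
      fun w hw h => hfpf w (hmemL.1 hw).1 h)
  rwa [Nat.card_fin] at h

end Cfsg.Agent.SEModule
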