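import Cfsg.Agent.Lib.SEModule.Main
import Cfsg.Agent.Lib.SEMain.Basic

/-!
Modules in characteristic two, from the main statement on strongly embedded subgroups.
-/

set_option autoImplicit false

namespace Cfsg.Agent.SEModule

universe u v

theorem benderStmt_of_stmt (h : SEMain.Stmt.{u}) : BenderStmt.{u} :=
  benderStmt_of fun G _ _ H hH hcore htwo => h G H hH hcore (SEMain.HasPair.exists_four htwo)

theorem S3841_of (h : SEMain.Stmt.{u}) {G : Type u} [Group G] [Finite G] (H : Subgroup G)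
    (hH : Cfsg.IsStronglyEmbedded H) (S : Sylow 2 G) {V : Type v} [AddCommGroup V] [Module (ZMod 2) V]
    [Module.Finite (ZMod 2) V] (ρ : Representation (ZMod 2) G V) (hρ : Function.Injective ρ) :
    (∀ k : ℕ, Nat.card ↥(S : Subgroup G) = 2 ^ k → 2 * k ≤ Module.finrank (ZMod 2) V) ∧
      ∀ n : ℕ, (∀ z ∈ (S : Subgroup G) ⊓ Subgroup.centralizer ((S : Subgroup G) : Set G), z ^ 2 = 1) →
        Nat.card ↥((S : Subgroup G) ⊓ Subgroup.centralizer ((S : Subgroup G) : Set G)) = 2 ^ n →
        ∀ s ∈ (S : Subgroup G), s ≠ 1 → n ≤ Module.finrank (ZMod 2) ↥(LinearMap.range (ρ s - 1)) :=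
  module_dimensions (benderStmt_of_stmt h) hH S ρ hρ

end Cfsg.Agent.SEModule
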