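import Cfsg.Agent.Lib.SEModule.Blocks
import Cfsg.Agent.Lib.SEModule.Eigen
import Cfsg.Agent.Lib.BrauerSuzuki.Main
import Cfsg.Agent.Lib.BrauerSuzuki.Sylow
import Cfsg.Agent.Lib.Solvable.Coprime
import Cfsg.Agent.Lib.SEBrick.Basic
import Cfsg.Agent.Lib.Involutions.StronglyEmbedded
import Mathlib.LinearAlgebra.Matrix.GeneralLinearGroup.Card
import Mathlib.LinearAlgebra.Matrix.ToLin
import Mathlib.Tactic.NoncommRing

/-!
# The dimension bound when commuting involutions are equal
-/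

set_option autoImplicit false
set_option linter.style.haveILetI false
set_option linter.unusedSectionVars false

namespace Cfsg.Agent.SEModule

open Module

section
variable {V : Type*} [AddCommGroup V] [Module (ZMod 2) V] [Module.Finite (ZMod 2) V]

theorem end_add_self (f : End (ZMod 2) V) : f + f = 0 := LinearMap.ext fun v => vec_add_self (f v)

theorem sub_one_pow_two_pow (g : End (ZMod 2) V) (j : ℕ) : (g - 1) ^ 2 ^ j = g ^ 2 ^ j - 1 := by
  induction j with
  | zero => rw [pow_zero, pow_one, pow_one]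
  | succ j ih =>
    rw [pow_succ, pow_mul, ih, pow_mul, pow_two, pow_two]
    generalize g ^ 2 ^ j = x
    rw [show (x - 1) * (x - 1) = x * x - 1 - ((x - 1) + (x - 1)) by noncomm_ring, end_add_self, sub_zero]

/-- An element of order `2 ^ (m + 1)` needs dimension more than `2 ^ m`. -/
theorem two_pow_add_rk_le {g : End (ZMod 2) V} {m : ℕ} (h : g ^ 2 ^ (m + 1) = 1) (hne : g ^ 2 ^ m ≠ 1) :
    2 ^ m + finrank (ZMod 2) (LinearMap.range (g ^ 2 ^ m - 1)) ≤ finrank (ZMod 2) V := by
  set f := g - 1 with hf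
  have hzero : f ^ 2 ^ (m + 1) = 0 := by rw [hf, sub_one_pow_two_pow, h, sub_self]
  have hnz : f ^ 2 ^ m ≠ 0 := by rw [hf, sub_one_pow_two_pow, sub_ne_zero]; exact hne
  rw [← sub_one_pow_two_pow, ← hf]
  suffices key : ∀ i, i ≤ 2 ^ m → i + finrank (ZMod 2) (LinearMap.range (f ^ i)) ≤ finrank (ZMod 2) V from
    key _ le_rfl
  intro i
  induction i with
  | zero => intro _; rw [zero_add]; exact Submodule.finrank_le _
  | succ i ih =>
    intro hi
    have hle : LinearMap.range (f ^ (i + 1)) ≤ LinearMap.range (f ^ i) := by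
      rintro _ ⟨v, rfl⟩
      exact ⟨f v, by rw [pow_succ, Module.End.mul_apply]⟩
    have hlt : LinearMap.range (f ^ (i + 1)) < LinearMap.range (f ^ i) := by
      refine lt_of_le_of_ne hle fun he => hnz ?_
      have hst : ∀ j, LinearMap.range (f ^ (i + j)) = LinearMap.range (f ^ i) := by
        intro j
        induction j with
        | zero => rfl
        | succ j ihj =>
          rw [show i + (j + 1) = 1 + (i + j) by ring, pow_add, pow_one, Module.End.mul_eq_comp,
            LinearMap.range_comp, ihj, ← LinearMap.range_comp, ← Module.End.mul_eq_comp, ← pow_succ', he]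
      have h0 : f ^ i = 0 := by
        rw [← LinearMap.range_eq_bot, ← hst (2 ^ (m + 1)), pow_add, hzero, mul_zero, LinearMap.range_zero]
      rw [show 2 ^ m = i + (2 ^ m - i) by omega, pow_add, h0, zero_mul]
    have := Submodule.finrank_lt_finrank_of_lt hlt
    have := ih (by omega)
    omega

/-- An element of square one moves at most half of the space. -/
theorem two_mul_rk_le {g : End (ZMod 2) V} (h : g * g = 1) :
    2 * finrank (ZMod 2) (LinearMap.range (g - 1)) ≤ finrank (ZMod 2) V := by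
  have hle : LinearMap.range (g - 1) ≤ LinearMap.ker (g - 1) := by
    rintro _ ⟨v, rfl⟩
    rw [LinearMap.mem_ker, ← Module.End.mul_apply,
      show (g - 1) * (g - 1) = g * g - 1 - ((g - 1) + (g - 1)) by noncomm_ring, end_add_self, h, sub_self,
      sub_zero, LinearMap.zero_apply]
  have := Submodule.finrank_mono hle
  have := LinearMap.finrank_range_add_finrank_ker (g - 1)
  omega

end

/-- The divisibility tables. -/
theorem order_table {r i k : ℕ} (hr : r.Prime) (hr2 : r ≠ 2) (hk : 2 ≤ k) (hk5 : k ≤ 5) (hi : i ≤ k)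
    (hir : 2 ^ i ∣ r - 1) : ∃ o, (∀ j, 0 < j → j < o → ¬ r ∣ 2 ^ j - 1) ∧ 2 * k ≤ 2 ^ (k - i) * o := by
  have h3 : 3 ≤ r := by have := hr.two_le; omega
  have small : ∀ {o : ℕ} {b : ℕ}, (∀ j, 0 < j → j < o → 2 ^ j - 1 ≤ b) →
      (∀ j, 0 < j → j < o → ∀ q, q ≤ b → 3 ≤ q → q ≠ 9 → 2 ^ i ∣ q - 1 → ¬ q ∣ 2 ^ j - 1) →
      ∀ j, 0 < j → j < o → ¬ r ∣ 2 ^ j - 1 := fun hb hd j hj hj' hdvd =>
    hd j hj hj' r ((Nat.le_of_dvd (by have := Nat.one_lt_two_pow hj.ne'; omega) hdvd).trans (hb j hj hj'))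
      h3 (fun e => by rw [e] at hr; norm_num at hr) hir hdvd
  have hi5 : i ≤ 5 := hi.trans hk5
  interval_cases i
  · refine ⟨1, fun j hj hj' => by omega, ?_⟩
    interval_cases k <;> norm_num
  · refine ⟨2, small (b := 1) (fun j hj hj' => by interval_cases j; norm_num) (fun j _ _ q hq hq3 => by omega), ?_⟩
    interval_cases k <;> norm_num
  · refine ⟨4, small (b := 7) (fun j hj hj' => by interval_cases j <;> norm_num)
      (fun j hj hj' q hq hq3 hq9 => by
        have key : ∀ j < 4, ∀ q < 8, j = 0 ∨ q < 3 ∨ (q - 1) % 4 ≠ 0 ∨ (2 ^ j - 1) % q ≠ 0 := by decide +kernel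
        intro hd hdiv
        rcases key j hj' q (by omega) with h | h | h | h
        · omega
        · omega
        · exact h (Nat.mod_eq_zero_of_dvd hd)
        · exact h (Nat.mod_eq_zero_of_dvd hdiv)), ?_⟩
    interval_cases k <;> norm_num
  · refine ⟨8, small (b := 127) (fun j hj hj' => by interval_cases j <;> norm_num)
      (fun j hj hj' q hq hq3 hq9 => by
        have key : ∀ j < 8, ∀ q < 128, j = 0 ∨ (q < 3 ∨ q = 9) ∨ (q - 1) % 8 ≠ 0 ∨ (2 ^ j - 1) % q ≠ 0 := by
          decide +kernel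
        intro hd hdiv
        rcases key j hj' q (by omega) with h | h | h | h
        · omega
        · omega
        · exact h (Nat.mod_eq_zero_of_dvd hd)
        · exact h (Nat.mod_eq_zero_of_dvd hdiv)), ?_⟩
    interval_cases k <;> norm_num
  · refine ⟨8, small (b := 127) (fun j hj hj' => by interval_cases j <;> norm_num)
      (fun j hj hj' q hq hq3 hq9 => by
        have key : ∀ j < 8, ∀ q < 128, j = 0 ∨ q < 3 ∨ (q - 1) % 16 ≠ 0 ∨ (2 ^ j - 1) % q ≠ 0 := by
          decide +kernel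
        intro hd hdiv
        rcases key j hj' q (by omega) with h | h | h | h
        · omega
        · omega
        · exact h (Nat.mod_eq_zero_of_dvd hd)
        · exact h (Nat.mod_eq_zero_of_dvd hdiv)), ?_⟩
    interval_cases k <;> norm_num
  · refine ⟨10, small (b := 511) (fun j hj hj' => by interval_cases j <;> norm_num)
      (fun j hj hj' q hq hq3 hq9 => by
        have key : ∀ j < 10, ∀ q < 512, j = 0 ∨ q < 3 ∨ (q - 1) % 32 ≠ 0 ∨ (2 ^ j - 1) % q ≠ 0 := by
          decide +kernel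
        intro hd hdiv
        rcases key j hj' q (by omega) with h | h | h | h
        · omega
        · omega
        · exact h (Nat.mod_eq_zero_of_dvd hd)
        · exact h (Nat.mod_eq_zero_of_dvd hdiv)), ?_⟩
    interval_cases k; norm_num

theorem not_dvd_card_GL_four : ∀ d < 8, ¬ 3 ^ 5 ∣ ∏ i : Fin d, (2 ^ d - 2 ^ (i : ℕ)) := by decide +kernel

theorem not_dvd_card_GL_five : ∀ d < 10, ¬ 3 ^ 9 ∣ ∏ i : Fin d, (2 ^ d - 2 ^ (i : ℕ)) := by decide +kernel

universe u v

variable {G : Type u} [Group G] [Finite G]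

/-- The maps `x ^ r` and the commutators of an r-group lie in a proper subgroup. -/
theorem frattini_proper {r : ℕ} [hr : Fact r.Prime] {R : Subgroup G} (hR : IsPGroup r R) (hne : R ≠ ⊥) :
    Subgroup.closure ({g | ∃ x ∈ R, g = x ^ r} ∪ {g | ∃ x ∈ R, ∃ y ∈ R, g = x * y * x⁻¹ * y⁻¹}) ≠ R := by
  classical
  haveI : Group.IsNilpotent R := hR.isNilpotent
  haveI : Nontrivial R := (Subgroup.nontrivial_iff_ne_bot R).2 hne
  haveI : Finite (Subgroup R) := Finite.of_injective ((↑) : Subgroup R → Set R) SetLike.coe_injective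
  obtain ⟨M, hM, hmax⟩ := (Set.toFinite {X : Subgroup R | X ≠ ⊤}).exists_maximal ⟨⊥, bot_ne_top⟩
  have hcoatom : IsCoatom M := ⟨hM, fun X hX => by
    by_contra h
    exact (lt_irrefl _) (lt_of_lt_of_le hX (hmax h hX.le))⟩
  haveI : M.Normal := Subgroup.NormalizerCondition.normal_of_coatom M
    (Group.normalizerCondition_of_isNilpotent (G := R)) hcoatom
  have hq : IsPGroup r (R ⧸ M) := hR.to_quotient M
  have hcyc : ∀ a b : R ⧸ M, a ≠ 1 → b ∈ Subgroup.zpowers a := by
    intro a b ha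
    obtain ⟨a, rfl⟩ := QuotientGroup.mk'_surjective M a
    obtain ⟨b, rfl⟩ := QuotientGroup.mk'_surjective M b
    have htop : (Subgroup.zpowers (QuotientGroup.mk' M a)).comap (QuotientGroup.mk' M) = ⊤ := by
      refine hcoatom.2 _ (lt_of_le_of_ne (fun x hx => Subgroup.mem_comap.2 ?_) fun he => ha ?_)
      · rw [show QuotientGroup.mk' M x = 1 from (QuotientGroup.eq_one_iff x).2 hx]; exact one_mem _
      · refine (QuotientGroup.eq_one_iff a).2 ?_
        rw [he]; exact Subgroup.mem_comap.2 (Subgroup.mem_zpowers _)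
    exact Subgroup.mem_comap.1 (htop ▸ Subgroup.mem_top b : b ∈ Subgroup.comap _ _)
  have hpow : ∀ a : R ⧸ M, a ^ r = 1 := by
    intro a
    by_contra h
    obtain ⟨j, hj⟩ := Subgroup.mem_zpowers_iff.1 (hcyc _ a h)
    obtain ⟨l, hl⟩ := IsPGroup.iff_orderOf.1 hq a
    have hd : (orderOf a : ℤ) ∣ (r : ℤ) * j - 1 := by
      rw [orderOf_dvd_iff_zpow_eq_one, zpow_sub, zpow_mul, zpow_natCast, hj, zpow_one, mul_inv_cancel]
    rcases Nat.eq_zero_or_pos l with rfl | hl'
    · rw [pow_zero, orderOf_eq_one_iff] at hl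
      exact h (by rw [hl, one_pow])
    · rw [hl] at hd
      have h1 : (r : ℤ) ∣ (r : ℤ) * j - 1 :=
        (Int.natCast_dvd_natCast.2 (dvd_pow_self r hl'.ne')).trans hd
      have h2 : (r : ℤ) ∣ 1 := by
        have := Int.dvd_sub (dvd_mul_right (r : ℤ) j) h1
        simpa using this
      exact hr.out.not_dvd_one (Int.natCast_dvd_natCast.1 h2)
  have hcomm : ∀ a b : R ⧸ M, a * b = b * a := by
    intro a b
    rcases eq_or_ne a 1 with rfl | ha
    · rw [one_mul, mul_one]
    obtain ⟨j, rfl⟩ := Subgroup.mem_zpowers_iff.1 (hcyc a b ha)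
    exact (Commute.refl a).zpow_right j
  intro h
  have hle : Subgroup.closure ({g | ∃ x ∈ R, g = x ^ r} ∪ {g | ∃ x ∈ R, ∃ y ∈ R, g = x * y * x⁻¹ * y⁻¹}) ≤
      M.map R.subtype := by
    rw [Subgroup.closure_le]
    rintro g (⟨x, hx, rfl⟩ | ⟨x, hx, y, hy, rfl⟩)
    · exact ⟨(⟨x, hx⟩ : R) ^ r, (QuotientGroup.eq_one_iff _).1 (by rw [QuotientGroup.mk_pow, hpow]), rfl⟩
    · refine ⟨⟨x, hx⟩ * ⟨y, hy⟩ * (⟨x, hx⟩ : R)⁻¹ * (⟨y, hy⟩ : R)⁻¹, (QuotientGroup.eq_one_iff _).1 ?_, rfl⟩
      rw [QuotientGroup.mk_mul, QuotientGroup.mk_mul, QuotientGroup.mk_mul, hcomm (QuotientGroup.mk (⟨x, hx⟩ : R)),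
        QuotientGroup.mk_inv, QuotientGroup.mk_inv, mul_inv_cancel_right, mul_inv_cancel]
  rw [h] at hle
  refine hM (eq_top_iff.2 fun x _ => ?_)
  obtain ⟨y, hy, e⟩ := hle x.2
  exact (Subtype.ext e : y = x) ▸ hy

variable {H : Subgroup G} {V : Type v} [AddCommGroup V] [Module (ZMod 2) V] [Module.Finite (ZMod 2) V]
  (ρ : Representation (ZMod 2) G V)

/-- Part one when commuting involutions are equal. -/
theorem rankOne_dim (hH : Cfsg.IsStronglyEmbedded H) (hρ : Function.Injective ρ)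
    (hR1 : BrauerSuzuki.RankOne G) (S : Sylow 2 G) {k : ℕ} (hk : Nat.card (S : Subgroup G) = 2 ^ k) :
    2 * k ≤ finrank (ZMod 2) V := by
  classical
  haveI : Fact (Nat.Prime 2) := ⟨Nat.prime_two⟩
  rcases Nat.eq_zero_or_pos k with rfl | hk1
  · exact Nat.zero_le _
  obtain ⟨⟨z, hzS⟩, hz'⟩ := exists_prime_orderOf_dvd_card' (G := (S : Subgroup G)) (p := 2)
    (hk ▸ dvd_pow_self 2 hk1.ne')
  have hz : orderOf z = 2 := by rw [← hz', ← Subgroup.orderOf_coe]
  have hzz : z * z = 1 := Invol.mul_self hz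
  have hzi : z⁻¹ = z := Invol.inv_self hz
  have hρne : ∀ g : G, g ≠ 1 → ρ g ≠ 1 := fun g hg h => hg (hρ (by rw [h, map_one]))
  have hρz : 1 ≤ finrank (ZMod 2) (LinearMap.range (ρ z - 1)) := Nat.one_le_iff_ne_zero.2 fun h =>
    hρne z (Invol.ne_one hz) (sub_eq_zero.1 (LinearMap.range_eq_bot.1 (Submodule.finrank_eq_zero.1 h)))
  by_cases hk1' : k = 1
  · subst hk1'
    have := two_mul_rk_le (g := ρ z) (by rw [← map_mul, hzz, map_one])
    omega
  have hk2 : 2 ≤ k := by omega
  by_cases hk6 : 6 ≤ k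
  · -- an element of order `2 ^ (k - 1)`
    obtain ⟨x, hx⟩ : ∃ x : G, orderOf x = 2 ^ (k - 1) := by
      rcases BrauerSuzuki.exists_data hR1 S with hc | ⟨D, hD⟩
      · obtain ⟨g, hg⟩ := hc.exists_generator
        refine ⟨(g : G) ^ 2, ?_⟩
        have hgo : orderOf (g : G) = 2 ^ k := by
          rw [Subgroup.orderOf_coe, orderOf_eq_card_of_forall_mem_zpowers hg, hk]
        rw [orderOf_pow_of_dvd two_ne_zero (hgo ▸ dvd_pow_self 2 hk1.ne'), hgo]
        exact Nat.div_eq_of_eq_mul_left two_pos (by rw [← pow_succ, Nat.sub_add_cancel hk1])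
      · refine ⟨D.a, ?_⟩
        have h := D.card_S
        rw [hD, hk] at h
        have h2 : 2 ^ k = 2 * 2 ^ (k - 1) := by rw [← pow_succ', Nat.sub_add_cancel hk1]
        rw [D.order_a]
        omega
    have hne : (ρ x) ^ 2 ^ (k - 2) ≠ 1 := by
      rw [← map_pow]
      refine hρne _ (pow_ne_one_of_lt_orderOf (by positivity) ?_)
      rw [hx]
      exact Nat.pow_lt_pow_right one_lt_two (by omega)
    have h := two_pow_add_rk_le (g := ρ x) (m := k - 2)
      (by rw [← map_pow, show k - 2 + 1 = k - 1 by omega, ← hx, pow_orderOf_eq_one, map_one]) hne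
    have h3 : 1 ≤ finrank (ZMod 2) (LinearMap.range ((ρ x) ^ 2 ^ (k - 2) - 1)) :=
      Nat.one_le_iff_ne_zero.2 fun h' =>
        hne (sub_eq_zero.1 (LinearMap.range_eq_bot.1 (Submodule.finrank_eq_zero.1 h')))
    have h4 : ∀ j, 4 ≤ j → 2 * (j + 2) ≤ 2 ^ j + 1 := by
      intro j hj
      induction j, hj using Nat.le_induction with
      | base => norm_num
      | succ j hj ih =>
        have h5 := Nat.pow_le_pow_right two_pos hj
        rw [pow_succ]
        omega
    have h6 := h4 (k - 2) (by omega)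
    omega
  have hk5 : k ≤ 5 := by omega
  -- facts about the unique involution
  have huniq : ∀ s ∈ (S : Subgroup G), orderOf s = 2 → s = z := fun s hs ho => hR1.unique_invol S.2 hs hzS ho hz
  have hzS' : ∀ s ∈ (S : Subgroup G), s * z = z * s := fun s hs => by
    have h := huniq (s * z * s⁻¹) (mul_mem (mul_mem hs hzS) (inv_mem hs)) ((Invol.order_conj s z).trans hz)
    exact mul_inv_eq_iff_eq_mul.1 h
  have hpow : ∀ s ∈ (S : Subgroup G), s ≠ 1 → z ∈ Subgroup.zpowers s := by
    intro s hs hs1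
    obtain ⟨j, hj⟩ := IsPGroup.iff_orderOf.1 S.2 ⟨s, hs⟩
    rw [Subgroup.orderOf_mk] at hj
    cases j with
    | zero => exact absurd (orderOf_eq_one_iff.1 hj) hs1
    | succ j =>
      have ho : orderOf (s ^ 2 ^ j) = 2 := by
        rw [orderOf_pow_of_dvd (by positivity) (hj ▸ pow_dvd_pow 2 (by omega)), hj, pow_succ,
          Nat.mul_div_cancel_left _ (by positivity)]
      exact huniq _ (pow_mem hs _) ho ▸ pow_mem (Subgroup.mem_zpowers s) _
  have hfixz : ∀ s ∈ (S : Subgroup G), s ≠ 1 → ∀ x : G, s * x * s⁻¹ = x → z * x * z = x := by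
    intro s hs hs1 x hx
    obtain ⟨j, hj⟩ := Subgroup.mem_zpowers_iff.1 (hpow s hs hs1)
    have hc : Commute s x := mul_inv_eq_iff_eq_mul.1 hx
    rw [← hj, (hc.zpow_left j).eq, mul_assoc, hj, hzz, mul_one]
  -- the core
  set K := Cfsg.oddCore G with hK
  have hKodd : Odd (Nat.card K) := SEBrick.oddCore_odd
  haveI : K.Normal := FittingCores.pPrimeCore_normal 2
  have hnc : ∃ c ∈ K, z * c ≠ c * z := by
    by_contra hno
    push Not at hno
    -- otherwise `z` is central
    have hcent : ∀ g : G, g * z * g⁻¹ = z := by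
      intro g
      have hκ := BrauerSuzuki.inZStar G hR1 z hz g
      set κ := g * z * g⁻¹ * z⁻¹ with hκdef
      have hc : Commute z κ := hno κ hκ
      have hw : κ * z = g * z * g⁻¹ := by rw [hκdef, inv_mul_cancel_right]
      have h2 : κ * κ = 1 := by
        have h1 : κ * z * (κ * z) = 1 := by rw [hw, Invol.mul_self ((Invol.order_conj g z).trans hz)]
        rwa [hc.mul_mul_mul_comm, hzz, mul_one] at h1
      have : κ = 1 := eq_one_of_sq_odd hKodd hκ h2
      rw [← hw, this, one_mul]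
    obtain ⟨z₀, hz₀H, hz₀⟩ := Invol.exists_invol hH.2.1
    obtain ⟨g, hg⟩ := isConj_iff.1 (Invol.se_isConj hH hz hz₀)
    rw [hcent] at hg
    subst hg
    exact hH.1 (eq_top_iff.2 fun g _ => Invol.se_mem_of_conj hH hz hz₀H (by rw [hcent]; exact hz₀H))
  obtain ⟨c₀, hc₀, hc₀ne⟩ := hnc
  have hAK : (S : Subgroup G) ≤ Subgroup.normalizer (K : Set G) := Subgroup.le_normalizer_of_normal
  have hcop : (Nat.card (S : Subgroup G)).Coprime (Nat.card K) := by
    rw [hk]; exact (Nat.coprime_two_left.2 hKodd).pow_left k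
  obtain ⟨r, hr, hrC⟩ : ∃ r : ℕ, r.Prime ∧
      ¬ r ^ (Nat.card K).factorization r ∣ Nat.card ↥(K ⊓ Subgroup.centralizer {z}) := by
    by_contra hall
    push Not at hall
    have hd : Nat.card K ∣ Nat.card ↥(K ⊓ Subgroup.centralizer {z}) := by
      refine (Nat.factorization_le_iff_dvd Nat.card_pos.ne' Nat.card_pos.ne').1 fun p => ?_
      by_cases hp : p.Prime
      · exact (hp.pow_dvd_iff_le_factorization Nat.card_pos.ne').1 (hall p hp)
      · rw [Nat.factorization_eq_zero_of_not_prime _ hp]; exact Nat.zero_le _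
    have he : K ⊓ Subgroup.centralizer {z} = K :=
      Subgroup.eq_of_le_of_card_ge inf_le_left (Nat.le_of_dvd Nat.card_pos hd)
    rw [← he] at hc₀
    exact hc₀ne (Subgroup.mem_centralizer_singleton_iff.1 hc₀.2).symm
  haveI : Fact r.Prime := ⟨hr⟩
  have hr2 : r ≠ 2 := by
    rintro rfl
    refine hrC ?_
    rw [Nat.factorization_eq_zero_of_not_dvd fun h => Nat.not_even_iff_odd.2 hKodd (even_iff_two_dvd.2 h),
      pow_zero]
    exact one_dvd _
  obtain ⟨P, hP⟩ := CoprimeAct.exists_invariant_sylow hAK hcop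
    (Or.inl (haveI := S.2.isNilpotent; inferInstance)) r
  set P' := (P : Subgroup K).map K.subtype with hP'
  let Good : Set (Subgroup G) := {X | IsPGroup r X ∧ (∀ s ∈ (S : Subgroup G), ∀ x ∈ X, s * x * s⁻¹ ∈ X) ∧
    ∃ x ∈ X, z * x ≠ x * z}
  have hPgood : P' ∈ Good := by
    refine ⟨P.isPGroup'.map K.subtype, fun s hs x hx => (Subgroup.mem_normalizer_iff.1 (hP hs) x).1 hx, ?_⟩
    by_contra hno
    push Not at hno
    refine hrC ?_
    rw [← P.card_eq_multiplicity, ← Subgroup.card_subtype K (P : Subgroup K)]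
    exact Subgroup.card_dvd_of_le fun y hy => Subgroup.mem_inf.2 ⟨Subgroup.map_subtype_le _ hy,
      Subgroup.mem_centralizer_singleton_iff.2 (hno y hy).symm⟩
  haveI : Finite (Subgroup G) := Finite.of_injective ((↑) : Subgroup G → Set G) SetLike.coe_injective
  obtain ⟨R, ⟨hRp, hRS, x₀, hx₀, hx₀ne⟩, hmin⟩ := (Set.toFinite Good).exists_minimal ⟨P', hPgood⟩
  have hRodd : Odd (Nat.card R) := by
    obtain ⟨j, hj⟩ := IsPGroup.iff_card.1 hRp
    rw [hj]; exact (hr.odd_of_ne_two hr2).pow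
  have hzR : ∀ x ∈ R, z * x * z ∈ R := fun x hx => by
    have := hRS z hzS x hx
    rwa [hzi] at this
  have hcomm_iff : ∀ x : G, z * x = x * z ↔ z * x * z = x := fun x => by
    refine ⟨fun h => by rw [h, mul_assoc, hzz, mul_one], fun h => ?_⟩
    calc z * x = z * x * z * z := by rw [mul_assoc (z * x), hzz, mul_one]
      _ = x * z := by rw [h]
  have hsmall : ∀ X : Subgroup G, X ≤ R → (∀ s ∈ (S : Subgroup G), ∀ x ∈ X, s * x * s⁻¹ ∈ X) → X ≠ R →
      ∀ x ∈ X, z * x * z = x := fun X hX hXS hne x hx => by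
    by_contra h
    exact hne (le_antisymm hX (hmin ⟨hRp.to_le hX, hXS, x, hx, fun e => h ((hcomm_iff x).1 e)⟩ hX))
  -- the inverted elements generate
  set Y : Set G := {y | y ∈ R ∧ z * y * z = y⁻¹} with hY
  have hYR : Subgroup.closure Y ≤ R := (Subgroup.closure_le R).2 fun y hy => hy.1
  have hYS : ∀ s ∈ (S : Subgroup G), ∀ x ∈ Subgroup.closure Y, s * x * s⁻¹ ∈ Subgroup.closure Y := by
    intro s hs x hx
    induction hx using Subgroup.closure_induction with
    | mem y hy =>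
      refine Subgroup.subset_closure ⟨hRS s hs y hy.1, ?_⟩
      have e : z * (s * y * s⁻¹) * z = s * (z * y * z) * s⁻¹ := by
        have h1 : s⁻¹ * z = z * s⁻¹ := hzS' s⁻¹ (inv_mem hs)
        rw [show z * (s * y * s⁻¹) * z = (z * s) * y * (s⁻¹ * z) by group, ← hzS' s hs, h1]; group
      rw [e, hy.2]; group
    | one => rw [mul_one, mul_inv_cancel]; exact one_mem _
    | mul a b _ _ ha hb =>
      rw [show s * (a * b) * s⁻¹ = (s * a * s⁻¹) * (s * b * s⁻¹) by group]; exact mul_mem ha hb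
    | inv a _ ha => rw [show s * a⁻¹ * s⁻¹ = (s * a * s⁻¹)⁻¹ by group]; exact inv_mem ha
  have hgen : Subgroup.closure Y = R := by
    by_contra hne
    obtain ⟨f, hf, i, hi, rfl, hzf, hzi'⟩ := exists_fixed_mul_inverted hRodd hzz hzR hx₀
    have hi1 : z * i * z = i := hsmall _ hYR hYS hne i (Subgroup.subset_closure ⟨hi, hzi'⟩)
    refine hx₀ne ((hcomm_iff _).2 ?_)
    rw [conj2_mul hzz, hzf, hi1]
  set Φ := Subgroup.closure ({g | ∃ x ∈ R, g = x ^ r} ∪ {g | ∃ x ∈ R, ∃ y ∈ R, g = x * y * x⁻¹ * y⁻¹}) with hΦ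
  have hΦR : Φ ≤ R := by
    rw [hΦ, Subgroup.closure_le]
    rintro g (⟨x, hx, rfl⟩ | ⟨x, hx, y, hy, rfl⟩)
    · exact pow_mem hx r
    · exact mul_mem (mul_mem (mul_mem hx hy) (inv_mem hx)) (inv_mem hy)
  have hΦS : ∀ s ∈ (S : Subgroup G), ∀ x ∈ Φ, s * x * s⁻¹ ∈ Φ := by
    intro s hs x hx
    rw [hΦ] at hx ⊢
    induction hx using Subgroup.closure_induction with
    | mem g hg =>
      refine Subgroup.subset_closure ?_
      rcases hg with ⟨x, hx, rfl⟩ | ⟨x, hx, y, hy, rfl⟩
      · exact Or.inl ⟨_, hRS s hs x hx, conj_pow.symm⟩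
      · exact Or.inr ⟨_, hRS s hs x hx, _, hRS s hs y hy, by group⟩
    | one => rw [mul_one, mul_inv_cancel]; exact one_mem _
    | mul a b _ _ ha hb =>
      rw [show s * (a * b) * s⁻¹ = (s * a * s⁻¹) * (s * b * s⁻¹) by group]; exact mul_mem ha hb
    | inv a _ ha => rw [show s * a⁻¹ * s⁻¹ = (s * a * s⁻¹)⁻¹ by group]; exact inv_mem ha
  have hΦne : Φ ≠ R := frattini_proper hRp fun h => hx₀ne (by
    rw [h, Subgroup.mem_bot] at hx₀; rw [hx₀, mul_one, one_mul])
  have hΦfix : ∀ d ∈ Φ, z * d * z = d := hsmall Φ hΦR hΦS hΦne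
  have hroot : ∀ y ∈ R, ∀ d : G, Commute (y * y) d → Commute y d := fun y hy d h => by
    obtain ⟨j, hj⟩ := hRodd
    have h1 : y ^ (2 * j + 1) = 1 := by
      rw [← hj]; exact congrArg Subtype.val (pow_card_eq_one' (x := (⟨y, hy⟩ : R)))
    have h2 : (y * y) ^ (j + 1) = y := by
      rw [← pow_two, ← pow_mul, show 2 * (j + 1) = 2 * j + 1 + 1 by ring, pow_succ, h1, one_mul]
    exact h2 ▸ h.pow_left (j + 1)
  have hΦn : ∀ x ∈ R, ∀ d ∈ Φ, x * d * x⁻¹ ∈ Φ := fun x hx d hd => by
    have h : x * d * x⁻¹ * d⁻¹ ∈ Φ := Subgroup.subset_closure (Or.inr ⟨x, hx, d, hΦR hd, rfl⟩)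
    have := mul_mem h hd
    rwa [inv_mul_cancel_right] at this
  have hcentral : ∀ d ∈ Φ, ∀ x ∈ R, Commute x d := by
    intro d hd x hx
    rw [← hgen] at hx
    induction hx using Subgroup.closure_induction with
    | mem y hy =>
      have h1 := hΦfix _ (hΦn y hy.1 d hd)
      rw [conj2_mul hzz, conj2_mul hzz, hy.2, hΦfix d hd, conj2_inv hzz, hy.2, inv_inv] at h1
      refine hroot y hy.1 d ?_
      show y * y * d = d * (y * y)
      calc y * y * d = y * (y * d * y⁻¹) * y := by group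
        _ = y * (y⁻¹ * d * y) * y := by rw [← h1]
        _ = d * (y * y) := by group
    | one => exact Commute.one_left d
    | mul a b _ _ ha hb => exact ha.mul_left hb
    | inv a _ ha => exact ha.inv_left
  have hYr : ∀ y ∈ Y, y ^ r = 1 := fun y hy => by
    have hf : z * y ^ r * z = y ^ r := hΦfix _ (Subgroup.subset_closure (Or.inl ⟨y, hy.1, rfl⟩))
    have hi : z * y ^ r * z = (y ^ r)⁻¹ := by
      have h : (z * y * z⁻¹) ^ r = z * y ^ r * z⁻¹ := conj_pow
      rw [hzi, hy.2, inv_pow] at h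
      exact h.symm
    exact eq_one_of_sq_odd hRodd (pow_mem hy.1 r) (by
      conv_lhs => arg 1; rw [← hf, hi]
      exact inv_mul_cancel _)
  by_cases hab : ∀ a ∈ Y, ∀ b ∈ Y, a * b = b * a
  · -- abelian
    haveI := Subgroup.isMulCommutative_closure hab
    have hUc : ∀ u ∈ R, ∀ v ∈ R, u * v = v * u := fun u hu v hv => by
      rw [← hgen] at hu hv
      exact setLike_mul_comm hu hv
    have hU : ∀ u ∈ R, u ^ r = 1 ∧ z * u * z = u⁻¹ := by
      intro u hu
      rw [← hgen] at hu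
      induction hu using Subgroup.closure_induction with
      | mem y hy => exact ⟨hYr y hy, hy.2⟩
      | one => exact ⟨one_pow r, by rw [mul_one, hzz, inv_one]⟩
      | mul a b ha hb ha1 hb1 =>
        have hab' : Commute a b := hUc a (hgen ▸ ha) b (hgen ▸ hb)
        exact ⟨by rw [hab'.mul_pow, ha1.1, hb1.1, one_mul],
          by rw [conj2_mul hzz, ha1.2, hb1.2, ← mul_inv_rev, hab'.eq]⟩
      | inv a _ ha1 => exact ⟨by rw [inv_pow, ha1.1, inv_one], by rw [conj2_inv hzz, ha1.2]⟩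
    obtain ⟨e, he1, he2, he3⟩ := orbit_bound ρ hr2 S.2 hUc (fun u hu => (hU u hu).1) hRS
      (fun s hs u hu hu1 h => by
        by_contra hs1
        have h1 := hfixz s hs hs1 u h
        rw [(hU u hu).2] at h1
        exact hu1 (eq_one_of_sq_odd hRodd hu (by
          conv_lhs => arg 1; rw [← h1]
          exact inv_mul_cancel u)))
      ⟨x₀, hx₀, hρne x₀ fun h => hx₀ne (by rw [h, mul_one, one_mul])⟩
    rw [hk] at he2 he3
    obtain ⟨i, hi, rfl⟩ := (Nat.dvd_prime_pow Nat.prime_two).1 he2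
    obtain ⟨o, ho, hbound⟩ := order_table hr hr2 hk2 hk5 hi he1
    have h := he3 o ho
    rw [Nat.pow_div hi two_pos] at h
    exact hbound.trans h
  -- non-abelian
  push Not at hab
  obtain ⟨y, hy, y', hy', hyy'⟩ := hab
  set c := y⁻¹ * (y' * y * y'⁻¹) with hc
  have hcΦ : c ∈ Φ := Subgroup.subset_closure (Or.inr ⟨y⁻¹, inv_mem hy.1, y', hy'.1, by rw [hc]; group⟩)
  have hc1 : c ≠ 1 := fun h => hyy' (by
    rw [hc, inv_mul_eq_one] at h
    exact eq_mul_inv_iff_mul_eq.1 h)
  have hyc : Commute y c := hcentral c hcΦ y hy.1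
  have hy'c : Commute y' c := hcentral c hcΦ y' hy'.1
  have hconj : y' * y * y'⁻¹ = y * c := by rw [hc, mul_inv_cancel_left]
  have hcr : c ^ r = 1 := by
    have h1 : (y' * y * y'⁻¹) ^ r = y' * y ^ r * y'⁻¹ := conj_pow
    rw [hconj, hyc.mul_pow, hYr y hy, one_mul, mul_one, mul_inv_cancel] at h1
    exact h1
  have hheis : ∀ o, (∀ j, 0 < j → j < o → ¬ r ∣ 2 ^ j - 1) → r * o ≤ finrank (ZMod 2) V := fun o ho =>
    heis_bound ρ hr2 hyc.eq hy'c.eq hconj (hYr y hy) hcr (hρne c hc1) ho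
  have h2 : r * 2 ≤ finrank (ZMod 2) V := hheis 2 fun j hj hj' h => by
    interval_cases j
    exact hr.not_dvd_one (by simpa using h)
  by_cases hr5 : 5 ≤ r
  · omega
  have hr3 : r = 3 := by
    have := hr.two_le
    rcases (show r = 2 ∨ r = 3 ∨ r = 4 by omega) with h | h | h
    · exact absurd h hr2
    · exact h
    · rw [h] at hr; exact absurd hr (by norm_num)
  rw [hr3] at h2 hRp hr2
  by_cases hk3 : k ≤ 3
  · omega
  by_contra hd
  push Not at hd
  -- the order of `R`
  have hcongr : ∀ x ∈ R, z * x * z * x ∈ Φ := by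
    intro x hx
    rw [← hgen] at hx
    induction hx using Subgroup.closure_induction with
    | mem y hy => rw [hy.2, inv_mul_cancel]; exact one_mem _
    | one => rw [mul_one, mul_one, hzz]; exact one_mem _
    | mul a b ha hb ha1 hb1 =>
      rw [hgen] at ha hb
      rw [show z * (a * b) * z * (a * b) = (z * a * z * a) *
          ((a⁻¹ * (z * b * z) * a⁻¹⁻¹ * (z * b * z)⁻¹) * (z * b * z * b)) by rw [conj2_mul hzz]; group]
      exact mul_mem ha1 (mul_mem (Subgroup.subset_closure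
        (Or.inr ⟨a⁻¹, inv_mem ha, z * b * z, hzR b hb, rfl⟩)) hb1)
    | inv a ha ha1 =>
      rw [hgen] at ha
      have hw : z * a⁻¹ * z = (z * a * z)⁻¹ := conj2_inv hzz a
      have e : z * a⁻¹ * z * a⁻¹ = ((z * a * z)⁻¹ * a⁻¹ * (z * a * z)⁻¹⁻¹ * a⁻¹⁻¹) * (z * a * z * a)⁻¹ := by
        rw [hw]; group
      rw [e]
      exact mul_mem (Subgroup.subset_closure
        (Or.inr ⟨(z * a * z)⁻¹, inv_mem (hzR a ha), a⁻¹, inv_mem ha, rfl⟩)) (inv_mem ha1)
  have hdvd := dvd_card_of_free (S := (S : Subgroup G)) (Y := {x | x ∈ R ∧ x ∉ Φ})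
    (fun s hs x hx => ⟨hRS s hs x hx.1, fun h => hx.2 (by
      have := hΦS s⁻¹ (inv_mem hs) _ h
      rwa [show s⁻¹ * (s * x * s⁻¹) * s⁻¹⁻¹ = x by group] at this)⟩)
    (fun s hs x hx h => by
      by_contra hs1
      have h1 := hcongr x hx.1
      rw [hfixz s hs hs1 x h] at h1
      refine hx.2 ?_
      obtain ⟨j, hj⟩ := hRodd
      have e1 : x ^ (2 * j + 1) = 1 := by
        rw [← hj]; exact congrArg Subtype.val (pow_card_eq_one' (x := (⟨x, hx.1⟩ : R)))
      have e2 : (x * x) ^ (j + 1) = x := by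
        rw [← pow_two, ← pow_mul, show 2 * (j + 1) = 2 * j + 1 + 1 by ring, pow_succ, e1, one_mul]
      exact e2 ▸ pow_mem h1 (j + 1))
  haveI : Fintype G := Fintype.ofFinite G
  have hYcard : Nat.card {x // x ∈ R ∧ x ∉ Φ} = Nat.card R - Nat.card Φ := by
    rw [Nat.card_eq_fintype_card, Nat.card_eq_fintype_card, Nat.card_eq_fintype_card, Fintype.card_subtype,
      Fintype.card_subtype, Fintype.card_subtype, ← Finset.card_sdiff_of_subset (fun u hu => by
        simp only [Finset.mem_filter, Finset.mem_univ, true_and] at hu ⊢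
        exact hΦR hu)]
    congr 1
    ext u
    simp
  have hdvd' : 2 ^ k ∣ Nat.card R - Nat.card Φ := hk ▸ hYcard ▸ hdvd
  obtain ⟨a, ha⟩ := IsPGroup.iff_card.1 hRp
  obtain ⟨b, hb⟩ := IsPGroup.iff_card.1 (hRp.to_le hΦR)
  have hblt : b < a := by
    refine (Nat.pow_lt_pow_iff_right (show 1 < 3 by norm_num)).1 ?_
    rw [← hb, ← ha]
    exact lt_of_le_of_ne (Nat.le_of_dvd Nat.card_pos (Subgroup.card_dvd_of_le hΦR))
      fun h => hΦne (Subgroup.eq_of_le_of_card_ge hΦR h.ge)
  have hb1 : 1 ≤ b := by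
    by_contra h
    have hb0 : b = 0 := by omega
    rw [hb0, pow_zero] at hb
    have := Subgroup.card_eq_one.1 hb
    rw [this, Subgroup.mem_bot] at hcΦ
    exact hc1 hcΦ
  have hdiff : 2 ^ k ∣ 3 ^ (a - b) - 1 := by
    rw [ha, hb, show a = b + (a - b) by omega, pow_add,
      show 3 ^ b * 3 ^ (a - b) - 3 ^ b = 3 ^ b * (3 ^ (a - b) - 1) by rw [Nat.mul_sub, mul_one]] at hdvd'
    exact ((show Nat.Coprime 2 3 by norm_num).pow k b).dvd_of_dvd_mul_left hdvd'
  -- inside the general linear group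
  let d := finrank (ZMod 2) V
  let bV := Module.finBasis (ZMod 2) V
  let emb : G →* GL (Fin d) (ZMod 2) :=
    (Units.map (LinearMap.toMatrixAlgEquiv bV).toAlgHom.toRingHom.toMonoidHom).comp ρ.toHomUnits
  have hemb : Function.Injective emb := fun g g' h =>
    hρ ((LinearMap.toMatrixAlgEquiv bV).injective (congrArg Units.val h))
  have hGL : Nat.card R ∣ Nat.card (GL (Fin d) (ZMod 2)) :=
    Subgroup.card_dvd_of_injective (emb.comp R.subtype) (hemb.comp R.subtype_injective)
  rw [Matrix.card_GL_field, ha, ZMod.card] at hGL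
  have hpa : ∀ m, m ≤ a → 3 ^ m ∣ ∏ i : Fin d, (2 ^ d - 2 ^ (i : ℕ)) := fun m hm => (pow_dvd_pow 3 hm).trans hGL
  have hk45 : k = 4 ∨ k = 5 := by omega
  rcases hk45 with rfl | rfl
  · have h4 : 4 ≤ a - b := by
      by_contra h
      have hab' : a - b < 4 := by omega
      have hpos : 0 < a - b := by omega
      revert hdiff
      generalize a - b = m at hab' hpos ⊢
      interval_cases m <;> norm_num
    exact not_dvd_card_GL_four d hd (hpa 5 (by omega))
  · have h8 : 8 ≤ a - b := by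
      by_contra h
      have hab' : a - b < 8 := by omega
      have hpos : 0 < a - b := by omega
      revert hdiff
      generalize a - b = m at hab' hpos ⊢
      interval_cases m <;> norm_num
    exact not_dvd_card_GL_five d hd (hpa 9 (by omega))

end Cfsg.Agent.SEModule
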