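import Cfsg.Agent.Lib.SEModule.Induction
import Cfsg.Agent.Lib.SEModule.RankOneCase

/-!
# Modules in characteristic two for groups with a strongly embedded subgroup
-/

set_option autoImplicit false
set_option linter.style.haveILetI false
set_option linter.unusedSectionVars false

namespace Cfsg.Agent.SEModule

open Module

universe u v

variable {G : Type u} [Group G] [Finite G] {H : Subgroup G}

/-- A strongly embedded subgroup holds a Sylow 2-subgroup. -/
theorem exists_sylow_le_of_se (hH : Cfsg.IsStronglyEmbedded H) : ∃ S : Sylow 2 G, (S : Subgroup G) ≤ H := by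
  classical
  haveI : Fact (Nat.Prime 2) := ⟨Nat.prime_two⟩
  obtain ⟨T⟩ : Nonempty (Sylow 2 H) := inferInstance
  set T' := (T : Subgroup H).map H.subtype with hT'
  obtain ⟨Q, hQ⟩ := ((T.2).map H.subtype).exists_le_sylow
  refine ⟨Q, ?_⟩
  have hTQ : T' ≤ (Q : Subgroup G) := hQ
  have hQH : (Q : Subgroup G) ⊓ H = T' := by
    refine le_antisymm (fun x hx => ?_) (le_inf hTQ (Subgroup.map_subtype_le _))
    have hmax := T.3 (Q := ((Q : Subgroup G) ⊓ H).subgroupOf H)
      ((Q.2.to_le inf_le_left).comap_of_injective H.subtype H.subtype_injective)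
      (fun y hy => ⟨hTQ ⟨y, hy, rfl⟩, y.2⟩)
    exact ⟨⟨x, hx.2⟩, hmax ▸ (show (⟨x, hx.2⟩ : H) ∈ ((Q : Subgroup G) ⊓ H).subgroupOf H from hx), rfl⟩
  by_contra hne
  have := Q.2.isNilpotent
  have hlt : T'.subgroupOf (Q : Subgroup G) < ⊤ := by
    rw [lt_top_iff_ne_top, Ne, Subgroup.subgroupOf_eq_top]
    exact fun h => hne (h.trans (Subgroup.map_subtype_le _))
  obtain ⟨g, hg, hgn⟩ := SetLike.exists_of_lt (Group.normalizerCondition_of_isNilpotent _ hlt)
  refine hgn ?_
  obtain ⟨t, ht⟩ := exists_prime_orderOf_dvd_card' (G := T') (p := 2) (by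
    rw [hT', Subgroup.card_subtype, T.card_eq_multiplicity]
    exact dvd_pow_self 2 (Nat.Prime.factorization_pos_of_dvd Nat.prime_two Nat.card_pos.ne' hH.2.1.two_dvd).ne')
  have htT : (t : G) ∈ T' := t.2
  have ht2 : orderOf (t : G) = 2 := by rw [Subgroup.orderOf_coe, ht]
  have hconj : (g : G) * t * (g : G)⁻¹ ∈ T' :=
    Subgroup.mem_subgroupOf.1 ((Subgroup.mem_normalizer_iff.1 hg ⟨t, hTQ htT⟩).1 htT)
  have hgH : (g : G) ∈ H :=
    Invol.se_mem_of_conj hH ht2 (Subgroup.map_subtype_le _ htT) (Subgroup.map_subtype_le _ hconj)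
  show (g : G) ∈ T'
  rw [← hQH]
  exact ⟨g.2, hgH⟩

/-- S3841 from the main statement on strongly embedded subgroups. -/
theorem module_dimensions (hB : BenderStmt.{u}) (hH : Cfsg.IsStronglyEmbedded H) (S : Sylow 2 G)
    {V : Type v} [AddCommGroup V] [Module (ZMod 2) V] [Module.Finite (ZMod 2) V]
    (ρ : Representation (ZMod 2) G V) (hρ : Function.Injective ρ) :
    (∀ k : ℕ, Nat.card ↥(S : Subgroup G) = 2 ^ k → 2 * k ≤ finrank (ZMod 2) V) ∧
    ∀ n : ℕ, (∀ z ∈ (S : Subgroup G) ⊓ Subgroup.centralizer ((S : Subgroup G) : Set G), z ^ 2 = 1) →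
      Nat.card ↥((S : Subgroup G) ⊓ Subgroup.centralizer ((S : Subgroup G) : Set G)) = 2 ^ n →
      ∀ s ∈ (S : Subgroup G), s ≠ 1 → n ≤ finrank (ZMod 2) ↥(LinearMap.range (ρ s - 1)) := by
  classical
  haveI : Fact (Nat.Prime 2) := ⟨Nat.prime_two⟩
  have hρ2 : ∀ s : G, orderOf s = 2 → ρ s ≠ 1 := fun s hs h =>
    Invol.ne_one hs (hρ (by rw [h, map_one]))
  refine ⟨fun k hk => ?_, fun n hsq hn s hs hs1 => ?_⟩
  · by_cases hR : BrauerSuzuki.RankOne G
    · exact rankOne_dim ρ hH hρ hR S hk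
    -- two commuting involutions, moved into `H`
    obtain ⟨a, b, ha, hb, hab, hne⟩ :
        ∃ a b : G, orderOf a = 2 ∧ orderOf b = 2 ∧ Commute a b ∧ a ≠ b := by
      simp only [BrauerSuzuki.RankOne, not_forall] at hR
      obtain ⟨a, b, ha, hb, hab, hne⟩ := hR
      exact ⟨a, b, ha, hb, hab, hne⟩
    obtain ⟨z, hzH, hz⟩ := Invol.exists_invol hH.2.1
    obtain ⟨g, hg⟩ := isConj_iff.1 (Invol.se_isConj hH ha hz)
    have hb' : orderOf (g * b * g⁻¹) = 2 := (Invol.order_conj g b).trans hb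
    have hc : z * (g * b * g⁻¹) = g * b * g⁻¹ * z := by
      rw [← hg]
      calc g * a * g⁻¹ * (g * b * g⁻¹) = g * (a * b) * g⁻¹ := by group
        _ = g * (b * a) * g⁻¹ := by rw [hab.eq]
        _ = _ := by group
    have hbH : g * b * g⁻¹ ∈ H :=
      Invol.se_centralizer_le hH hz hzH (Subgroup.mem_centralizer_singleton_iff.2 hc.symm)
    obtain ⟨A, n, k', t, x, hF⟩ := exists_facts hB hH ⟨z, g * b * g⁻¹, hzH, hbH, hz, hb',
      fun e => hne (by rw [← hg] at e; simpa using e), hc⟩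
    have hk' : k' = k := Nat.pow_right_injective le_rfl ((hF.sylow S).symm.trans hk)
    subst hk'
    have hker : ∀ g : G, ρ g = 1 → g ∈ H.normalCore := fun g hg => by
      rw [hρ (hg.trans (map_one ρ).symm)]; exact one_mem _
    by_cases hk3 : k' = 3
    · subst hk3
      have hn3 : n = 3 := by
        have h1 : n ≤ 3 := hF.le_k
        have h2 : 2 ≤ n := hF.two_le
        have h3 : n ≠ 2 := fun h => hF.not_exc ⟨rfl, h⟩
        omega
      have h := rank_bound hB ρ hH hρ2 hF.le hF.sq hz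
      rw [hF.card, hn3] at h
      have h' := (Nat.pow_le_pow_iff_right one_lt_two).1 h
      have := two_mul_rk_le (g := ρ z) (by rw [← map_mul, Invol.mul_self hz, map_one])
      omega
    · exact two_mul_le_finrank ρ hF hker hk3
  · -- pass to the involution in the cyclic group of `s`
    obtain ⟨j, hj⟩ := IsPGroup.iff_orderOf.1 S.2 ⟨s, hs⟩
    rw [Subgroup.orderOf_mk] at hj
    cases j with
    | zero => exact absurd (orderOf_eq_one_iff.1 hj) hs1
    | succ j =>
      have ho : orderOf (s ^ 2 ^ j) = 2 := by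
        rw [orderOf_pow_of_dvd (by positivity) (hj ▸ pow_dvd_pow 2 (by omega)), hj, pow_succ,
          Nat.mul_div_cancel_left _ (by positivity)]
      obtain ⟨T, hT⟩ := exists_sylow_le_of_se hH
      obtain ⟨g, hg⟩ := MulAction.exists_smul_eq G S T
      set Z := (S : Subgroup G) ⊓ Subgroup.centralizer ((S : Subgroup G) : Set G)
      have hE : Z.map (MulAut.conj g).toMonoidHom ≤ H := by
        refine le_trans ?_ hT
        rw [← hg, Sylow.coe_subgroup_smul]
        rintro _ ⟨x, hx, rfl⟩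
        exact Subgroup.smul_mem_pointwise_smul x (MulAut.conj g) _ hx.1
      have hsqE : ∀ a ∈ Z.map (MulAut.conj g).toMonoidHom, a * a = 1 := by
        rintro _ ⟨x, hx, rfl⟩
        rw [← map_mul, ← pow_two, hsq x hx, map_one]
      have h := rank_bound hB ρ hH hρ2 hE hsqE ho
      rw [Subgroup.card_map_of_injective (MulAut.conj g).injective, hn] at h
      refine ((Nat.pow_le_pow_iff_right one_lt_two).1 h).trans ?_
      rw [map_pow, ← mul_geom_sum (ρ s) (2 ^ j)]
      exact rk_mul_right_le _ _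

end Cfsg.Agent.SEModule
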