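import Cfsg.Agent.Lib.RankOneW.Basic
import Cfsg.Agent.Lib.RankOne.InvertedCyclic
import Cfsg.Agent.Lib.RankOne.Centralisers
import Cfsg.Agent.Lib.SERegular.FromSE
import Cfsg.Agent.Lib.SEBender.Core
import Cfsg.Agent.Lib.Involutions.StronglyEmbedded

/-!
# The torus and the involutions of a strongly embedded subgroup of rank two or more

Read modulo the core, from the statement that such a subgroup gives the rank-one set-up.
-/

set_option autoImplicit false
set_option linter.style.haveILetI false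
set_option linter.unusedSectionVars false

namespace Cfsg.Agent.SEModule

open Subgroup MulAction

universe u

/-- A strongly embedded subgroup of core one with two commuting involutions gives the rank-one set-up. -/
def BenderStmt : Prop :=
  ∀ (G : Type u) [Group G] [Finite G] (H : Subgroup G), Cfsg.IsStronglyEmbedded H → H.normalCore = ⊥ →
    (∃ s t : G, s ∈ H ∧ t ∈ H ∧ orderOf s = 2 ∧ orderOf t = 2 ∧ s ≠ t ∧ s * t = t * s) →
    ∃ (t : G) (Q : Subgroup G), Cfsg.IsRankOneSetup G (G ⧸ H) ((1 : G) : G ⧸ H) t Q ∧ IsPGroup 2 Q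

/-- The statement follows from the main statement on strongly embedded subgroups. -/
theorem benderStmt_of
    (h : ∀ (G : Type u) [Group G] [Finite G] (H : Subgroup G), Cfsg.IsStronglyEmbedded H → H.normalCore = ⊥ →
      (∃ s t : G, s ∈ H ∧ t ∈ H ∧ orderOf s = 2 ∧ orderOf t = 2 ∧ s ≠ t ∧ s * t = t * s) →
      (∀ s t : G, s ∈ H → t ∈ H → orderOf s = 2 → orderOf t = 2 → s * t = t * s) ∧
        Odd ((SERegular.invCent H).relIndex H)) : BenderStmt.{u} := by
  intro G _ _ H hH hcore htwo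
  obtain ⟨hcomm, hodd⟩ := h G H hH hcore htwo
  obtain ⟨s, t, hs, ht, hs2, ht2, hne, -⟩ := htwo
  haveI : FaithfulSMul G (G ⧸ H) := by
    refine ⟨fun {g g'} h => ?_⟩
    have hker : g'⁻¹ * g ∈ (MulAction.toPermHom G (G ⧸ H)).ker := by
      rw [MonoidHom.mem_ker]
      refine Equiv.ext fun x => ?_
      show (g'⁻¹ * g) • x = x
      rw [mul_smul, h x, inv_smul_smul]
    rw [← Subgroup.normalCore_eq_ker, hcore, Subgroup.mem_bot, inv_mul_eq_one] at hker
    exact hker.symm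
  obtain ⟨g, hg⟩ : ∃ g : G, g ∉ H := by
    by_contra h'
    push Not at h'
    exact hH.1 (eq_top_iff.2 fun g _ => h' g)
  obtain ⟨t₀, Q, hS, hQ, -⟩ := SERegular.exists_regular
    (SERegular.cfg_of_se hH hcomm ⟨s, t, hs, ht, hs2, ht2, hne⟩ hodd)
    ⟨(g : G ⧸ H), fun e => hg (by rw [QuotientGroup.eq, mul_one, inv_mem_iff] at e; exact e)⟩
  exact ⟨t₀, Q, hS, hQ⟩

/-- What is used of the set-up, in the group itself. -/
structure Facts {G : Type u} [Group G] (H A : Subgroup G) (n k : ℕ) (t x : G) : Prop where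
  two_le : 2 ≤ n
  le : A ≤ H
  sq : ∀ a ∈ A, a * a = 1
  card : Nat.card A = 2 ^ n
  le_k : n ≤ k
  sylow : ∀ S : Sylow 2 G, Nat.card (S : Subgroup G) = 2 ^ k
  index : H.index = 2 ^ k + 1
  not_exc : ¬ (k = 3 ∧ n = 2)
  max : ∀ E : Subgroup G, E ≤ H → (∀ a ∈ E, a * a = 1) → Nat.card E ≤ 2 ^ n
  invol : ∀ s ∈ H, s * s = 1 → ∃ a ∈ A, a⁻¹ * s ∈ H.normalCore
  t_sq : t * t = 1
  t_not_mem : t ∉ H
  x_mem : x ∈ H
  x_inv : t * x * t = x⁻¹
  x_odd : Odd (orderOf x)
  x_pow : x ^ (2 ^ n - 1) ∈ H.normalCore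
  free : ∀ a ∈ A, a ≠ 1 → ∀ i : ℕ, a⁻¹ * (x ^ i * a * (x ^ i)⁻¹) ∈ H.normalCore → 2 ^ n - 1 ∣ i

variable {G : Type u} [Group G] [Finite G] {H : Subgroup G}

/-- An odd subgroup meets a set of elements of square one only in one. -/
theorem eq_one_of_odd {K : Subgroup G} (hK : Odd (Nat.card K)) {a : G} (ha : a ∈ K) (h : a * a = 1) : a = 1 := by
  obtain ⟨m, hm⟩ := hK
  have h1 : a ^ (2 * m + 1) = 1 := by
    rw [← hm]; exact congrArg Subtype.val (pow_card_eq_one' (x := (⟨a, ha⟩ : K)))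
  rwa [pow_succ, pow_mul, pow_two, h, one_pow, one_mul] at h1

theorem exists_facts (hB : BenderStmt.{u}) (hH : Cfsg.IsStronglyEmbedded H)
    (htwo : ∃ s t : G, s ∈ H ∧ t ∈ H ∧ orderOf s = 2 ∧ orderOf t = 2 ∧ s ≠ t ∧ s * t = t * s) :
    ∃ (A : Subgroup G) (n k : ℕ) (t x : G), Facts H A n k t x := by
  classical
  haveI : Fact (Nat.Prime 2) := ⟨Nat.prime_two⟩
  set K := H.normalCore with hKdef
  have hKodd : Odd (Nat.card K) := SEBender.odd_normalCore hH
  set π := QuotientGroup.mk' K with hπdef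
  have hπ : Function.Surjective π := QuotientGroup.mk'_surjective K
  have hker : π.ker = K := QuotientGroup.ker_mk' K
  have hKH : K ≤ H := normalCore_le H
  set Hb := H.map π with hHb
  have hmem : ∀ g : G, π g ∈ Hb ↔ g ∈ H := fun g => by
    rw [hHb, ← Subgroup.mem_comap, comap_map_eq, hker, sup_eq_left.2 hKH]
  have heq : ∀ g g' : G, π g = π g' ↔ g⁻¹ * g' ∈ K := fun g g' => QuotientGroup.eq
  have hinj2 : ∀ {a : G}, a * a = 1 → π a = 1 → a = 1 := fun {a} h2 h1 =>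
    eq_one_of_odd hKodd (by rwa [← hker, MonoidHom.mem_ker]) h2
  have horder : ∀ {s : G}, orderOf s = 2 → orderOf (π s) = 2 := fun {s} hs => by
    have h2 : s * s = 1 := by rw [← pow_two, ← hs, pow_orderOf_eq_one]
    refine Invol.order_two_of_sq (by rw [← map_mul, h2, map_one]) fun h => ?_
    rw [hinj2 h2 h, orderOf_one] at hs
    omega
  -- the image is strongly embedded
  have hHbse : Cfsg.IsStronglyEmbedded Hb := by
    refine ⟨fun e => hH.1 (eq_top_iff.2 fun g _ => (hmem g).1 (e ▸ Subgroup.mem_top _)), ?_, fun gb hgb => ?_⟩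
    · obtain ⟨s, hsH, hs⟩ := Invol.exists_invol hH.2.1
      exact Invol.even_of_invol_mem (horder hs) ((hmem s).2 hsH)
    · obtain ⟨g, rfl⟩ := hπ gb
      have hg : g ∉ H := fun h => hgb ((hmem g).2 h)
      refine (hH.2.2 g hg).of_dvd_nat ?_
      refine (Subgroup.card_dvd_of_le (K := (H ⊓ H.map (MulAut.conj g).toMonoidHom).map π) ?_).trans
        (Subgroup.card_map_dvd _ _)
      intro yb hy
      obtain ⟨h1, h2⟩ := Subgroup.mem_inf.1 hy
      obtain ⟨y, rfl⟩ := hπ yb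
      refine ⟨y, ⟨(hmem y).1 h1, ?_⟩, rfl⟩
      rw [Invol.mem_conj_map] at h2
      refine Invol.mem_conj_map.2 ((hmem _).1 ?_)
      rwa [map_mul, map_mul, map_inv]
  have hcore : Hb.normalCore = ⊥ := by
    refine (Subgroup.eq_bot_iff_forall _).2 fun yb hy => ?_
    obtain ⟨y, rfl⟩ := hπ yb
    rw [← MonoidHom.mem_ker, hker]
    intro b
    have h := hy (π b)
    rw [← map_mul, ← map_inv, ← map_mul, hmem] at h
    exact h
  obtain ⟨s₁, s₂, hs₁, hs₂, ho₁, ho₂, hne, hc12⟩ := htwo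
  have hsq₁ : s₁ * s₁ = 1 := by rw [← pow_two, ← ho₁, pow_orderOf_eq_one]
  have hsq₂ : s₂ * s₂ = 1 := by rw [← pow_two, ← ho₂, pow_orderOf_eq_one]
  have hb1 : π s₁ ≠ 1 := fun h => by
    have h' := horder ho₁; rw [h, orderOf_one] at h'; omega
  have hb2 : π s₂ ≠ 1 := fun h => by
    have h' := horder ho₂; rw [h, orderOf_one] at h'; omega
  have hb12 : π s₁ ≠ π s₂ := fun h => by
    have h12 : s₁ * s₂ = 1 := hinj2 (by
      calc s₁ * s₂ * (s₁ * s₂) = s₁ * s₂ * (s₂ * s₁) := by rw [hc12]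
        _ = s₁ * (s₂ * s₂) * s₁ := by group
        _ = 1 := by rw [hsq₂, mul_one, hsq₁]) (by rw [map_mul, h, ← map_mul, hsq₂, map_one])
    exact hne (by
      calc s₁ = s₁ * (s₂ * s₂) := by rw [hsq₂, mul_one]
        _ = s₁ * s₂ * s₂ := by group
        _ = s₂ := by rw [h12, one_mul])
  obtain ⟨tb, Q, hS, hQ2⟩ := hB _ Hb hHbse hcore ⟨π s₁, π s₂, (hmem _).2 hs₁, (hmem _).2 hs₂, horder ho₁,
    horder ho₂, hb12, by rw [← map_mul, hc12, map_mul]⟩
  haveI : FaithfulSMul (G ⧸ K) ((G ⧸ K) ⧸ Hb) := by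
    refine ⟨fun {g g'} h => ?_⟩
    have hker' : g'⁻¹ * g ∈ (MulAction.toPermHom (G ⧸ K) ((G ⧸ K) ⧸ Hb)).ker := by
      rw [MonoidHom.mem_ker]
      refine Equiv.ext fun x => ?_
      show (g'⁻¹ * g) • x = x
      rw [mul_smul, h x, inv_smul_smul]
    rw [← Subgroup.normalCore_eq_ker, hcore, Subgroup.mem_bot, inv_mul_eq_one] at hker'
    exact hker'.symm
  set pt : (G ⧸ K) ⧸ Hb := ((1 : G ⧸ K) : (G ⧸ K) ⧸ Hb) with hpt
  have hst : stabilizer (G ⧸ K) pt = Hb := MulAction.stabilizer_quotient Hb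
  have h2 : ∃ x y : G ⧸ K, x ≠ 1 ∧ y ≠ 1 ∧ x ≠ y ∧ x * x = 1 ∧ y * y = 1 ∧ x * y = y * x :=
    ⟨π s₁, π s₂, hb1, hb2, hb12, by rw [← map_mul, hsq₁, map_one], by rw [← map_mul, hsq₂, map_one],
      by rw [← map_mul, hc12, map_mul]⟩
  obtain ⟨n, hn2, hq⟩ := RankOne.qSize_pow hS h2
  obtain ⟨k₀, hk₀, hk₀mem, -, -⟩ := RankOne.exists_generator hS h2
  set I := RankOne.invSub hS h2 with hI
  have hIcard : Nat.card I = 2 ^ n := (RankOne.qSize_eq hS h2).symm.trans hq
  have hk₀ord : orderOf k₀ = 2 ^ n - 1 := by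
    have h := hq
    rw [RankOne.qSize] at h
    rw [← Nat.card_zpowers, ← h, Nat.add_sub_cancel]
    exact Nat.card_congr (Equiv.subtypeEquivRight fun z => (hk₀mem z).symm)
  -- the Sylow subgroups
  obtain ⟨S₀, hS₀⟩ := SEBender.exists_sylow_eq hS hQ2
  obtain ⟨k, hk⟩ := IsPGroup.iff_card.1 hQ2
  have hmapS : ∀ S : Sylow 2 G, Nat.card ((S : Subgroup G).map π) = Nat.card (S : Subgroup G) := fun S => by
    refine (Nat.card_congr (Equiv.ofBijective (fun s : (S : Subgroup G) =>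
      (⟨π s, mem_map_of_mem π s.2⟩ : (S : Subgroup G).map π)) ⟨fun a b h => ?_, ?_⟩)).symm
    · have h' : (a : G)⁻¹ * b ∈ (S : Subgroup G) ⊓ K :=
        Subgroup.mem_inf.2 ⟨mul_mem (inv_mem a.2) b.2, (heq _ _).1 (congrArg Subtype.val h)⟩
      have hbot : (S : Subgroup G) ⊓ K = ⊥ := by
        refine Subgroup.inf_eq_bot_of_coprime ?_
        obtain ⟨j, hj⟩ := IsPGroup.iff_card.1 S.isPGroup'
        rw [hj]; exact (Nat.coprime_two_left.2 hKodd).pow_left j
      rw [hbot, Subgroup.mem_bot, inv_mul_eq_one] at h'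
      exact Subtype.ext h'
    · rintro ⟨_, s, hs, rfl⟩
      exact ⟨⟨s, hs⟩, rfl⟩
  have hsylb : ∀ P : Sylow 2 (G ⧸ K), Nat.card (P : Subgroup (G ⧸ K)) = 2 ^ k := fun P => by
    rw [Nat.card_congr (S₀.equiv P).toEquiv |>.symm, hS₀, hk]
  have hsyl : ∀ S : Sylow 2 G, Nat.card (S : Subgroup G) = 2 ^ k := fun S => by
    rw [← hmapS S]
    exact hsylb (S.mapSurjective hπ)
  -- a Sylow subgroup inside `H`, mapped onto `Q`
  have hindex : H.index = 2 ^ k + 1 := by
    have h := RankOne.card_points hS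
    rw [hk] at h
    rw [← h, ← Hb.index_eq_card, hHb, Subgroup.index_map, hker, sup_eq_left.2 hKH,
      MonoidHom.range_eq_top.2 hπ, Subgroup.index_top, mul_one]
  obtain ⟨S, hSH⟩ : ∃ S : Sylow 2 G, (S : Subgroup G) ≤ H := by
    obtain ⟨S⟩ : Nonempty (Sylow 2 H) := inferInstance
    obtain ⟨S', hS'⟩ := ((S.2).map H.subtype).exists_le_sylow
    refine ⟨S', le_of_eq_of_le ?_ (Subgroup.map_subtype_le (S : Subgroup H))⟩
    refine (Subgroup.eq_of_le_of_card_ge hS' ?_).symm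
    rw [Subgroup.card_subtype, hsyl S']
    have h1 : 2 ^ k ∣ Nat.card H := by
      have h2 : 2 ^ k ∣ Nat.card H * H.index := by
        rw [H.card_mul_index, ← hsyl S']; exact Subgroup.card_subgroup_dvd_card _
      refine (Nat.Coprime.pow_left k ?_).dvd_of_dvd_mul_right h2
      rw [hindex, Nat.coprime_two_left]
      rcases Nat.eq_zero_or_pos k with rfl | hk0
      · have he := hS.even_card
        rw [hk, pow_zero] at he
        exact absurd he Nat.not_even_one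
      · exact (Nat.even_pow.2 ⟨even_two, hk0.ne'⟩).add_one
    exact Nat.le_of_dvd Nat.card_pos (S.pow_dvd_card_of_pow_dvd_card h1)
  have hSQ : (S : Subgroup G).map π = Q := by
    have hQH : Q ≤ Hb := hS.le.trans hst.le
    have hSb : (S : Subgroup G).map π ≤ Hb := Subgroup.map_mono hSH
    have hP : IsPGroup 2 ↥((S : Subgroup G).map π ⊔ Q) := (S.isPGroup'.map π).to_sup_of_normal_right' hQ2 fun y hy => by
      refine Subgroup.mem_normalizer_fintype fun z hz => hS.conj_mem y (hst.ge (hSb hy)) z hz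
    have h1 : Q = (S : Subgroup G).map π ⊔ Q := hS₀ ▸ (S₀.is_maximal' hP (hS₀ ▸ le_sup_right)).symm
    refine Subgroup.eq_of_le_of_card_ge (h1 ▸ le_sup_left) ?_
    rw [hmapS S, hsyl S, hk]
  -- lifts of `t` and of `k₀`
  have htb : tb ∉ Hb := fun h => hS.not_mem (hst.ge h)
  obtain ⟨g, hg⟩ := hπ tb
  obtain ⟨e, m, hm, he⟩ := Nat.exists_eq_pow_mul_and_not_dvd (orderOf_pos g).ne' 2 (by norm_num)
  have hmodd : Odd m := Nat.not_even_iff_odd.1 fun h => hm h.two_dvd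
  set t := g ^ m with ht
  have htπ : π t = tb := by
    obtain ⟨j, rfl⟩ := hmodd
    rw [ht, map_pow, hg, pow_succ, pow_mul, pow_two, hS.mul_self, one_pow, one_mul]
  have ht2 : t * t = 1 := by
    have hord : orderOf t = 2 ^ e := by
      rw [ht, orderOf_pow_of_dvd (by rintro rfl; exact hm (dvd_zero 2)) (he ▸ dvd_mul_left m _), he,
        Nat.mul_div_cancel _ (Nat.pos_of_ne_zero (by rintro rfl; exact hm (dvd_zero 2)))]
    have hsq : t * t ∈ K := by rw [← hker, MonoidHom.mem_ker, map_mul, htπ, hS.mul_self]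
    have h1 : orderOf (t * t) ∣ 2 ^ e := hord ▸ orderOf_dvd_of_pow_eq_one (by
      rw [← pow_two, ← pow_mul, mul_comm, pow_mul, pow_orderOf_eq_one, one_pow])
    have h3 : (orderOf (t * t)).Coprime 2 :=
      Nat.Coprime.coprime_dvd_left (Subgroup.orderOf_dvd_natCard K hsq) (Nat.coprime_two_right.2 hKodd)
    exact orderOf_eq_one_iff.1 (Nat.Coprime.eq_one_of_dvd (h3.pow_right e) h1)
  have htH : t ∉ H := fun h => htb (htπ ▸ (hmem t).2 h)
  have hti : t⁻¹ = t := inv_eq_of_mul_eq_one_right ht2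
  let P : Subgroup G := H ⊓ H.map (MulAut.conj t).toMonoidHom
  have hPodd : Odd (Nat.card P) := hH.2.2 t htH
  have hPmem : ∀ y, y ∈ P ↔ y ∈ H ∧ t * y * t ∈ H := fun y => by
    show y ∈ H ⊓ _ ↔ _
    rw [Subgroup.mem_inf, Invol.mem_conj_map, hti]
  have htP : ∀ y ∈ P, t * y * t ∈ P := fun y hy => by
    rw [hPmem] at hy ⊢
    exact ⟨hy.2, by rw [show t * (t * y * t) * t = (t * t) * y * (t * t) by group, ht2, one_mul, mul_one]; exact hy.1⟩
  obtain ⟨y, hy⟩ := hπ k₀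
  obtain ⟨hk1, hk2⟩ := Subgroup.mem_inf.1 hk₀.1
  have hk₀i : tb * k₀ * tb = k₀⁻¹ := by
    have h := hk₀.2
    rwa [inv_eq_of_mul_eq_one_right hS.mul_self] at h
  have hyP : y ∈ P := (hPmem y).2 ⟨(hmem y).1 (hy ▸ hst.le hk1), (hmem _).1 (by
    rw [map_mul, map_mul, htπ, hy, hk₀i]
    exact inv_mem (hst.le hk1))⟩
  obtain ⟨f, hf, x, hx, hfx, htf, htx⟩ : ∃ f ∈ P, ∃ x ∈ P, y = f * x ∧ t * f * t = f ∧ t * x * t = x⁻¹ := by
    obtain ⟨j, hj⟩ := hPodd
    set s := (t * y * t)⁻¹ * y with hs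
    have hsP : s ∈ P := mul_mem (inv_mem (htP y hyP)) hyP
    have h1 : s ^ (2 * j + 1) = 1 := by
      rw [← hj]; exact congrArg Subtype.val (pow_card_eq_one' (x := (⟨s, hsP⟩ : P)))
    have hts : t * s * t = s⁻¹ := by
      rw [hs]
      simp only [mul_inv_rev, hti, inv_inv]
      rw [show t * (t * (y⁻¹ * t) * y) * t = (t * t) * y⁻¹ * (t * y * t) by group, ht2, one_mul]
    have hi : t * s ^ (j + 1) * t = (s ^ (j + 1))⁻¹ := by
      have h : (t * s * t⁻¹) ^ (j + 1) = t * s ^ (j + 1) * t⁻¹ := conj_pow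
      rw [hti, hts, inv_pow] at h
      exact h.symm
    refine ⟨y * (s ^ (j + 1))⁻¹, mul_mem hyP (inv_mem (pow_mem hsP _)), _, pow_mem hsP (j + 1), by group, ?_, hi⟩
    have hi' : t * (s ^ (j + 1))⁻¹ * t = s ^ (j + 1) := by
      have := congrArg (·⁻¹) hi
      simp only [mul_inv_rev, hti, inv_inv] at this
      rw [mul_assoc]; exact this
    calc t * (y * (s ^ (j + 1))⁻¹) * t = t * y * (t * t) * (s ^ (j + 1))⁻¹ * t := by rw [ht2, mul_one]; group
      _ = t * y * t * (s ^ (j + 1) * s ^ (j + 1)) * (s ^ (j + 1))⁻¹ := by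
        rw [show t * y * (t * t) * (s ^ (j + 1))⁻¹ * t = t * y * t * (t * (s ^ (j + 1))⁻¹ * t) by group, hi']
        group
      _ = y * (s ^ (j + 1))⁻¹ := by
        rw [← pow_add, show j + 1 + (j + 1) = 2 * j + 1 + 1 by ring, pow_succ, h1, one_mul, hs]; group
  have hπx : π x = k₀ := by
    have e1 : π f * π x = k₀ := by rw [← map_mul, ← hfx, hy]
    have e2 : tb * π f * tb = π f := by rw [← htπ, ← map_mul, ← map_mul, htf]
    have e3 : tb * π x * tb = (π x)⁻¹ := by rw [← htπ, ← map_mul, ← map_mul, htx, map_inv]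
    have e4 : tb * π f * tb * (tb * π x * tb) = k₀⁻¹ := by
      rw [show tb * π f * tb * (tb * π x * tb) = tb * π f * (tb * tb) * π x * tb by group, hS.mul_self,
        mul_one, mul_assoc tb, e1, hk₀i]
    rw [e2, e3] at e4
    -- `f = x⁻¹ f⁻¹ x`, so `x` conjugates `f` to its inverse
    have e5 : π f * (π x)⁻¹ = (π x)⁻¹ * (π f)⁻¹ := by rw [e4, ← e1, mul_inv_rev]
    have hf1 : π f = 1 := by
      have e6 : π x * π f * (π x)⁻¹ = (π f)⁻¹ := by rw [mul_assoc, e5]; group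
      obtain ⟨l, hl⟩ : Odd (orderOf x) := hPodd.of_dvd_nat (Subgroup.orderOf_dvd_natCard P hx)
      have e8 : ∀ i : ℕ, (π x) ^ (2 * i) * π f * ((π x) ^ (2 * i))⁻¹ = π f := by
        intro i
        induction i with
        | zero => simp
        | succ i ih =>
          rw [show 2 * (i + 1) = 1 + (1 + 2 * i) by ring, pow_add, pow_add, pow_one,
            show π x * (π x * π x ^ (2 * i)) * π f * (π x * (π x * π x ^ (2 * i)))⁻¹ =
              π x * (π x * (π x ^ (2 * i) * π f * (π x ^ (2 * i))⁻¹) * (π x)⁻¹) * (π x)⁻¹ by group, ih, e6,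
            show π x * (π f)⁻¹ * (π x)⁻¹ = (π x * π f * (π x)⁻¹)⁻¹ by group, e6, inv_inv]
      have e7 : (π x) ^ (2 * l + 1) = 1 := by rw [← map_pow, ← hl, pow_orderOf_eq_one, map_one]
      have e9 := e8 l
      rw [show (π x) ^ (2 * l) = (π x)⁻¹ from eq_inv_of_mul_eq_one_left (by rw [← pow_succ, e7]), inv_inv] at e9
      have e10 : π f = (π f)⁻¹ := by
        conv_rhs => rw [← e6, ← e9]
        group
      have hPb : Odd (Nat.card (P.map π)) := hPodd.of_dvd_nat (Subgroup.card_map_dvd _ _)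
      exact eq_one_of_odd hPb (mem_map_of_mem π hf) (by
        conv_lhs => arg 1; rw [e10]
        exact inv_mul_cancel _)
    rwa [hf1, one_mul] at e1
  -- the involutions
  let A : Subgroup G := (S : Subgroup G) ⊓ I.comap π
  have hI2 : ∀ z ∈ I, z * z = 1 := fun z hz => RankOne.invSub_sq hS h2 hz
  have hbot : ∀ z ∈ (S : Subgroup G), π z = 1 → z = 1 := fun z hz h1 => by
    have hb : (S : Subgroup G) ⊓ K = ⊥ := by
      refine Subgroup.inf_eq_bot_of_coprime ?_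
      rw [hsyl S]; exact (Nat.coprime_two_left.2 hKodd).pow_left k
    have h' : z ∈ (S : Subgroup G) ⊓ K := Subgroup.mem_inf.2 ⟨hz, by rwa [← hker, MonoidHom.mem_ker]⟩
    rwa [hb, Subgroup.mem_bot] at h'
  have hAsq : ∀ a ∈ A, a * a = 1 := fun a ha =>
    hbot _ (mul_mem ha.1 ha.1) (by rw [map_mul]; exact hI2 _ ha.2)
  have hIQ : ∀ z ∈ I, ∃ a ∈ A, π a = z := fun z hz => by
    have hzQ : z ∈ (S : Subgroup G).map π := hSQ.symm ▸ RankOne.invSub_le_Q hS h2 hz
    obtain ⟨a, ha, rfl⟩ := hzQ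
    exact ⟨a, ⟨ha, hz⟩, rfl⟩
  have hAcard : Nat.card A = 2 ^ n := by
    rw [← hIcard]
    refine Nat.card_eq_of_bijective (fun a : A => (⟨π a, a.2.2⟩ : I)) ⟨fun a b h => ?_, fun z => ?_⟩
    · have h' := hbot _ (mul_mem (inv_mem a.2.1) b.2.1)
        (by rw [map_mul, map_inv, inv_mul_eq_one]; exact congrArg Subtype.val h)
      rw [inv_mul_eq_one] at h'
      exact Subtype.ext h'
    · obtain ⟨a, ha, e⟩ := hIQ z z.2
      exact ⟨⟨a, ha⟩, Subtype.ext e⟩
  have hinvI : ∀ s ∈ H, s * s = 1 → π s ∈ I := fun s hs h => by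
    rcases eq_or_ne (π s) 1 with h1 | h1
    · rw [h1]; exact one_mem I
    · exact Or.inr ⟨hst.ge ((hmem s).2 hs), h1, by rw [← map_mul, h, map_one]⟩
  refine ⟨A, n, k, t, x, hn2, inf_le_left.trans hSH, hAsq, hAcard, ?_, hsyl, hindex, ?_, ?_, ?_, ht2, htH,
    ((hPmem x).1 hx).1, htx, hPodd.of_dvd_nat (Subgroup.orderOf_dvd_natCard P hx), ?_, ?_⟩
  · have h := Nat.le_of_dvd Nat.card_pos (Subgroup.card_dvd_of_le (inf_le_left : A ≤ (S : Subgroup G)))
    rw [hAcard, hsyl S] at h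
    exact (Nat.pow_le_pow_iff_right one_lt_two).1 h
  · rintro ⟨hk3, hn2'⟩
    -- the torus of order three has a fixed point on `Q ∖ 1`
    subst hk3; subst hn2'
    haveI : Fact (Nat.Prime 3) := ⟨Nat.prime_three⟩
    set C := Subgroup.zpowers k₀ with hC
    have hCH : C ≤ normalizer (Q : Set (G ⧸ K)) := Subgroup.zpowers_le.2
      (Subgroup.mem_normalizer_fintype fun z hz => hS.conj_mem k₀ hk1 z hz)
    letI : MulAction C Q :=
      { smul := fun c q => ⟨(c : G ⧸ K) * q * (c : G ⧸ K)⁻¹, (mem_normalizer_iff.1 (hCH c.2) q).1 q.2⟩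
        one_smul := fun q => Subtype.ext (by show (1 : G ⧸ K) * q * (1 : G ⧸ K)⁻¹ = q; group)
        mul_smul := fun c d q => Subtype.ext (by
          show (c * d : G ⧸ K) * q * (c * d : G ⧸ K)⁻¹ = c * (d * q * (d : G ⧸ K)⁻¹) * (c : G ⧸ K)⁻¹
          group) }
    have hC3 : IsPGroup 3 C := IsPGroup.iff_card.2 ⟨1, by rw [hC, Nat.card_zpowers, hk₀ord]; norm_num⟩
    have hmod := hC3.card_modEq_card_fixedPoints Q
    have hfix : MulAction.fixedPoints C Q = {1} := by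
      ext q
      refine ⟨fun hq => ?_, fun hq c => ?_⟩
      · have h1 : k₀ * (q : G ⧸ K) * k₀⁻¹ = q := congrArg Subtype.val (hq ⟨k₀, Subgroup.mem_zpowers k₀⟩)
        have hk1' : k₀ ≠ 1 := fun e => by rw [e, orderOf_one] at hk₀ord; omega
        have h3 : (q : G ⧸ K) ∈ Q ⊓ Subgroup.centralizer {k₀} :=
          ⟨q.2, Subgroup.mem_centralizer_singleton_iff.2 (mul_inv_eq_iff_eq_mul.1 h1).symm⟩
        rw [RankOne.inverted_fpf hS hk₀ hk1', Subgroup.mem_bot] at h3
        exact Subtype.ext h3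
      · rw [Set.mem_singleton_iff.1 hq]
        exact Subtype.ext (by show (c : G ⧸ K) * 1 * (c : G ⧸ K)⁻¹ = 1; group)
    rw [hk, hfix] at hmod
    simp [Nat.ModEq] at hmod
  · intro E hEH hE
    rw [← hIcard]
    refine Nat.card_le_card_of_injective (fun a : E => (⟨π a, hinvI a (hEH a.2) (hE a a.2)⟩ : I)) fun a b h => ?_
    have h1 : π ((a : G)⁻¹ * b) = 1 := by rw [map_mul, map_inv, inv_mul_eq_one]; exact congrArg Subtype.val h
    have h' := hinj2 (hE _ (mul_mem (inv_mem a.2) b.2)) h1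
    rw [inv_mul_eq_one] at h'
    exact Subtype.ext h'
  · intro s hs h
    obtain ⟨a, ha, hae⟩ := hIQ _ (hinvI s hs h)
    exact ⟨a, ha, (heq a s).1 hae⟩
  · rw [← hKdef, ← hker, MonoidHom.mem_ker, map_pow, hπx, ← hk₀ord, pow_orderOf_eq_one]
  · intro a ha ha1 i hi
    rw [← heq, map_mul, map_mul, map_inv, map_pow, hπx] at hi
    rw [← hk₀ord]
    refine orderOf_dvd_of_pow_eq_one ?_
    by_contra hne'
    have h3 : π a ∈ Q ⊓ Subgroup.centralizer {k₀ ^ i} :=
      ⟨RankOne.invSub_le_Q hS h2 ha.2, Subgroup.mem_centralizer_singleton_iff.2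
        (mul_inv_eq_iff_eq_mul.1 hi.symm).symm⟩
    rw [RankOne.inverted_fpf hS (RankOne.pow_mem_inverted hS hk₀ i) hne', Subgroup.mem_bot] at h3
    exact ha1 (hbot a ha.1 h3)

end Cfsg.Agent.SEModule
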